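import Groth.Agent.L29.DCoh.Gen.Thick

/-!
A localizing class containing a compact generator is everything.
-/

set_option autoImplicit false
set_option backward.defeqAttrib.useBackward true
set_option backward.isDefEq.respectTransparency false
set_option backward.isDefEq.respectTransparency.types false

universe t v u

open CategoryTheory CategoryTheory.Limits CategoryTheory.Pretriangulated

namespace Groth.L29.BC

open Groth.L29.Thick

variable {D : Type u} [Category.{v} D] [Preadditive D] [HasZeroObject D] [HasShift D ℤ]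
  [∀ n : ℤ, (shiftFunctor D n).Additive] [Pretriangulated D] [HasCoproducts.{t} D]
  [HasColimitsOfShape (Discrete ℕ) D]

/-- the localizing class of a compact generator -/
theorem localizing_top {G : D} [∀ Y : D, ∀ n : ℤ, Small.{t} (G⟦n⟧ ⟶ Y)] (P S : ObjectProperty D)
    (hPiso : ∀ {A B : D}, (A ≅ B) → P A → P B) (hPG : ∀ n : ℤ, P (G⟦n⟧))
    (hPsum : ∀ {ι : Type t} (K : ι → D), (∀ i, S (K i)) → (∀ i, P (K i)) → P (∐ K))
    (hPT : ∀ (T : Triangle D), T ∈ distTriang D → S T.obj₁ → S T.obj₂ → P T.obj₁ → P T.obj₂ → P T.obj₃)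
    (hSG : ∀ n : ℤ, S (G⟦n⟧)) (hSsum : ∀ {ι : Type t} (K : ι → D), (∀ i, S (K i)) → S (∐ K))
    (hSN : ∀ (X : ℕ → D), (∀ i, S (X i)) → S (∐ X))
    (hST : ∀ (T : Triangle D), T ∈ distTriang D → S T.obj₁ → S T.obj₂ → S T.obj₃)
    (hcpt : ∀ n : ℤ, Cpt.{t} S (G⟦n⟧))
    (hgen : ∀ L, S L → (∀ (n : ℤ) (φ : G⟦n⟧ ⟶ L), φ = 0) → IsZero L)
    {E : D} (hE : S E) : P E := by
  classical
  -- a step killing the kernel
  have step : ∀ p : Σ A : D, {_e : A ⟶ E // S A ∧ P A}, ∃ (A' : D) (e' : A' ⟶ E) (_ : S A' ∧ P A') (s : p.1 ⟶ A'),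
      s ≫ e' = p.2.1 ∧ ∀ (n : ℤ) (φ : G⟦n⟧ ⟶ p.1), φ ≫ p.2.1 = 0 → φ ≫ s = 0 := fun ⟨A, e, hSA, hPA⟩ => by
    haveI : ∀ n : ULift.{t} ℤ, Small.{t} {φ : G⟦n.down⟧ ⟶ A // φ ≫ e = 0} := fun n =>
      small_of_injective Subtype.val_injective
    let K : Type t := Σ n : ULift.{t} ℤ, Shrink.{t} {φ : G⟦n.down⟧ ⟶ A // φ ≫ e = 0}
    let ev : (∐ fun k : K => G⟦k.1.down⟧) ⟶ A := Sigma.desc fun k => ((equivShrink _).symm k.2).1
    obtain ⟨A', s, d, hT⟩ := distinguished_cocone_triangle ev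
    obtain ⟨e', he'⟩ := Triangle.yoneda_exact₂ _ hT e (Sigma.hom_ext _ _ fun k => by
      simpa [ev] using ((equivShrink _).symm k.2).2)
    refine ⟨A', e', ⟨hST _ hT (hSsum _ fun k => hSG _) hSA,
      hPT _ hT (hSsum _ fun k => hSG _) hSA (hPsum _ (fun k => hSG _) fun k => hPG _) hPA⟩, s, he'.symm, fun n φ hφ => ?_⟩
    have h0 : ev ≫ s = 0 := comp_distTriang_mor_zero₁₂ _ hT
    have := Sigma.ι (fun k : K => G⟦k.1.down⟧) ⟨⟨n⟩, equivShrink _ ⟨φ, hφ⟩⟩ ≫= h0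
    simpa [ev] using this
  choose A' e' hA' st hst hkill using step
  let K₀ : Type t := Σ n : ULift.{t} ℤ, Shrink.{t} (G⟦n.down⟧ ⟶ E)
  let X₀ : D := ∐ fun k : K₀ => G⟦k.1.down⟧
  let e₀ : X₀ ⟶ E := Sigma.desc fun k => (equivShrink _).symm k.2
  let seq : ℕ → Σ A : D, {_e : A ⟶ E // S A ∧ P A} := fun k => Nat.rec
    ⟨X₀, e₀, hSsum _ fun _ => hSG _, hPsum _ (fun _ => hSG _) fun _ => hPG _⟩ (fun _ p => ⟨A' p, e' p, hA' p⟩) k
  let X : ℕ → D := fun k => (seq k).1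
  let e : ∀ k, X k ⟶ E := fun k => (seq k).2.1
  have hSX : ∀ k, S (X k) := fun k => (seq k).2.2.1
  have hPX : ∀ k, P (X k) := fun k => (seq k).2.2.2
  let f : ∀ k, X k ⟶ X (k + 1) := fun k => st (seq k)
  have hfe : ∀ k, f k ≫ e (k + 1) = e k := fun k => hst (seq k)
  have hk : ∀ k (n : ℤ) (φ : G⟦n⟧ ⟶ X k), φ ≫ e k = 0 → φ ≫ f k = 0 := fun k => hkill (seq k)
  let s := DerLim.shiftMap X f
  have hιs : ∀ k, Sigma.ι X k ≫ s = f k ≫ Sigma.ι X (k + 1) := fun k => Sigma.ι_desc _ _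
  -- countable sums indexed in the small universe
  let θ : (∐ X) ⟶ ∐ fun k : ULift.{t} ℕ => X k.down :=
    Sigma.desc fun k => Sigma.ι (fun k : ULift.{t} ℕ => X k.down) ⟨k⟩
  let θ' : (∐ fun k : ULift.{t} ℕ => X k.down) ⟶ ∐ X := Sigma.desc fun k => Sigma.ι X k.down
  have hθ : θ ≫ θ' = 𝟙 _ := Sigma.hom_ext _ _ fun k => by simp [θ, θ']
  have hθ' : θ' ≫ θ = 𝟙 _ := Sigma.hom_ext _ _ fun k => by simp [θ, θ']
  have hPsumX : P (∐ X) := hPiso ⟨θ', θ, hθ', hθ⟩ (hPsum _ (fun k => hSX k.down) fun k => hPX k.down)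
  have hfin : ∀ (n : ℤ) (u : G⟦n⟧ ⟶ ∐ X), ∃ (M : ℕ) (g : ∀ k, G⟦n⟧ ⟶ X k),
      u = ∑ k ∈ Finset.range M, g k ≫ Sigma.ι X k := fun n u => by
    obtain ⟨sK, g, hg⟩ := hcpt n (fun k : ULift.{t} ℕ => X k.down) (fun k => hSX k.down) (u ≫ θ)
    refine ⟨(sK.sup fun k => k.down) + 1, fun k => if ⟨k⟩ ∈ sK then g ⟨k⟩ else 0, ?_⟩
    have hu : u = (u ≫ θ) ≫ θ' := by rw [Category.assoc, hθ, Category.comp_id]
    rw [hu, hg, Preadditive.sum_comp]
    symm
    refine Finset.sum_bij_ne_zero (fun k _ _ => (⟨k⟩ : ULift.{t} ℕ)) (fun k _ hk => ?_) (fun a _ _ b _ _ h => by simpa using h)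
      (fun b hb hb' => ⟨b.down, Finset.mem_range.2 (Nat.lt_succ_of_le (Finset.le_sup (f := fun k => k.down) hb)), by
        simpa [hb, θ'] using hb', rfl⟩) (fun k _ hk => ?_)
    · by_contra hne
      exact hk (by simp [hne])
    · by_cases hm : (⟨k⟩ : ULift.{t} ℕ) ∈ sK
      · simp [hm, θ']
      · exact absurd (by simp [hm]) hk
  have hinj : ∀ (n : ℤ) (u : G⟦n⟧ ⟶ ∐ X), u ≫ s = u → u = 0 := fun n u hu => by
    obtain ⟨M, g, hg⟩ := hfin n u
    have hj : ∀ j, u ≫ (Sigma.desc fun k => if h : k = j then eqToHom (congrArg X h) else 0) = 0 := fun j => by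
      induction j with
      | zero =>
        have h0 : s ≫ (Sigma.desc fun k => if h : k = 0 then eqToHom (congrArg X h) else 0) = 0 :=
          Sigma.hom_ext _ _ fun k => by simp [reassoc_of% hιs k]
        rw [← hu, Category.assoc, h0, comp_zero]
      | succ j ih =>
        have h0 : s ≫ (Sigma.desc fun k => if h : k = j + 1 then eqToHom (congrArg X h) else 0) =
            (Sigma.desc fun k => if h : k = j then eqToHom (congrArg X h) else 0) ≫ f j :=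
          Sigma.hom_ext _ _ fun k => by
            rw [reassoc_of% hιs k, Sigma.ι_desc, Sigma.ι_desc_assoc]
            by_cases hk : k = j
            · subst hk; simp
            · simp [hk]
        rw [← hu, Category.assoc, h0, reassoc_of% ih, zero_comp]
    rw [hg]
    refine Finset.sum_eq_zero fun j hj' => ?_
    have := hj j
    rw [hg, Preadditive.sum_comp, Finset.sum_eq_single j (fun k _ hk => by simp [hk]) (fun h => absurd hj' h)] at this
    simp only [Category.assoc, Sigma.ι_desc, dite_true, eqToHom_refl, Category.comp_id] at this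
    rw [this, zero_comp]
  obtain ⟨L, π, δ, hL⟩ := distinguished_cocone_triangle (𝟙 (∐ X) - s)
  have hSL : S L := hST _ hL (hSN X hSX) (hSN X hSX)
  have hPL : P L := hPT _ hL (hSN X hSX) (hSN X hSX) hPsumX hPsumX
  have hπ : ∀ k, Sigma.ι X k ≫ π = f k ≫ Sigma.ι X (k + 1) ≫ π := fun k => by
    have h0 : (𝟙 (∐ X) - s) ≫ π = 0 := comp_distTriang_mor_zero₁₂ _ hL
    have := Sigma.ι X k ≫= h0
    rw [Preadditive.sub_comp, Category.id_comp, Preadditive.comp_sub, comp_zero, sub_eq_zero, reassoc_of% hιs k] at this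
    exact this
  obtain ⟨a, ha⟩ : ∃ a : L ⟶ E, Sigma.desc e = π ≫ a := Triangle.yoneda_exact₂ _ hL (Sigma.desc e) (by
    change (𝟙 (∐ X) - s) ≫ Sigma.desc e = 0
    refine Sigma.hom_ext _ _ fun k => ?_
    rw [comp_zero, Preadditive.sub_comp, Category.id_comp, Preadditive.comp_sub, reassoc_of% hιs k]
    simp [hfe k])
  have hsurj : ∀ (n : ℤ) (ψ : G⟦n⟧ ⟶ E), ∃ φ : G⟦n⟧ ⟶ L, φ ≫ a = ψ := fun n ψ => by
    refine ⟨Sigma.ι (fun k : K₀ => G⟦k.1.down⟧) ⟨⟨n⟩, equivShrink _ ψ⟩ ≫ Sigma.ι X 0 ≫ π, ?_⟩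
    rw [Category.assoc, Category.assoc, ← ha, Sigma.ι_desc]
    change _ ≫ Sigma.desc _ = ψ
    simp
  have hinjL : ∀ (n : ℤ) (φ : G⟦n⟧ ⟶ L), φ ≫ a = 0 → φ = 0 := fun n φ hφ => by
    have hφδ : φ ≫ δ = 0 := by
      let adj := (shiftEquiv D (1 : ℤ)).symm.toAdjunction
      refine (adj.homEquiv (G⟦n⟧) (∐ X)).symm.injective ?_
      have hz : (adj.homEquiv (G⟦n⟧) (∐ X)).symm (φ ≫ δ) ≫ (𝟙 (∐ X) - s) = 0 := by
        rw [← adj.homEquiv_naturality_right_symm]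
        have h31 : δ ≫ (𝟙 (∐ X) - s)⟦(1 : ℤ)⟧' = 0 := comp_distTriang_mor_zero₃₁ _ hL
        change (adj.homEquiv (G⟦n⟧) (∐ X)).symm ((φ ≫ δ) ≫ (shiftFunctor D (1 : ℤ)).map (𝟙 (∐ X) - s)) = 0
        rw [Category.assoc, h31, comp_zero]
        simp [Adjunction.homEquiv_counit]
      rw [Preadditive.comp_sub, Category.comp_id, sub_eq_zero] at hz
      let i : G⟦n + (-1 : ℤ)⟧ ≅ (G⟦n⟧)⟦(-1 : ℤ)⟧ := (shiftFunctorAdd D n (-1)).app G
      have h1 := hinj (n + (-1)) (i.hom ≫ (adj.homEquiv (G⟦n⟧) (∐ X)).symm (φ ≫ δ)) (by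
        exact (Category.assoc _ _ _).trans (congrArg (i.hom ≫ ·) hz.symm))
      refine ((cancel_epi i.hom).1 (h1.trans comp_zero.symm)).trans ?_
      simp [Adjunction.homEquiv_counit]
    obtain ⟨u, hu⟩ := Triangle.coyoneda_exact₃ _ hL φ hφδ
    change φ = u ≫ π at hu
    obtain ⟨M, g, hg⟩ := hfin n u
    -- push everything into a single stage
    let T : ∀ k m, k ≤ m → (X k ⟶ X m) := fun k m h => Nat.leRecOn h (fun {i} r => r ≫ f i) (𝟙 (X k))
    have hT : ∀ k m (h : k ≤ m), T k m h ≫ Sigma.ι X m ≫ π = Sigma.ι X k ≫ π := fun k m h => by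
      induction m, h using Nat.le_induction with
      | base => simp [T, Nat.leRecOn_self]
      | succ m h ih =>
        simp only [T, Nat.leRecOn_succ h]
        rw [Category.assoc, ← hπ m]
        exact ih
    let φ' : G⟦n⟧ ⟶ X M := ∑ k : Finset.range M, g k.1 ≫ T k.1 M (Finset.mem_range.1 k.2).le
    have hφ' : φ = φ' ≫ Sigma.ι X M ≫ π := by
      rw [hu, hg, Preadditive.sum_comp, Preadditive.sum_comp, ← Finset.sum_coe_sort (Finset.range M)]
      refine Finset.sum_congr rfl fun k _ => ?_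
      rw [Category.assoc, Category.assoc, hT]
    have h0 : φ' ≫ e M = 0 := by
      rw [hφ', Category.assoc, Category.assoc, ← ha, Sigma.ι_desc] at hφ
      exact hφ
    rw [hφ', hπ M, reassoc_of% hk M n φ' h0, zero_comp]
  obtain ⟨C, q, d, hC⟩ := distinguished_cocone_triangle a
  have hC0 : IsZero C := hgen C (hST _ hC hSL hE) fun n φ => by
    have hd : φ ≫ d = 0 := by
      let adj := (shiftEquiv D (1 : ℤ)).symm.toAdjunction
      refine (adj.homEquiv (G⟦n⟧) L).symm.injective ?_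
      have hz : (adj.homEquiv (G⟦n⟧) L).symm (φ ≫ d) ≫ a = 0 := by
        rw [← adj.homEquiv_naturality_right_symm]
        have h31 : d ≫ a⟦(1 : ℤ)⟧' = 0 := comp_distTriang_mor_zero₃₁ _ hC
        change (adj.homEquiv (G⟦n⟧) E).symm ((φ ≫ d) ≫ (shiftFunctor D (1 : ℤ)).map a) = 0
        rw [Category.assoc, h31, comp_zero]
        simp [Adjunction.homEquiv_counit]
      let i : G⟦n + (-1 : ℤ)⟧ ≅ (G⟦n⟧)⟦(-1 : ℤ)⟧ := (shiftFunctorAdd D n (-1)).app G
      have h1 := hinjL (n + (-1)) (i.hom ≫ (adj.homEquiv (G⟦n⟧) L).symm (φ ≫ d))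
        ((Category.assoc _ _ _).trans ((congrArg (i.hom ≫ ·) hz).trans comp_zero))
      refine ((cancel_epi i.hom).1 (h1.trans comp_zero.symm)).trans ?_
      simp [Adjunction.homEquiv_counit]
    obtain ⟨ψ, hψ⟩ := Triangle.coyoneda_exact₃ _ hC φ hd
    change φ = ψ ≫ q at hψ
    obtain ⟨χ, hχ⟩ := hsurj n ψ
    have h12 : a ≫ q = 0 := comp_distTriang_mor_zero₁₂ _ hC
    rw [hψ, ← hχ, Category.assoc, h12, comp_zero]
  haveI : IsIso a := (Triangle.isZero₃_iff_isIso₁ _ hC).1 hC0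
  exact hPiso (asIso a) hPL

end Groth.L29.BC
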