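import Groth.Agent.L29.BC.Map
import Groth.Agent.L29.DCoh.RpushAcyclic
import Groth.Agent.L29.DCoh.RpushAffine
import Groth.Agent.L29.DCoh.RelTor
import Groth.Agent.L29.DCoh.Flat
import Groth.Agent.L29.RelPC.FlatPull
import Groth.Agent.L17.FlatBase.DegZero
import Groth.Agent.S9349

/-!
Direct images of flat modules on affine opens as models for base change.
-/

set_option autoImplicit false
set_option backward.defeqAttrib.useBackward true
set_option backward.isDefEq.respectTransparency false
set_option backward.isDefEq.respectTransparency.types false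

universe u

open CategoryTheory CategoryTheory.Limits AlgebraicGeometry

attribute [local instance] HasDerivedCategory.standard

namespace Groth.L29.BC

open Groth.L00 Groth.L29.DC

variable {X Y : Scheme.{u}}

local notation "up" => ComplexShape.up ℤ

theorem isFlat_iff_isFlatOver_id (M : X.Modules) : FlatMod.IsFlatOver (𝟙 X) M ↔ FlatMod.IsFlat M := by
  refine forall_congr' fun x => ?_
  have h : ∀ r : X.presheaf.stalk x, ((𝟙 X : X ⟶ X).stalkMap x).hom r = r := fun r => by rw [Scheme.Hom.stalkMap_id]; rfl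
  have : FlatMod.moduleStalkOver (𝟙 X) M x = FlatMod.moduleStalk M x := Module.ext' _ _ fun r m => by
    exact congrArg (fun t : X.presheaf.stalk x => t • m) (h r)
  unfold FlatMod.IsFlatOverAt FlatMod.IsFlatAt
  change @Module.Flat _ _ _ _ (FlatMod.moduleStalkOver (𝟙 X) M x) ↔ _
  rw [this]
  rfl

theorem isFlat_push (j : X ⟶ Y) [IsAffineHom j] [Flat j] {M : X.Modules} (hM : Coh.IsQCoh M)
    (hfl : FlatMod.IsFlat M) : FlatMod.IsFlat ((Scheme.Modules.pushforward j).obj M) := by
  refine (isFlat_iff_isFlatOver_id _).1 ((Groth.Agent.S9349.result j (𝟙 Y) M hM).1 ?_)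
  rw [Category.comp_id]
  exact RelTor.isFlatOver_of_isFlat j hfl

/-- single complexes of a quasi-coherent flat module -/
theorem single_props {M : X.Modules} (hM : Coh.IsQCoh M) (hfl : FlatMod.IsFlat M) (m i : ℤ) :
    Coh.IsQCoh (((HomologicalComplex.single X.Modules up m).obj M).X i) ∧
      FlatMod.IsFlat (((HomologicalComplex.single X.Modules up m).obj M).X i) := by
  by_cases hi : i = m
  · subst hi
    exact ⟨isQCoh_of_iso' (HomologicalComplex.singleObjXSelf up i M).symm hM,
      KFlat.isFlat_of_iso (HomologicalComplex.singleObjXSelf up i M).symm hfl⟩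
  · have hz := HomologicalComplex.isZero_single_obj_X up m M i hi
    exact ⟨isQCoh_of_isZero hz, KFlat.isFlat_zero hz⟩

theorem isKFlat_push_single (j : X ⟶ Y) [IsAffineHom j] [Flat j] {M : X.Modules} (hM : Coh.IsQCoh M)
    (hfl : FlatMod.IsFlat M) (m : ℤ) :
    DCoh.IsKFlat (((Scheme.Modules.pushforward j).mapHomologicalComplex up).obj
      ((HomologicalComplex.single X.Modules up m).obj M)) := by
  let e := (HomologicalComplex.singleMapHomologicalComplex (Scheme.Modules.pushforward j) up m).app M
  exact KFlat.of_iso e.symm (KFlat.single _ (isFlat_push j hM hfl) m)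

/-- the unit at an affine direct image -/
theorem isIso_ηR_affine (j : X ⟶ Y) [IsAffineHom j] [DCoh.HasRpush j] (N : CochainComplex X.Modules ℤ)
    (hN : ∀ i, Coh.IsQCoh (N.X i)) :
    IsIso ((ηR j).app ((HomotopyCategory.quotient X.Modules up).obj N)) := by
  haveI := Groth.L17.PushQCoh.hasInjectiveResolutions X
  exact RpushQC.isIso_unit_of_acyclic j N hN fun n i hi => RpushQC.isZero_Rpush_affine j _ (hN n) i hi

/-- affine direct images are acyclic for morphisms with affine composite -/
theorem isIso_ηR_push {Z : Scheme.{u}} (j : X ⟶ Y) [IsAffineHom j] (f : Y ⟶ Z) [IsAffineHom (j ≫ f)]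
    [DCoh.HasRpush f] (N : CochainComplex X.Modules ℤ) (hN : ∀ i, Coh.IsQCoh (N.X i)) :
    IsIso ((ηR f).app ((RpushComp.push j).obj ((HomotopyCategory.quotient X.Modules up).obj N))) := by
  haveI := RpushQC.hasRpush j
  haveI := RpushQC.hasRpush (j ≫ f)
  let J := (HomotopyCategory.quotient X.Modules up).obj N
  haveI := isRightDerived_θ j f
  let τ : RpushComp.push j ⋙ DCoh.pushKh f ⟶ DerivedCategory.Qh ⋙ DCoh.Rpush (j ≫ f) :=
    (Functor.associator _ _ _).inv ≫ Functor.whiskerRight (RpushComp.pushCompIso j f).hom DerivedCategory.Qh ≫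
      ηR (j ≫ f)
  have hτ : ∀ P, τ.app P = DerivedCategory.Qh.map ((RpushComp.pushCompIso j f).hom.app P) ≫ (ηR (j ≫ f)).app P :=
    fun P => by
      simp only [τ, NatTrans.comp_app, Functor.associator_inv_app, Functor.whiskerRight_app]
      exact Category.id_comp _
  haveI : (DCoh.Rpush (j ≫ f)).IsRightDerivedFunctor τ (HomotopyCategory.quasiIso X.Modules up) := by
    haveI := Groth.L00.Tensor.grothendieckAbelian_modules X
    refine Groth.L10.KInjDerived.isRightDerivedFunctor_of_isIso _ fun I hI => ?_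
    haveI := isIso_ηR (j ≫ f) I
    rw [hτ]
    infer_instance
  haveI h1 : IsIso ((θ j f).app J) := by
    haveI := isIso_ηR_affine (j ≫ f) N hN
    have hu := Functor.rightDerivedNatTrans_app (DCoh.Rpush (j ≫ f)) (DCoh.Rpush j ⋙ DCoh.Rpush f) τ (θ j f)
      (HomotopyCategory.quasiIso X.Modules up) (𝟙 _) J
    rw [NatTrans.id_app, Category.id_comp] at hu
    rw [← hu, hτ]
    haveI : IsIso (Functor.rightDerivedNatTrans (DCoh.Rpush (j ≫ f)) (DCoh.Rpush j ⋙ DCoh.Rpush f) τ (θ j f)
        (HomotopyCategory.quasiIso X.Modules up) (𝟙 _)) :=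
      (Functor.rightDerivedUnique (DCoh.Rpush (j ≫ f)) (DCoh.Rpush j ⋙ DCoh.Rpush f) τ (θ j f)
        (HomotopyCategory.quasiIso X.Modules up)).isIso_hom
    infer_instance
  haveI := isIso_ηR_affine j N hN
  rw [θ_app] at h1
  exact IsIso.of_isIso_comp_right _ ((DCoh.Rpush f).map ((ηR j).app J))

/-- pullback along a flat morphism computes the derived pullback everywhere -/
theorem isIso_αL_of_flat (g : X ⟶ Y) [Flat g] [DCoh.HasLpull g] (F : CochainComplex Y.Modules ℤ) :
    IsIso ((αL g).app ((HomotopyCategory.quotient Y.Modules up).obj F)) := by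
  let P := (KFlat.RF Y).obj F
  let r : P ⟶ F := (KFlat.rF Y).app F
  haveI : QuasiIso r := KFlat.quasiIso_rF F
  haveI := isIso_αL g P (KFlat.isKFlat_RF F)
  haveI := RelPC.preservesFiniteLimits_pullback g
  haveI := RelPC.preservesFiniteColimits_pullback g
  haveI : QuasiIso (((Scheme.Modules.pullback g).mapHomologicalComplex up).map r) := inferInstance
  let qr := (HomotopyCategory.quotient Y.Modules up).map r
  haveI : IsIso ((DerivedCategory.Qh ⋙ DCoh.Lpull g).map qr) :=
    haveI := Localization.inverts DerivedCategory.Qh (HomotopyCategory.quasiIso Y.Modules up) qr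
      ((HomotopyCategory.quotient_map_mem_quasiIso_iff r).2 ((HomologicalComplex.mem_quasiIso_iff _).2 inferInstance))
    inferInstanceAs (IsIso ((DCoh.Lpull g).map (DerivedCategory.Qh.map qr)))
  haveI : IsIso ((DCoh.pullKh g).map qr) :=
    Localization.inverts DerivedCategory.Qh (HomotopyCategory.quasiIso X.Modules up)
      ((HomotopyCategory.quotient X.Modules up).map (((Scheme.Modules.pullback g).mapHomologicalComplex up).map r))
      ((HomotopyCategory.quotient_map_mem_quasiIso_iff _).2 ((HomologicalComplex.mem_quasiIso_iff _).2 inferInstance))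
  haveI : IsIso ((DerivedCategory.Qh ⋙ DCoh.Lpull g).map qr ≫
      (αL g).app ((HomotopyCategory.quotient Y.Modules up).obj F)) := by
    rw [(αL g).naturality qr]; infer_instance
  exact IsIso.of_isIso_comp_left ((DerivedCategory.Qh ⋙ DCoh.Lpull g).map qr) _

section Square

variable {X S X' S' V V' : Scheme.{u}} {f : X ⟶ S} {g : S' ⟶ S} {g' : X' ⟶ X} {f' : X' ⟶ S'}

/-- the degree zero base change morphism -/
noncomputable abbrev bc₀ (w : g' ≫ f = f' ≫ g) (N : X.Modules) :
    (Scheme.Modules.pullback g).obj ((Scheme.Modules.pushforward f).obj N) ⟶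
      (Scheme.Modules.pushforward f').obj ((Scheme.Modules.pullback g').obj N) :=
  ((Scheme.Modules.pullbackPushforwardAdjunction g).homEquiv _ _).symm (Groth.L17.DegZero.vMap f g g' f' w N)

/-- the unit on complexes -/
noncomputable def unitCx {A B : Scheme.{u}} (h : A ⟶ B) (F : CochainComplex B.Modules ℤ) :
    F ⟶ ((Scheme.Modules.pushforward h).mapHomologicalComplex up).obj
      (((Scheme.Modules.pullback h).mapHomologicalComplex up).obj F) where
  f i := (Scheme.Modules.pullbackPushforwardAdjunction h).unit.app (F.X i)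
  comm' i k _ := ((Scheme.Modules.pullbackPushforwardAdjunction h).unit.naturality (F.d i k)).symm

/-- the counit on complexes -/
noncomputable def counitCx {A B : Scheme.{u}} (h : A ⟶ B) (F : CochainComplex A.Modules ℤ) :
    ((Scheme.Modules.pullback h).mapHomologicalComplex up).obj
      (((Scheme.Modules.pushforward h).mapHomologicalComplex up).obj F) ⟶ F where
  f i := (Scheme.Modules.pullbackPushforwardAdjunction h).counit.app (F.X i)
  comm' i k _ := ((Scheme.Modules.pullbackPushforwardAdjunction h).counit.naturality (F.d i k)).symm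

/-- the two direct images on complexes -/
noncomputable def swapCx (w : g' ≫ f = f' ≫ g) (F : CochainComplex X'.Modules ℤ) :
    ((Scheme.Modules.pushforward f).mapHomologicalComplex up).obj (((Scheme.Modules.pushforward g').mapHomologicalComplex up).obj F) ⟶
      ((Scheme.Modules.pushforward g).mapHomologicalComplex up).obj (((Scheme.Modules.pushforward f').mapHomologicalComplex up).obj F) where
  f i := (swapMod w).hom.app (F.X i)
  comm' i k _ := ((swapMod w).hom.naturality (F.d i k)).symm

/-- the base change map on complexes -/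
noncomputable def bCx (w : g' ≫ f = f' ≫ g) (F : CochainComplex X.Modules ℤ) :
    ((Scheme.Modules.pullback g).mapHomologicalComplex up).obj (((Scheme.Modules.pushforward f).mapHomologicalComplex up).obj F) ⟶
      ((Scheme.Modules.pushforward f').mapHomologicalComplex up).obj (((Scheme.Modules.pullback g').mapHomologicalComplex up).obj F) :=
  ((Scheme.Modules.pullback g).mapHomologicalComplex up).map
      (((Scheme.Modules.pushforward f).mapHomologicalComplex up).map (unitCx g' F) ≫
        swapCx w (((Scheme.Modules.pullback g').mapHomologicalComplex up).obj F)) ≫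
    counitCx g _

theorem bCx_f (w : g' ≫ f = f' ≫ g) (F : CochainComplex X.Modules ℤ) (i : ℤ) : (bCx w F).f i = bc₀ w (F.X i) :=
  ((Scheme.Modules.pullbackPushforwardAdjunction g).homEquiv_counit _ _ _).symm

theorem bK_quotient (w : g' ≫ f = f' ≫ g) (F : CochainComplex X.Modules ℤ) :
    bK w ((HomotopyCategory.quotient X.Modules up).obj F) = (HomotopyCategory.quotient S'.Modules up).map (bCx w F) := by
  rw [bK, Adjunction.homEquiv_counit]
  simp only [bCx, Functor.map_comp]
  rfl

/-- base change for an affine direct image -/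
theorem isIso_bc₀_push (hc : IsPullback g' f' f g) {j : V ⟶ X} {g'' : V' ⟶ V} {j' : V' ⟶ X'}
    (hV : IsPullback g'' j' j g') [IsAffineHom j] [IsAffineHom (j ≫ f)] (N : V.Modules) [Coh.IsQCoh N] :
    IsIso (bc₀ hc.w ((Scheme.Modules.pushforward j).obj N)) := by
  have hVS : IsPullback g'' (j' ≫ f') (j ≫ f) g := hV.paste_vert hc
  haveI : IsIso (bc₀ hV.w N) := Groth.L17.DegZero.isIso_of_isAffineHom j g' g'' j' N hV
  haveI : IsIso (bc₀ hVS.w N) := Groth.L17.DegZero.isIso_of_isAffineHom (j ≫ f) g g'' (j' ≫ f') N hVS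
  let l := (Scheme.Modules.pullback g).map ((Scheme.Modules.pushforwardComp j f).hom.app N)
  let r := (Scheme.Modules.pushforward f').map (bc₀ hV.w N) ≫
    (Scheme.Modules.pushforwardComp j' f').hom.app ((Scheme.Modules.pullback g'').obj N)
  have key : bc₀ hc.w ((Scheme.Modules.pushforward j).obj N) ≫ r = l ≫ bc₀ hVS.w N := by
    apply ((Scheme.Modules.pullbackPushforwardAdjunction g).homEquiv _ _).injective
    rw [Adjunction.homEquiv_naturality_right, Adjunction.homEquiv_naturality_left]
    simp only [bc₀, Equiv.apply_symm_apply]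
    ext U s
    simp only [Scheme.Modules.Hom.comp_app]
    change ((Scheme.Modules.pushforward f').map (bc₀ hV.w N) ≫
        (Scheme.Modules.pushforwardComp j' f').hom.app ((Scheme.Modules.pullback g'').obj N)).app (g ⁻¹ᵁ U)
          ((Groth.L17.DegZero.vMap f g g' f' hc.w ((Scheme.Modules.pushforward j).obj N)).app U s) =
      (Groth.L17.DegZero.vMap (j ≫ f) g g'' (j' ≫ f') hVS.w N).app U s
    have h₁ : f' ⁻¹ᵁ (g ⁻¹ᵁ U) ≤ g' ⁻¹ᵁ (f ⁻¹ᵁ U) := le_of_eq (by
      rw [← Scheme.Hom.comp_preimage, ← Scheme.Hom.comp_preimage, hc.w])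
    have h₂ : (j' ≫ f') ⁻¹ᵁ (g ⁻¹ᵁ U) ≤ g'' ⁻¹ᵁ ((j ≫ f) ⁻¹ᵁ U) := le_of_eq (by
      rw [← Scheme.Hom.comp_preimage, ← Scheme.Hom.comp_preimage, hVS.w])
    have h₃ : j' ⁻¹ᵁ (g' ⁻¹ᵁ (f ⁻¹ᵁ U)) ≤ g'' ⁻¹ᵁ (j ⁻¹ᵁ (f ⁻¹ᵁ U)) := le_of_eq (by
      rw [← Scheme.Hom.comp_preimage j', ← Scheme.Hom.comp_preimage g'', hV.w])
    rw [Groth.L17.DegZero.vMap_app f g g' f' hc.w _ U h₁ s, Groth.L17.DegZero.vMap_app (j ≫ f) g g'' (j' ≫ f') hVS.w N U h₂ s]
    refine (congrArg (fun t => (bc₀ hV.w N).app (f' ⁻¹ᵁ (g ⁻¹ᵁ U)) t) rfl).trans ?_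
    rw [Groth.L17.DegZero.app_rs, Groth.L17.DegZero.transpose_app g' _ (f ⁻¹ᵁ U),
      Groth.L17.DegZero.vMap_app j g' g'' j' hV.w N (f ⁻¹ᵁ U) h₃ s]
    exact Groth.L18.Frame.rs_rs _ h₃ (j'.preimage_mono h₁) _
  haveI : IsIso (bc₀ hc.w ((Scheme.Modules.pushforward j).obj N) ≫ r) := by rw [key]; infer_instance
  exact IsIso.of_isIso_comp_right _ r

variable [DCoh.HasRpush f] [DCoh.HasRpush g] [DCoh.HasRpush f'] [DCoh.HasRpush g'] [DCoh.HasLpull g] [DCoh.HasLpull g']

/-- base change at an affine direct image of a flat module -/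
theorem isIso_β_push_single (hc : IsPullback g' f' f g) {j : V ⟶ X} {g'' : V' ⟶ V} {j' : V' ⟶ X'}
    (hV : IsPullback g'' j' j g') [IsAffineHom j] [Flat j] [IsAffineHom (j ≫ f)] [IsAffineHom j']
    [IsAffineHom (j' ≫ f')] {M : V.Modules} (hM : Coh.IsQCoh M) (hfl : FlatMod.IsFlat M) (m : ℤ)
    (hα : IsIso ((αL g).app ((RpushComp.push f).obj ((RpushComp.push j).obj
      ((HomotopyCategory.quotient V.Modules up).obj ((HomologicalComplex.single V.Modules up m).obj M)))))) :
    IsIso (DCoh.baseChangeApp (adj g) (adj g') (e hc.w) (DerivedCategory.Qh.obj ((RpushComp.push j).obj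
      ((HomotopyCategory.quotient V.Modules up).obj ((HomologicalComplex.single V.Modules up m).obj M))))) := by
  let N := (HomologicalComplex.single V.Modules up m).obj M
  let F := ((Scheme.Modules.pushforward j).mapHomologicalComplex up).obj N
  have hN : ∀ i, Coh.IsQCoh (N.X i) := fun i => (single_props hM hfl m i).1
  refine isIso_of_rep hc.w ((HomotopyCategory.quotient X.Modules up).obj F) (isIso_ηR_push j f N hN)
    (isIso_αL g' F (isKFlat_push_single j hM hfl m)) hα ?_ ?_
  · -- the pullback is an affine direct image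
    let N' := ((Scheme.Modules.pullback g'').mapHomologicalComplex up).obj N
    let t := bCx hV.w N
    haveI : ∀ i, IsIso (t.f i) := fun i => by
      haveI := hN i
      rw [bCx_f]
      exact Groth.L17.DegZero.isIso_of_isAffineHom j g' g'' j' (N.X i) hV
    haveI : IsIso t := HomologicalComplex.Hom.isIso_of_components t
    have h := isIso_ηR_push j' f' N' fun i => haveI := hN i; Groth.L16.AffineBC.isQCoh_pullback g'' (N.X i)
    exact (NatTrans.isIso_app_iff_of_iso (ηR f') ((HomotopyCategory.quotient X'.Modules up).mapIso (asIso t))).2 h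
  · -- termwise base change
    haveI : ∀ i, IsIso ((bCx hc.w F).f i) := fun i => by
      haveI := hN i
      rw [bCx_f]
      exact isIso_bc₀_push hc hV (N.X i)
    haveI : IsIso (bCx hc.w F) := HomologicalComplex.Hom.isIso_of_components _
    rw [bK_quotient]
    infer_instance

end Square

end Groth.L29.BC
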