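import Groth.Agent.L29.BC.Closure
import Groth.Agent.L29.BC.Model
import Groth.Agent.L29.BC.Localizing
import Groth.Agent.L29.DCoh.Gen.PerfBuilt
import Groth.Agent.L29.DCoh.Gen.ZOn
import Groth.Agent.L19.ConormalAffine

/-!
Derived base change over affine bases for separated morphisms.
-/

set_option autoImplicit false
set_option backward.defeqAttrib.useBackward true
set_option backward.isDefEq.respectTransparency false
set_option backward.isDefEq.respectTransparency.types false

universe u

open CategoryTheory CategoryTheory.Limits CategoryTheory.Pretriangulated AlgebraicGeometry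

attribute [local instance] HasDerivedCategory.standard

namespace Groth.L29.BC

open Groth.L00 Groth.L29.DC

local notation "up" => ComplexShape.up ℤ

/-- the structure sheaf generates on an affine scheme -/
theorem exists_unit_generator (V : Scheme.{u}) [IsAffine V] :
    ∃ G : DCoh.D V, DCoh.IsPerfect G ∧ (∀ F : DCoh.D V, DCoh.IsQCohD F → Gen.Ortho G F → IsZero F) ∧
      Nonempty (G ≅ (DerivedCategory.singleFunctor V.Modules 0).obj (Coh.structureModule V)) := by
  let R : CommRingCat.{u} := Γ(V, ⊤)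
  haveI := Groth.L18.TildeF.tilde_preservesFiniteLimits (R := R)
  haveI := (TildeD.fullyFaithful (R := R)).1
  haveI := (TildeD.fullyFaithful (R := R)).2
  let s : V ⟶ Spec R := V.isoSpec.hom
  let T := DCoh.tildeD R
  haveI := Gen.isIso_unit_of_surjective s s.surjective
  haveI : (DCoh.restrictD s).Faithful := (Cpt.restrictRpushAdj s).fullyFaithfulLOfIsIsoUnit.faithful
  let Φ := T ⋙ DCoh.restrictD s
  let e₀ : Gen.kObj ([] : List R) ≅ Dual.inD R R :=
    (((SingleFunctors.evaluation _ _ 0).mapIso
      (DerivedCategory.singleFunctorsPostcompQIso (ModuleCat.{u} R))).app (ModuleCat.of R R)).symm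
  refine ⟨Φ.obj (Gen.kObj ([] : List R)), Gen.isPerfect_restrictD s (TildeAlg.perfect_tilde (Gen.isPerfect_kObj _)),
    fun F hF ho => ?_, ⟨?_⟩⟩
  · haveI : QuasiCompact s := inferInstance
    obtain ⟨K₀, ⟨e⟩⟩ := (TildeD.isQCohD_iff _).1 (RpushQC.isQCohD_Rpush s F hF)
    let eF : Φ.obj K₀ ≅ F := (DCoh.restrictD s).mapIso e ≪≫ asIso ((Cpt.restrictRpushAdj s).counit.app F)
    refine (Φ.map_isZero (Gen.isZero_of_kObj_orthogonal (F := K₀) [] (fun f hf => absurd hf (by simp))
      fun n h => Φ.map_injective ?_)).of_iso eF.symm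
    rw [Functor.map_zero, ← cancel_mono (((Φ.commShiftIso n).app K₀).hom ≫ eF.hom⟦n⟧'), zero_comp]
    exact Gen.hom_zero_of_ortho ho n _
  · exact Φ.mapIso e₀ ≪≫
      (DCoh.restrictD s).mapIso (((tilde.functor R).mapDerivedCategorySingleFunctor 0).app (ModuleCat.of R R)) ≪≫
      ((Scheme.Modules.restrictFunctor s).mapDerivedCategorySingleFunctor 0).app _ ≪≫
      (DerivedCategory.singleFunctor V.Modules 0).mapIso
        ((Scheme.Modules.restrictFunctor s).mapIso (tildeSelf (R := R)) ≪≫ Scheme.Modules.restrictUnitIso s)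

theorem isAffineHom_ι {X : Scheme.{u}} [X.IsSeparated] {V : X.Opens} (hV : IsAffineOpen V) : IsAffineHom V.ι :=
  haveI : IsAffine (V : Scheme.{u}) := hV
  IsAffineHom.of_comp V.ι (terminal.from X)

variable {X S X' S' : Scheme.{u}} {f : X ⟶ S} {g : S' ⟶ S} {g' : X' ⟶ X} {f' : X' ⟶ S'}
  [DCoh.HasRpush f] [DCoh.HasRpush g] [DCoh.HasRpush f'] [DCoh.HasRpush g'] [DCoh.HasLpull g] [DCoh.HasLpull g']

/-- base change on the generator of an affine open -/
theorem isIso_β_generator (hc : IsPullback g' f' f g) [IsAffine S] [X.IsSeparated] {V : X.Opens} (hV : IsAffineOpen V)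
    (hα : ∀ M : (V : Scheme.{u}).Modules, Coh.IsQCoh M → FlatMod.IsFlat M → ∀ m : ℤ,
      IsIso ((αL g).app ((RpushComp.push f).obj ((RpushComp.push V.ι).obj
        ((HomotopyCategory.quotient (V : Scheme.{u}).Modules up).obj
          ((HomologicalComplex.single (V : Scheme.{u}).Modules up m).obj M))))))
    (k : ℤ) : IsIso (β hc.w ((Gen.push V).obj
      (((DerivedCategory.singleFunctor (V : Scheme.{u}).Modules 0).obj (Coh.structureModule (V : Scheme.{u})))⟦k⟧))) := by
  haveI : IsAffine (V : Scheme.{u}) := hV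
  haveI := RpushQC.hasRpush V.ι
  let M := Coh.structureModule (V : Scheme.{u})
  have hM : Coh.IsQCoh M := Groth.L19.Conormal.isQCoh_structureModule _
  let N := (HomologicalComplex.single (V : Scheme.{u}).Modules up (-k)).obj M
  let J := (HomotopyCategory.quotient (V : Scheme.{u}).Modules up).obj N
  haveI : IsAffineHom V.ι := isAffineHom_ι hV
  haveI : IsAffineHom (V.ι ≫ f) := inferInstance
  have hp := isPullback_morphismRestrict g' V
  have hVS := hp.paste_vert hc
  haveI : IsAffineHom (g' ⁻¹ᵁ V).ι := MorphismProperty.of_isPullback hp inferInstance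
  haveI : IsAffineHom ((g' ⁻¹ᵁ V).ι ≫ f') := MorphismProperty.of_isPullback hVS inferInstance
  have h := isIso_β_push_single hc hp hM (isFlat_structureModule _) (-k) (hα M hM (isFlat_structureModule _) (-k))
  refine isIso_β_of_iso hc.w ?_ h
  haveI := isIso_ηR_affine V.ι N fun i => (single_props hM (isFlat_structureModule _) (-k) i).1
  exact asIso ((ηR V.ι).app J) ≪≫ (Gen.push V).mapIso
    ((DerivedCategory.quotientCompQhIso _).app N ≪≫
      (((SingleFunctors.evaluation _ _ (-k)).mapIso
        (DerivedCategory.singleFunctorsPostcompQIso (V : Scheme.{u}).Modules)).app M).symm ≪≫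
      (((DerivedCategory.singleFunctors (V : Scheme.{u}).Modules).shiftIso k (-k) 0 (by omega)).app M).symm)

/-- the class where base change holds contains the direct images from affine opens -/
theorem P_push (hc : IsPullback g' f' f g) [IsAffine S] [QuasiCompact f] [QuasiSeparated f] [QuasiCompact f'] [QuasiSeparated f']
    [X.IsSeparated] {V : X.Opens} (hV : IsAffineOpen V)
    (hα : ∀ M : (V : Scheme.{u}).Modules, Coh.IsQCoh M → FlatMod.IsFlat M → ∀ m : ℤ,
      IsIso ((αL g).app ((RpushComp.push f).obj ((RpushComp.push V.ι).obj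
        ((HomotopyCategory.quotient (V : Scheme.{u}).Modules up).obj
          ((HomologicalComplex.single (V : Scheme.{u}).Modules up m).obj M))))))
    {K : DCoh.D (V : Scheme.{u})} (hK : DCoh.IsQCohD K) : P hc.w ((Gen.push V).obj K) := by
  haveI : IsAffine (V : Scheme.{u}) := hV
  haveI := RpushQC.hasRpush V.ι
  haveI : IsAffineHom V.ι := isAffineHom_ι hV
  obtain ⟨G, hG, hgen, ⟨eG⟩⟩ := exists_unit_generator (V : Scheme.{u})
  haveI := Gen.locallySmall_D (V : Scheme.{u})
  haveI : HasCoproducts.{u} (DCoh.D (V : Scheme.{u})) := Gen.hasCoproducts_D _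
  haveI : HasColimitsOfShape (Discrete ℕ) (DCoh.D (V : Scheme.{u})) :=
    hasColimitsOfShape_of_equivalence (Discrete.equivalence (Equiv.ulift.{u} : ULift.{u} ℕ ≃ ℕ))
  haveI : ∀ (Y : DCoh.D (V : Scheme.{u})) (n : ℤ), Small.{u} (G⟦n⟧ ⟶ Y) := fun Y n => inferInstance
  have hGq := PCQCoh.isQCohD_of_perfect hG
  letI := Gen.commShiftRpush V.ι
  haveI := Gen.isTriangulated_Rpush V.ι
  refine localizing_top (fun K => P hc.w ((Gen.push V).obj K)) (DCoh.IsQCohD (X := (V : Scheme.{u})))
    (fun e h => h.of_iso hc.w ((Gen.push V).mapIso e)) (fun n k => ?_) (fun {ι} C hC h => ?_)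
    (fun T hT _ _ h₁ h₂ => P.third hc.w _ ((Gen.push V).map_distinguished T hT) h₁ h₂)
    (fun n => Gen.isQCohD_shift hGq n) (fun {ι} C hC => QCohColim.isQCohD_coproduct C hC) (fun C hC => ?_)
    (fun T hT h₁ h₂ => Gen.isQCohD_third T hT h₁ h₂) (fun n => Gen.cpt_of_perfect (perfect_shift hG n))
    hgen hK
  · exact isIso_β_of_iso hc.w ((Gen.push V).mapIso ((shiftFunctor _ (n + k)).mapIso eG.symm ≪≫
      (shiftFunctorAdd _ n k).app G) ≪≫ ((Gen.push V).commShiftIso k).app (G⟦n⟧)) (isIso_β_generator hc hV hα (n + k))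
  · haveI := Gen.hasCoproducts_D X ι
    haveI := QCohColim.isIso_sigma_desc V.ι C hC
    exact (P.coproduct hc.w (fun i => (Gen.push V).obj (C i)) (fun i => RpushQC.isQCohD_Rpush V.ι _ (hC i)) h).of_iso
      hc.w (asIso (Sigma.desc fun i => (Gen.push V).map (Sigma.ι C i)))
  · refine isQCohD_of_iso ?_ (QCohColim.isQCohD_coproduct (fun n : ULift.{u} ℕ => C n.down) fun n => hC n.down)
    exact Sigma.whiskerEquiv (f := fun n : ULift.{u} ℕ => C n.down) (g := C) Equiv.ulift.{u} fun n => Iso.refl _

/-- derived base change over affine bases -/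
theorem P_of_isQCohD (hc : IsPullback g' f' f g) [IsAffine S] [QuasiCompact f] [QuasiSeparated f] [QuasiCompact f']
    [QuasiSeparated f'] [X.IsSeparated]
    (hα : ∀ (V : X.Opens), IsAffineOpen V → ∀ M : (V : Scheme.{u}).Modules, Coh.IsQCoh M → FlatMod.IsFlat M → ∀ m : ℤ,
      IsIso ((αL g).app ((RpushComp.push f).obj ((RpushComp.push V.ι).obj
        ((HomotopyCategory.quotient (V : Scheme.{u}).Modules up).obj
          ((HomologicalComplex.single (V : Scheme.{u}).Modules up m).obj M))))))
    {E : DCoh.D X} (hE : DCoh.IsQCohD E) : P hc.w E := by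
  have main : ∀ (l : List X.affineOpens) (Ω : X.Opens), (∀ x : X, x ∈ Ω ∨ ∃ V ∈ l, x ∈ V.1) →
      ∀ E : DCoh.D X, DCoh.IsQCohD E → Gen.ZOn E Ω → P hc.w E := by
    intro l
    induction l with
    | nil =>
      intro Ω hΩ E _ hz n
      have h0 : IsZero E := Gen.isZero_of_cover fun x => ⟨Ω, (hΩ x).resolve_right (by simp), (Gen.isZero_res_iff Ω E).2 hz⟩
      have h1 := (shiftFunctor (DCoh.D X) n).map_isZero h0
      haveI := RpushColim.additive_Rpush f
      haveI := RpushColim.additive_Rpush f'
      haveI := RpushColim.additive_Rpush g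
      haveI := RpushColim.additive_Rpush g'
      haveI : (DCoh.Lpull g).Additive := (adj g).left_adjoint_additive
      haveI : (DCoh.Lpull g').Additive := (adj g').left_adjoint_additive
      exact isIso_of_source_target_iso_zero _
        ((DCoh.Rpush f ⋙ DCoh.Lpull g).map_isZero h1).isoZero
        ((DCoh.Lpull g' ⋙ DCoh.Rpush f').map_isZero h1).isoZero
    | cons V l ih =>
      intro Ω hΩ E hE hz
      haveI : IsAffine (V.1 : Scheme.{u}) := V.2
      haveI : IsAffineHom V.1.ι := isAffineHom_ι V.2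
      obtain ⟨C, a, d, hT⟩ := distinguished_cocone_triangle ((Gen.adj V.1).unit.app E)
      have hp : P hc.w ((Gen.push V.1).obj ((Gen.res V.1).obj E)) :=
        P_push hc V.2 (hα V.1 V.2) (isQCohD_restrictD _ hE)
      have hq : DCoh.IsQCohD ((Gen.push V.1).obj ((Gen.res V.1).obj E)) :=
        Gen.isQCohD_push V.2.isCompact (isQCohD_restrictD _ hE)
      have hC₁ : Gen.ZOn C V.1 := by
        rw [← Gen.isZero_res_iff]
        haveI := Gen.isIso_res_unit V.1 E
        exact (Triangle.isZero₃_iff_isIso₁ _ ((Gen.res V.1).map_distinguished _ hT)).2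
          (show IsIso ((Gen.res V.1).map ((Gen.adj V.1).unit.app E)) from inferInstance)
      have hC₂ : Gen.ZOn C Ω := Gen.zOn_third hT Ω hz (Gen.zOn_push _ Ω (by
        rw [Gen.zOn_restrictD]
        exact hz.mono (Set.image_preimage_subset _ _)))
      have hC : P hc.w C := by
        refine ih (Ω ⊔ V.1) (fun x => ?_) C (Gen.isQCohD_third _ hT hE hq) ?_
        · rcases hΩ x with h | ⟨W, hW, hx⟩
          · exact Or.inl (Or.inl h)
          · rcases List.mem_cons.1 hW with rfl | hW
            · exact Or.inl (Or.inr hx)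
            · exact Or.inr ⟨W, hW, hx⟩
        · rw [TopologicalSpace.Opens.coe_sup]
          exact hC₂.union hC₁
      have h := P.third hc.w _ (rot_of_distTriang _ hT) hp hC
      exact (h.shift hc.w (-1)).of_iso hc.w ((shiftFunctorCompIsoId (DCoh.D X) (1 : ℤ) (-1) (by omega)).app E)
  haveI : CompactSpace X := QuasiCompact.compactSpace_of_compactSpace f
  obtain ⟨t, ht⟩ := (isCompact_univ (X := X)).elim_finite_subcover (fun V : X.affineOpens => (V.1 : Set X))
    (fun V => V.1.2) fun x _ => by
      obtain ⟨_, ⟨V, hV, rfl⟩, hxV, -⟩ := X.isBasis_affineOpens.exists_subset_of_mem_open (Set.mem_univ x) isOpen_univ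
      exact Set.mem_iUnion.2 ⟨⟨V, hV⟩, hxV⟩
  refine main t.toList ⊥ (fun x => Or.inr ?_) E hE fun i x hx => absurd hx (by simp)
  obtain ⟨V, hV, hx⟩ := Set.mem_iUnion₂.1 (ht (Set.mem_univ x))
  exact ⟨V, Finset.mem_toList.2 hV, hx⟩

end Groth.L29.BC
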