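import Groth.Agent.L29.BC.Affine

/-!
Base change over affine bases: flat morphisms, flat bases, arbitrary adjunction data.
-/

set_option autoImplicit false
set_option backward.defeqAttrib.useBackward true
set_option backward.isDefEq.respectTransparency false
set_option backward.isDefEq.respectTransparency.types false

universe u

open CategoryTheory CategoryTheory.Limits AlgebraicGeometry

attribute [local instance] HasDerivedCategory.standard

namespace Groth.L29.BC

open Groth.L00 Groth.L29.DC

local notation "up" => ComplexShape.up ℤ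

variable {X S X' S' : Scheme.{u}} {f : X ⟶ S} {g : S' ⟶ S} {g' : X' ⟶ X} {f' : X' ⟶ S'}
  [DCoh.HasRpush f] [DCoh.HasRpush g] [DCoh.HasRpush f'] [DCoh.HasRpush g'] [DCoh.HasLpull g] [DCoh.HasLpull g']

/-- base change for a flat morphism to an affine base, along any morphism -/
theorem P_of_flat (hc : IsPullback g' f' f g) [IsAffine S] [Flat f] [QuasiCompact f] [QuasiSeparated f]
    [QuasiCompact f'] [QuasiSeparated f'] [X.IsSeparated] {E : DCoh.D X} (hE : DCoh.IsQCohD E) : P hc.w E :=
  P_of_isQCohD hc (fun V hV M hM hfl m => by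
    haveI : IsAffine (V : Scheme.{u}) := hV
    haveI : IsAffineHom V.ι := isAffineHom_ι hV
    haveI : IsAffineHom (V.ι ≫ f) := inferInstance
    let N := (HomologicalComplex.single (V : Scheme.{u}).Modules up m).obj M
    let i : ((Scheme.Modules.pushforward (V.ι ≫ f)).mapHomologicalComplex up).obj N ≅
        ((Scheme.Modules.pushforward f).mapHomologicalComplex up).obj
          (((Scheme.Modules.pushforward V.ι).mapHomologicalComplex up).obj N) :=
      HomologicalComplex.Hom.isoOfComponents (fun i => ((Scheme.Modules.pushforwardComp V.ι f).app (N.X i)).symm)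
        (fun a b _ => ((Scheme.Modules.pushforwardComp V.ι f).inv.naturality (N.d a b)).symm)
    exact isIso_αL g _ (KFlat.of_iso i (isKFlat_push_single (V.ι ≫ f) hM hfl m))) hE

/-- base change along a flat morphism of affine bases -/
theorem P_of_flat_base (hc : IsPullback g' f' f g) [IsAffine S] [Flat g] [QuasiCompact f] [QuasiSeparated f]
    [QuasiCompact f'] [QuasiSeparated f'] [X.IsSeparated] {E : DCoh.D X} (hE : DCoh.IsQCohD E) : P hc.w E :=
  P_of_isQCohD hc (fun V _ M _ _ m => isIso_αL_of_flat g
    (((Scheme.Modules.pushforward f).mapHomologicalComplex up).obj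
      (((Scheme.Modules.pushforward V.ι).mapHomologicalComplex up).obj
        ((HomologicalComplex.single (V : Scheme.{u}).Modules up m).obj M)))) hE

/-- invertibility does not depend on the choice of adjunctions -/
theorem isIso_baseChangeApp (w : g' ≫ f = f' ≫ g) (adjg : DCoh.Lpull g ⊣ DCoh.Rpush g)
    (adjg' : DCoh.Lpull g' ⊣ DCoh.Rpush g') {E : DCoh.D X} (h : IsIso (β w E)) :
    IsIso (DCoh.baseChangeApp adjg adjg' (e w) E) := by
  let φ := (adj g).leftAdjointUniq adjg
  let ψ := (adj g').leftAdjointUniq adjg'
  haveI := h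
  have key : φ.hom.app ((DCoh.Rpush f).obj E) ≫ DCoh.baseChangeApp adjg adjg' (e w) E =
      β w E ≫ (DCoh.Rpush f').map (ψ.hom.app E) := by
    apply ((adj g).homEquiv _ _).injective
    refine Eq.trans ?_ ((adj g).homEquiv_naturality_right _ _).symm
    refine ((adj g).homEquiv_naturality_right _ _).trans ?_
    rw [Adjunction.homEquiv_leftAdjointUniq_hom_app]
    simp only [β, DCoh.baseChangeApp, Equiv.apply_symm_apply]
    rw [← Adjunction.homEquiv_unit, Equiv.apply_symm_apply, ← Adjunction.unit_leftAdjointUniq_hom_app (adj g') adjg' E,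
      Functor.map_comp, Category.assoc, Category.assoc]
    congr 1
    exact (e w).hom.naturality (ψ.hom.app E)
  haveI : IsIso (φ.hom.app ((DCoh.Rpush f).obj E) ≫ DCoh.baseChangeApp adjg adjg' (e w) E) := by
    rw [key]; infer_instance
  exact IsIso.of_isIso_comp_left (φ.hom.app ((DCoh.Rpush f).obj E)) _

end Groth.L29.BC
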