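import Groth.Agent.L29.BC.Model
import Groth.Agent.L29.DCoh.RpushRestrict

/-!
Base change along open immersions.
-/

set_option autoImplicit false
set_option backward.defeqAttrib.useBackward true
set_option backward.isDefEq.respectTransparency false
set_option backward.isDefEq.respectTransparency.types false

universe u

open CategoryTheory CategoryTheory.Limits AlgebraicGeometry

attribute [local instance] HasDerivedCategory.standard

namespace Groth.L29.BC

open Groth.L00 Groth.L29.DC
open Groth.L18.Frame (rs pull rs_rs)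

local notation "up" => ComplexShape.up ℤ

/-- pullback of sections along an open immersion is bijective on opens inside the image -/
theorem bijective_pull {X Y : Scheme.{u}} (f : X ⟶ Y) [IsOpenImmersion f] (M : Y.Modules) {U : Y.Opens}
    (hU : U ≤ f.opensRange) : Function.Bijective (pull f M U) := by
  have h := Adjunction.unit_leftAdjointUniq_hom_app (Scheme.Modules.restrictAdjunction f)
    (Scheme.Modules.pullbackPushforwardAdjunction f) M
  have h1 : pull f M U = ((Scheme.Modules.pushforward f).map ((Scheme.Modules.restrictFunctorIsoPullback f).hom.app M)).app U ∘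
      ((Scheme.Modules.restrictAdjunction f).unit.app M).app U := by
    funext m
    exact congr($(congrArg (fun k => Scheme.Modules.Hom.app k U) h.symm) m)
  haveI : IsIso (((Scheme.Modules.restrictAdjunction f).unit.app M).app U) := by
    rw [Scheme.Modules.restrictAdjunction_unit_app_app]
    have he : f ''ᵁ f ⁻¹ᵁ U = U := by
      rw [Scheme.Hom.image_preimage_eq_opensRange_inf]
      exact inf_eq_right.2 hU
    have : homOfLE (f.image_preimage_le U) = eqToHom he := rfl
    rw [this]
    infer_instance
  rw [h1]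
  exact (ConcreteCategory.bijective_of_isIso _).comp (ConcreteCategory.bijective_of_isIso _)

theorem bijective_rs_eq {X : Scheme.{u}} (M : X.Modules) {U V : X.Opens} (h : V ≤ U) (e : V = U) :
    Function.Bijective (rs M h) := by
  subst e
  haveI : IsIso (homOfLE h) := ⟨homOfLE h, Subsingleton.elim _ _, Subsingleton.elim _ _⟩
  exact ConcreteCategory.bijective_of_isIso (M.presheaf.map (homOfLE h).op)

variable {X S X' S' : Scheme.{u}} {f : X ⟶ S} {g : S' ⟶ S} {g' : X' ⟶ X} {f' : X' ⟶ S'}

theorem isIso_bc₀_open (hc : IsPullback g' f' f g) [IsOpenImmersion g] [IsOpenImmersion g'] (N : X.Modules) :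
    IsIso (bc₀ hc.w N) := by
  refine Groth.L17.DegZero.isIso_of_affine _ fun z => ⟨⊤, trivial, fun V' _ _ => ?_⟩
  obtain ⟨U, hUr, rfl⟩ : ∃ U : S.Opens, U ≤ g.opensRange ∧ g ⁻¹ᵁ U = V' :=
    ⟨g ''ᵁ V', g.image_le_opensRange V', g.preimage_image_eq V'⟩
  have hfU : f ⁻¹ᵁ U ≤ g'.opensRange := fun x hx => by
    obtain ⟨s, hs⟩ := hUr hx
    obtain ⟨z, hz, -⟩ := Scheme.Pullback.exists_preimage_pullback x s hs.symm
    refine ⟨hc.isoPullback.inv z, ?_⟩
    rw [← hz, ← Scheme.Hom.comp_apply, hc.isoPullback_inv_fst]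
  have h₁ : f' ⁻¹ᵁ (g ⁻¹ᵁ U) ≤ g' ⁻¹ᵁ (f ⁻¹ᵁ U) := le_of_eq (by
    rw [← Scheme.Hom.comp_preimage, ← Scheme.Hom.comp_preimage, hc.w])
  have heq : (bc₀ hc.w N).app (g ⁻¹ᵁ U) ∘ pull g ((Scheme.Modules.pushforward f).obj N) U =
      rs ((Scheme.Modules.pullback g').obj N) h₁ ∘ pull g' N (f ⁻¹ᵁ U) := by
    funext s
    exact (Groth.L17.DegZero.transpose_app g _ U s).trans
      (Groth.L17.DegZero.vMap_app f g g' f' hc.w N U h₁ s)
  refine (Function.Bijective.of_comp_iff _ (bijective_pull g ((Scheme.Modules.pushforward f).obj N) hUr)).1 ?_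
  rw [heq]
  exact (bijective_rs_eq _ h₁ (by rw [← Scheme.Hom.comp_preimage, ← Scheme.Hom.comp_preimage, hc.w])).comp
    (bijective_pull g' N hfU)

variable [DCoh.HasRpush f] [DCoh.HasRpush g] [DCoh.HasRpush f'] [DCoh.HasRpush g'] [DCoh.HasLpull g] [DCoh.HasLpull g']

/-- base change along an open immersion holds for all objects -/
theorem isIso_β_open (hc : IsPullback g' f' f g) [IsOpenImmersion g] (E : DCoh.D X) :
    IsIso (DCoh.baseChangeApp (adj g) (adj g') (e hc.w) E) := by
  haveI : IsOpenImmersion g' := MorphismProperty.of_isPullback hc.flip inferInstance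
  haveI := Groth.L00.Tensor.grothendieckAbelian_modules X
  obtain ⟨I, i, hI, hi⟩ : ∃ (I : CochainComplex X.Modules ℤ) (i : DerivedCategory.Q.objPreimage E ⟶ I),
      I.IsKInjective ∧ QuasiIso i :=
    ⟨_, Groth.L10.KInjRes.resι _, inferInstance, inferInstance⟩
  let F := (HomotopyCategory.quotient X.Modules up).obj I
  let eE : DerivedCategory.Qh.obj F ≅ E :=
    (DerivedCategory.quotientCompQhIso X.Modules).app I ≪≫
      (@asIso _ _ _ _ (DerivedCategory.Q.map i) ((DerivedCategory.isIso_Q_map_iff_quasiIso _ i).2 hi)).symm ≪≫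
      DerivedCategory.Q.objObjPreimageIso E
  have h4 : IsIso ((ηR f').app (((Scheme.Modules.pullback g').mapHomotopyCategory up).obj F)) := by
    haveI := RpushRes.isKInjective_res g' I
    haveI := isIso_ηR f' (((Scheme.Modules.restrictFunctor g').mapHomologicalComplex up).obj I)
    let t := (HomotopyCategory.quotient X'.Modules up).mapIso
      ((NatIso.mapHomologicalComplex (Scheme.Modules.restrictFunctorIsoPullback g') up).app I)
    exact (NatTrans.isIso_app_iff_of_iso (ηR f') t).1 inferInstance
  have h5 : IsIso (DerivedCategory.Qh.map (bK hc.w F)) := by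
    haveI : ∀ k, IsIso ((bCx hc.w I).f k) := fun k => by
      rw [bCx_f]
      exact isIso_bc₀_open hc (I.X k)
    haveI : IsIso (bCx hc.w I) := HomologicalComplex.Hom.isIso_of_components _
    rw [bK_quotient]
    infer_instance
  have h := isIso_of_rep hc.w F (isIso_ηR f I) (isIso_αL_of_flat g' I)
    (isIso_αL_of_flat g (((Scheme.Modules.pushforward f).mapHomologicalComplex up).obj I)) h4 h5
  have hn : (DCoh.Lpull g).map ((DCoh.Rpush f).map eE.hom) ≫ DCoh.baseChangeApp (adj g) (adj g') (e hc.w) E =
      DCoh.baseChangeApp (adj g) (adj g') (e hc.w) (DerivedCategory.Qh.obj F) ≫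
        (DCoh.Rpush f').map ((DCoh.Lpull g').map eE.hom) := by
    apply ((adj g).homEquiv _ _).injective
    refine ((adj g).homEquiv_naturality_left _ _).trans ?_
    refine Eq.trans ?_ ((adj g).homEquiv_naturality_right _ _).symm
    simp only [DCoh.baseChangeApp, Equiv.apply_symm_apply]
    have h1 := (e hc.w).hom.naturality ((DCoh.Lpull g').map eE.hom)
    have h2 := (adj g').unit.naturality eE.hom
    dsimp at h1 h2
    rw [Category.assoc]
    erw [← h1]
    simp only [← Functor.map_comp_assoc]
    erw [h2]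
  haveI : IsIso ((DCoh.Lpull g).map ((DCoh.Rpush f).map eE.hom) ≫
      DCoh.baseChangeApp (adj g) (adj g') (e hc.w) E) := by rw [hn]; infer_instance
  exact IsIso.of_isIso_comp_left ((DCoh.Lpull g).map ((DCoh.Rpush f).map eE.hom)) _

end Groth.L29.BC
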