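import Groth.Agent.L29.BC.PasteScheme
import Groth.Agent.L29.BC.OpenBC
import Groth.Agent.L29.BC.Instances
import Groth.Agent.L29.DCoh.Restrict
import Groth.Agent.L29.DCoh.Gen.Loc
import Groth.Agent.S1054

/-!
Derived base change is local on both bases; flat base change in general.
-/

set_option autoImplicit false
set_option backward.defeqAttrib.useBackward true
set_option backward.isDefEq.respectTransparency false
set_option backward.isDefEq.respectTransparency.types false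

universe u

open CategoryTheory CategoryTheory.Limits CategoryTheory.Pretriangulated AlgebraicGeometry

attribute [local instance] HasDerivedCategory.standard

namespace Groth.L29.BC

open Groth.L00 Groth.L29.DC

/-- an isomorphism in `D(O)` can be checked after derived pullback to an open cover -/
theorem isIso_of_Lpull_cover {X : Scheme.{u}} {K L : DCoh.D X} (φ : K ⟶ L)
    (h : ∀ x : X, ∃ (V : X.Opens) (_ : DCoh.HasLpull V.ι), x ∈ V ∧ IsIso ((DCoh.Lpull V.ι).map φ)) : IsIso φ := by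
  obtain ⟨C, a, d, hT⟩ := distinguished_cocone_triangle φ
  refine (Triangle.isZero₃_iff_isIso₁ _ hT).1 (Gen.isZero_of_cover fun x => ?_)
  obtain ⟨V, hL, hx, hi⟩ := h x
  haveI := RpushQC.hasRpush V.ι
  letI := commShiftLpull V.ι
  haveI := isTriangulated_Lpull V.ι
  have hz : IsZero ((DCoh.Lpull V.ι).obj C) :=
    (Triangle.isZero₃_iff_isIso₁ _ ((DCoh.Lpull V.ι).map_distinguished _ hT)).2 hi
  obtain ⟨eC⟩ := nonempty_Lpull_iso_restrictD V.ι C
  exact ⟨V, hx, hz.of_iso eC.symm⟩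

variable {X X' S S' : Scheme.{u}} {f : X ⟶ S} {g : S' ⟶ S} {g' : X' ⟶ X} {f' : X' ⟶ S'}

theorem isIso_β_congr {g₂ : S' ⟶ S} {g₂' : X' ⟶ X} (hg : g = g₂) (hg' : g' = g₂')
    [DCoh.HasRpush f] [DCoh.HasRpush g] [DCoh.HasRpush f'] [DCoh.HasRpush g'] [DCoh.HasLpull g] [DCoh.HasLpull g']
    [DCoh.HasRpush g₂] [DCoh.HasRpush g₂'] [DCoh.HasLpull g₂] [DCoh.HasLpull g₂']
    (w : g' ≫ f = f' ≫ g) (w₂ : g₂' ≫ f = f' ≫ g₂) (E : DCoh.D X) (h : IsIso (β w E)) : IsIso (β w₂ E) := by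
  subst hg hg'
  exact h

/-- base change holds for all objects with quasi-coherent cohomology -/
def BC [DCoh.HasRpush f] [DCoh.HasRpush g] [DCoh.HasRpush f'] [DCoh.HasRpush g'] [DCoh.HasLpull g] [DCoh.HasLpull g']
    (w : g' ≫ f = f' ≫ g) : Prop :=
  ∀ E : DCoh.D X, DCoh.IsQCohD E → IsIso (β w E)

variable [DCoh.HasRpush f] [DCoh.HasRpush g] [DCoh.HasRpush f'] [DCoh.HasRpush g'] [DCoh.HasLpull g] [DCoh.HasLpull g']

theorem BC.P {w : g' ≫ f = f' ≫ g} (h : BC w) {E : DCoh.D X} (hE : DCoh.IsQCohD E) : P w E :=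
  fun n => h _ (Gen.isQCohD_shift hE n)

/-- base change is local on both bases -/
theorem BC_of_local (hc : IsPullback g' f' f g)
    (hloc : ∀ (W : S.Opens) (W' : S'.Opens), IsAffineOpen W → IsAffineOpen W' → ∀ (h : W' ≤ g ⁻¹ᵁ W)
      (h' : f' ⁻¹ᵁ W' ≤ g' ⁻¹ᵁ (f ⁻¹ᵁ W))
      (hc₀ : IsPullback (g'.resLE (f ⁻¹ᵁ W) (f' ⁻¹ᵁ W') h') (f' ∣_ W') (f ∣_ W) (g.resLE W W' h))
      [DCoh.HasRpush (f ∣_ W)] [DCoh.HasRpush (g.resLE W W' h)] [DCoh.HasRpush (f' ∣_ W')]
      [DCoh.HasRpush (g'.resLE (f ⁻¹ᵁ W) (f' ⁻¹ᵁ W') h')] [DCoh.HasLpull (g.resLE W W' h)]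
      [DCoh.HasLpull (g'.resLE (f ⁻¹ᵁ W) (f' ⁻¹ᵁ W') h')], BC hc₀.w) :
    BC hc.w := fun E hE => by
  refine isIso_of_Lpull_cover _ fun s => ?_
  obtain ⟨_, ⟨(W : S.Opens), hW, rfl⟩, hsW, -⟩ := S.isBasis_affineOpens.exists_subset_of_mem_open (Set.mem_univ (g s)) isOpen_univ
  obtain ⟨_, ⟨(W' : S'.Opens), hW', rfl⟩, hsW', hle⟩ :=
    S'.isBasis_affineOpens.exists_subset_of_mem_open (show s ∈ g ⁻¹ᵁ W from hsW) (g ⁻¹ᵁ W).2
  have hk : IsPullback (f' ⁻¹ᵁ W').ι (f' ∣_ W') f' W'.ι := (isPullback_morphismRestrict f' W').flip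
  have hi : IsPullback (f ⁻¹ᵁ W).ι (f ∣_ W) f W.ι := (isPullback_morphismRestrict f W).flip
  have h' : f' ⁻¹ᵁ W' ≤ g' ⁻¹ᵁ (f ⁻¹ᵁ W) := fun x hx => by
    show f (g' x) ∈ W
    rw [← Scheme.Hom.comp_apply, hc.w, Scheme.Hom.comp_apply]
    exact hle hx
  let g₀ := g.resLE W W' hle
  let g₀' := g'.resLE (f ⁻¹ᵁ W) (f' ⁻¹ᵁ W') h'
  have eg : g₀ ≫ W.ι = W'.ι ≫ g := Scheme.Hom.resLE_comp_ι _ _
  have eg' : g₀' ≫ (f ⁻¹ᵁ W).ι = (f' ⁻¹ᵁ W').ι ≫ g' := Scheme.Hom.resLE_comp_ι _ _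
  have htot : IsPullback (g₀' ≫ (f ⁻¹ᵁ W).ι) (f' ∣_ W') f (g₀ ≫ W.ι) := by
    rw [eg, eg']
    exact hk.paste_horiz hc
  have hc₀ : IsPullback g₀' (f' ∣_ W') (f ∣_ W) g₀ := IsPullback.of_right htot (by
    rw [← cancel_mono W.ι]
    simp only [Category.assoc, morphismRestrict_ι, eg]
    rw [reassoc_of% eg', hc.w, morphismRestrict_ι_assoc]) hi
  haveI := fun {A B : Scheme.{u}} (h : A ⟶ B) => RpushQC.hasRpush h
  haveI := fun {A B : Scheme.{u}} (h : A ⟶ B) => KFlat.hasLpull h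
  have h₀ : IsIso ((DCoh.Lpull g₀).map (β hi.w E) ≫ β hc₀.w ((DCoh.Lpull (f ⁻¹ᵁ W).ι).obj E)) := by
    haveI : IsIso (β hi.w E) := isIso_β_open hi E
    haveI := hloc W W' hW hW' hle h' hc₀ _ (Groth.Agent.S1054.result (f ⁻¹ᵁ W).ι E hE)
    infer_instance
  have ht : IsIso (β (hk.paste_horiz hc).w E) :=
    isIso_β_congr eg eg' htot.w _ E ((isIso_β_vert hi.w hc₀.w htot.w E).2 h₀)
  haveI := (isIso_β_vert hc.w hk.w (hk.paste_horiz hc).w E).1 ht
  haveI : IsIso (β hk.w ((DCoh.Lpull g').obj E)) := isIso_β_open hk _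
  exact ⟨W', inferInstance, hsW', IsIso.of_isIso_comp_right _ (β hk.w ((DCoh.Lpull g').obj E))⟩

/-- base change over an affine base from base change at direct images from affine opens -/
theorem BC_of_push (hc : IsPullback g' f' f g) [IsAffine S] [QuasiCompact f] [QuasiSeparated f] [QuasiCompact f']
    [QuasiSeparated f']
    (hp : ∀ V : X.Opens, IsAffineOpen V → ∀ K : DCoh.D (V : Scheme.{u}), DCoh.IsQCohD K →
      P hc.w ((Gen.push V).obj K)) : BC hc.w := by
  haveI : CompactSpace X := QuasiCompact.compactSpace_of_compactSpace f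
  haveI : QuasiSeparatedSpace X := quasiSeparatedSpace_of_quasiSeparated f
  have main : ∀ (l : List X.affineOpens) (Ω : X.Opens), (∀ x : X, x ∈ Ω ∨ ∃ V ∈ l, x ∈ V.1) →
      ∀ E : DCoh.D X, DCoh.IsQCohD E → Gen.ZOn E Ω → P hc.w E := by
    intro l
    induction l with
    | nil =>
      intro Ω hΩ E _ hz n
      have h0 : IsZero E := Gen.isZero_of_cover fun x => ⟨Ω, (hΩ x).resolve_right (by simp), (Gen.isZero_res_iff Ω E).2 hz⟩
      have h1 := (shiftFunctor (DCoh.D X) n).map_isZero h0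
      haveI := RpushColim.additive_Rpush f
      haveI := RpushColim.additive_Rpush f'
      haveI := RpushColim.additive_Rpush g
      haveI := RpushColim.additive_Rpush g'
      haveI : (DCoh.Lpull g).Additive := (adj g).left_adjoint_additive
      haveI : (DCoh.Lpull g').Additive := (adj g').left_adjoint_additive
      exact isIso_of_source_target_iso_zero _
        ((DCoh.Rpush f ⋙ DCoh.Lpull g).map_isZero h1).isoZero
        ((DCoh.Lpull g' ⋙ DCoh.Rpush f').map_isZero h1).isoZero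
    | cons V l ih =>
      intro Ω hΩ E hE hz
      haveI : IsAffine (V.1 : Scheme.{u}) := V.2
      haveI := RpushQC.hasRpush V.1.ι
      obtain ⟨C, a, d, hT⟩ := distinguished_cocone_triangle ((Gen.adj V.1).unit.app E)
      have hq : DCoh.IsQCohD ((Gen.push V.1).obj ((Gen.res V.1).obj E)) :=
        Gen.isQCohD_push V.2.isCompact (isQCohD_restrictD _ hE)
      have hC₁ : Gen.ZOn C V.1 := by
        rw [← Gen.isZero_res_iff]
        haveI := Gen.isIso_res_unit V.1 E
        exact (Triangle.isZero₃_iff_isIso₁ _ ((Gen.res V.1).map_distinguished _ hT)).2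
          (show IsIso ((Gen.res V.1).map ((Gen.adj V.1).unit.app E)) from inferInstance)
      have hC₂ : Gen.ZOn C Ω := Gen.zOn_third hT Ω hz (Gen.zOn_push _ Ω (by
        rw [Gen.zOn_restrictD]
        exact hz.mono (Set.image_preimage_subset _ _)))
      have hC : P hc.w C := by
        refine ih (Ω ⊔ V.1) (fun x => ?_) C (Gen.isQCohD_third _ hT hE hq) ?_
        · rcases hΩ x with h | ⟨W, hW, hx⟩
          · exact Or.inl (Or.inl h)
          · rcases List.mem_cons.1 hW with rfl | hW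
            · exact Or.inl (Or.inr hx)
            · exact Or.inr ⟨W, hW, hx⟩
        · rw [TopologicalSpace.Opens.coe_sup]
          exact hC₂.union hC₁
      have h := P.third hc.w _ (rot_of_distTriang _ hT) (hp V.1 V.2 _ (isQCohD_restrictD _ hE)) hC
      exact (h.shift hc.w (-1)).of_iso hc.w ((shiftFunctorCompIsoId (DCoh.D X) (1 : ℤ) (-1) (by omega)).app E)
  obtain ⟨t, ht⟩ := (isCompact_univ (X := X)).elim_finite_subcover (fun V : X.affineOpens => (V.1 : Set X))
    (fun V => V.1.2) fun x _ => by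
      obtain ⟨_, ⟨V, hV, rfl⟩, hxV, -⟩ := X.isBasis_affineOpens.exists_subset_of_mem_open (Set.mem_univ x) isOpen_univ
      exact Set.mem_iUnion.2 ⟨⟨V, hV⟩, hxV⟩
  intro E hE
  refine (main t.toList ⊥ (fun x => Or.inr ?_) E hE fun i x hx => absurd hx (by simp)).isIso
  obtain ⟨V, hV, hx⟩ := Set.mem_iUnion₂.1 (ht (Set.mem_univ x))
  exact ⟨V, Finset.mem_toList.2 hV, hx⟩

/-- flat base change for separated sources -/
theorem BC_flat_separated (hc : IsPullback g' f' f g) [Flat g] [QuasiCompact f] [QuasiSeparated f] [X.IsSeparated] :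
    BC hc.w :=
  BC_of_local hc fun W W' hW hW' h h' hc₀ => by
    intros
    haveI : IsAffine (W : Scheme.{u}) := hW
    haveI : QuasiCompact (f ∣_ W) := IsZariskiLocalAtTarget.restrict ‹QuasiCompact f› W
    haveI : QuasiSeparated (f ∣_ W) := IsZariskiLocalAtTarget.restrict ‹QuasiSeparated f› W
    haveI : QuasiCompact (f' ∣_ W') := MorphismProperty.of_isPullback hc₀ inferInstance
    haveI : QuasiSeparated (f' ∣_ W') := MorphismProperty.of_isPullback hc₀ inferInstance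
    haveI : (f ⁻¹ᵁ W : Scheme.{u}).IsSeparated := ⟨by
      rw [← terminal.comp_from (f ⁻¹ᵁ W).ι]; infer_instance⟩
    haveI : Flat (g.resLE W W' h) := by
      unfold Scheme.Hom.resLE
      haveI : Flat (g ∣_ W) := IsZariskiLocalAtTarget.restrict ‹Flat g› W
      infer_instance
    intro E hE
    exact (P_of_flat_base hc₀ hE).isIso

/-- flat base change -/
theorem BC_flat (hc : IsPullback g' f' f g) [Flat g] [QuasiCompact f] [QuasiSeparated f] : BC hc.w :=
  BC_of_local hc fun W W' hW hW' h h' hc₀ => by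
    intros
    haveI : IsAffine (W : Scheme.{u}) := hW
    haveI : QuasiCompact (f ∣_ W) := IsZariskiLocalAtTarget.restrict ‹QuasiCompact f› W
    haveI : QuasiSeparated (f ∣_ W) := IsZariskiLocalAtTarget.restrict ‹QuasiSeparated f› W
    haveI : QuasiCompact (f' ∣_ W') := MorphismProperty.of_isPullback hc₀ inferInstance
    haveI : QuasiSeparated (f' ∣_ W') := MorphismProperty.of_isPullback hc₀ inferInstance
    haveI : Flat (g.resLE W W' h) := by
      unfold Scheme.Hom.resLE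
      haveI : Flat (g ∣_ W) := IsZariskiLocalAtTarget.restrict ‹Flat g› W
      infer_instance
    haveI : Flat (g'.resLE (f ⁻¹ᵁ W) (f' ⁻¹ᵁ W') h') := MorphismProperty.of_isPullback hc₀.flip inferInstance
    haveI := quasiSeparatedSpace_of_quasiSeparated (f ∣_ W)
    refine BC_of_push hc₀ fun V hV K hK n => ?_
    haveI : IsAffine (V : Scheme.{u}) := hV
    haveI : QuasiCompact V.ι := QuasiCompact.of_comp V.ι (f ∣_ W)
    haveI := fun {A B : Scheme.{u}} (h : A ⟶ B) => RpushQC.hasRpush h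
    haveI := fun {A B : Scheme.{u}} (h : A ⟶ B) => KFlat.hasLpull h
    have hp := (isPullback_morphismRestrict (g'.resLE (f ⁻¹ᵁ W) (f' ⁻¹ᵁ W') h') V)
    have hKn := Gen.isQCohD_shift hK n
    have h₂ : IsIso (β hp.w (K⟦n⟧)) := BC_flat_separated hp _ hKn
    have ht : IsIso (β (hp.paste_vert hc₀).w (K⟦n⟧)) := BC_flat_separated (hp.paste_vert hc₀) _ hKn
    haveI := (isIso_β_horiz hc₀.w hp.w (hp.paste_vert hc₀).w (K⟦n⟧)).1 ht
    haveI := h₂
    have h₁ : IsIso (β hc₀.w ((DCoh.Rpush V.ι).obj (K⟦n⟧))) :=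
      IsIso.of_isIso_comp_right _ ((DCoh.Rpush (f' ∣_ W')).map (β hp.w (K⟦n⟧)))
    letI := Gen.commShiftRpush V.ι
    exact isIso_β_of_iso hc₀.w (((DCoh.Rpush V.ι).commShiftIso n).app K) h₁

end Groth.L29.BC
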