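import Groth.Agent.L00.DerivedApi
import Groth.Agent.L00.RpushComp
import Groth.Agent.L10.DerivedAdj
import Groth.Agent.L10.KInjDerived
import Groth.Prelude.Def_DCoh2

/-!
The adjunction between derived pullback and derived direct image.
-/

set_option autoImplicit false
set_option backward.defeqAttrib.useBackward true
set_option backward.isDefEq.respectTransparency false
set_option backward.isDefEq.respectTransparency.types false

universe u v w

open CategoryTheory CategoryTheory.Limits AlgebraicGeometry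

attribute [local instance] HasDerivedCategory.standard

namespace Groth.L29.BC

open Groth.L00

variable {X Y : Scheme.{u}}

/-- a transformation invertible at K-flat complexes exhibits a left derived functor -/
theorem isLeftDerived_of_kflat {H : Type w} [Category.{v} H]
    (F : HomotopyCategory Y.Modules (ComplexShape.up ℤ) ⥤ H) (G : DCoh.D Y ⥤ H) (a : DerivedCategory.Qh ⋙ G ⟶ F)
    (h : ∀ P : CochainComplex Y.Modules ℤ, DCoh.IsKFlat P →
      IsIso (a.app ((HomotopyCategory.quotient Y.Modules (ComplexShape.up ℤ)).obj P))) :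
    G.IsLeftDerivedFunctor a (HomotopyCategory.quasiIso Y.Modules (ComplexShape.up ℤ)) := by
  let W := HomotopyCategory.quasiIso Y.Modules (ComplexShape.up ℤ)
  let q := HomotopyCategory.quotient Y.Modules (ComplexShape.up ℤ)
  have hiso : ∀ {P Q : CochainComplex Y.Modules ℤ} (α : P ⟶ Q), QuasiIso α → DCoh.IsKFlat P → DCoh.IsKFlat Q →
      IsIso ((q ⋙ F).map α) := fun {P Q} α hα hP hQ => by
    haveI := h P hP
    haveI := h Q hQ
    haveI : IsIso (DerivedCategory.Qh.map (q.map α)) :=
      Localization.inverts DerivedCategory.Qh W _ ((HomotopyCategory.quotient_map_mem_quasiIso_iff α).2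
        ((HomologicalComplex.mem_quasiIso_iff _).2 hα))
    haveI : IsIso (a.app (q.obj P) ≫ (q ⋙ F).map α) := by
      change IsIso (a.app (q.obj P) ≫ F.map (q.map α))
      rw [← a.naturality (q.map α)]
      change IsIso (G.map (DerivedCategory.Qh.map (q.map α)) ≫ a.app (q.obj Q))
      infer_instance
    exact IsIso.of_isIso_comp_left (a.app (q.obj P)) _
  have hF : (HomologicalComplex.quasiIso Y.Modules (ComplexShape.up ℤ)).IsInvertedBy (KFlat.RF Y ⋙ q ⋙ F) :=
    fun P Q α hα => by
      haveI := (HomologicalComplex.mem_quasiIso_iff α).1 hα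
      exact hiso _ (KFlat.quasiIso_RF_map α) (KFlat.isKFlat_RF P) (KFlat.isKFlat_RF Q)
  have hrr : ∀ K, IsIso ((q ⋙ F).map ((KFlat.rF Y).app ((KFlat.RF Y).obj K))) := fun K =>
    hiso _ (KFlat.quasiIso_rF _) (KFlat.isKFlat_RF _) (KFlat.isKFlat_RF _)
  haveI := LeftDeriv.isRightKanExtension (q ⋙ F) (HomologicalComplex.quasiIso Y.Modules (ComplexShape.up ℤ))
    (q ⋙ DerivedCategory.Qh) (KFlat.RF Y) (KFlat.rF Y)
    (fun K => (HomologicalComplex.mem_quasiIso_iff _).2 (KFlat.quasiIso_rF K)) hF hrr
  let G₀ := LeftDeriv.LF (q ⋙ F) (HomologicalComplex.quasiIso Y.Modules (ComplexShape.up ℤ))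
    (q ⋙ DerivedCategory.Qh) (KFlat.RF Y) hF
  let a₀ := LeftDeriv.α (q ⋙ F) (HomologicalComplex.quasiIso Y.Modules (ComplexShape.up ℤ))
    (q ⋙ DerivedCategory.Qh) (KFlat.RF Y) (KFlat.rF Y) hF
  haveI := LeftDeriv.isRightKanExtension_descend q (fun Z => Z.as) (fun Z => rfl) DerivedCategory.Qh F G₀ a₀
  let d := LeftDeriv.descend q (fun Z => Z.as) (fun Z => rfl) DerivedCategory.Qh F G₀ a₀
  haveI : G₀.IsLeftDerivedFunctor d W := ⟨inferInstance⟩
  rw [Functor.isLeftDerivedFunctor_iff_isIso_leftDerivedLift G₀ d W G a]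
  have hl : ∀ K : CochainComplex Y.Modules ℤ, IsIso ((G₀.leftDerivedLift d W G a).app
      (DerivedCategory.Qh.obj (q.obj ((KFlat.RF Y).obj K)))) := fun K => by
    haveI := h _ (KFlat.isKFlat_RF K)
    haveI : IsIso (d.app (q.obj ((KFlat.RF Y).obj K))) := by
      change IsIso (LeftDeriv.descendApp q (fun Z => Z.as) (fun Z => rfl) DerivedCategory.Qh F G₀ a₀ _)
      rw [LeftDeriv.descendApp_obj]
      exact LeftDeriv.isIso_α_app (q ⋙ F) _ (q ⋙ DerivedCategory.Qh) (KFlat.RF Y) (KFlat.rF Y) hF hrr K
    exact IsIso.of_isIso_fac_right (G₀.leftDerived_fac_app d W G a (q.obj ((KFlat.RF Y).obj K)))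
  rw [NatTrans.isIso_iff_isIso_app]
  intro Z
  haveI := Localization.essSurj (q ⋙ DerivedCategory.Qh) (HomologicalComplex.quasiIso Y.Modules (ComplexShape.up ℤ))
  let K := (q ⋙ DerivedCategory.Qh).objPreimage Z
  haveI := KFlat.quasiIso_rF K
  haveI : IsIso ((q ⋙ DerivedCategory.Qh).map ((KFlat.rF Y).app K)) :=
    Localization.inverts (q ⋙ DerivedCategory.Qh) (HomologicalComplex.quasiIso Y.Modules (ComplexShape.up ℤ)) _
      ((HomologicalComplex.mem_quasiIso_iff _).2 inferInstance)
  exact (NatTrans.isIso_app_iff_of_iso _ (asIso ((q ⋙ DerivedCategory.Qh).map ((KFlat.rF Y).app K)) ≪≫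
    (q ⋙ DerivedCategory.Qh).objObjPreimageIso Z)).1 (hl K)

variable (g : X ⟶ Y)

/-- the counit of the derived pullback -/
noncomputable abbrev αL [DCoh.HasLpull g] : DerivedCategory.Qh ⋙ DCoh.Lpull g ⟶ DCoh.pullKh g :=
  (DCoh.pullKh g).totalLeftDerivedCounit DerivedCategory.Qh (HomotopyCategory.quasiIso Y.Modules (ComplexShape.up ℤ))

/-- the unit of the derived direct image -/
noncomputable abbrev ηR [DCoh.HasRpush g] : DCoh.pushKh g ⟶ DerivedCategory.Qh ⋙ DCoh.Rpush g :=
  (DCoh.pushKh g).totalRightDerivedUnit DerivedCategory.Qh (HomotopyCategory.quasiIso X.Modules (ComplexShape.up ℤ))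

theorem isIso_αL [DCoh.HasLpull g] (P : CochainComplex Y.Modules ℤ) (hP : DCoh.IsKFlat P) :
    IsIso ((αL g).app ((HomotopyCategory.quotient Y.Modules (ComplexShape.up ℤ)).obj P)) := by
  have := DerivedApi.isIso_counit (DerivedApi.acyclicKFlat_pullback g) P hP
  simp only [DerivedApi.counit, NatTrans.comp_app, Functor.associator_hom_app, Functor.whiskerLeft_app] at this
  have h : IsIso (((αL g).app ((HomotopyCategory.quotient Y.Modules (ComplexShape.up ℤ)).obj P))) := by
    have e := Category.id_comp ((αL g).app ((HomotopyCategory.quotient Y.Modules (ComplexShape.up ℤ)).obj P))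
    exact e ▸ this
  exact h

theorem isIso_ηR [DCoh.HasRpush g] (I : CochainComplex X.Modules ℤ) [I.IsKInjective] :
    IsIso ((ηR g).app ((HomotopyCategory.quotient X.Modules (ComplexShape.up ℤ)).obj I)) := by
  haveI := Groth.L00.Tensor.grothendieckAbelian_modules X
  exact Groth.L10.KInjDerived.isIso_app_quotient (RF := DCoh.Rpush g) (ηR g) I

/-- the underived adjunction on homotopy categories -/
noncomputable abbrev adjK : (Scheme.Modules.pullback g).mapHomotopyCategory (ComplexShape.up ℤ) ⊣
    (Scheme.Modules.pushforward g).mapHomotopyCategory (ComplexShape.up ℤ) :=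
  Groth.L10.DerivedAdj.homotopyAdj (Scheme.Modules.pullbackPushforwardAdjunction g)

variable [DCoh.HasLpull g] [DCoh.HasRpush g]

instance isLeftDerived_comp :
    (DCoh.Lpull g ⋙ DCoh.Rpush g).IsLeftDerivedFunctor
      ((Functor.associator _ _ _).inv ≫ Functor.whiskerRight (αL g) (DCoh.Rpush g))
      (HomotopyCategory.quasiIso Y.Modules (ComplexShape.up ℤ)) :=
  isLeftDerived_of_kflat _ _ _ fun P hP => by
    haveI := isIso_αL g P hP
    simp only [NatTrans.comp_app, Functor.associator_inv_app, Functor.whiskerRight_app, Category.id_comp]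
    infer_instance

instance isRightDerived_comp :
    (DCoh.Rpush g ⋙ DCoh.Lpull g).IsRightDerivedFunctor
      (Functor.whiskerRight (ηR g) (DCoh.Lpull g) ≫ (Functor.associator _ _ _).hom)
      (HomotopyCategory.quasiIso X.Modules (ComplexShape.up ℤ)) := by
  haveI := Groth.L00.Tensor.grothendieckAbelian_modules X
  refine Groth.L10.KInjDerived.isRightDerivedFunctor_of_isIso _ fun I hI => ?_
  haveI := isIso_ηR g I
  simp only [NatTrans.comp_app, Functor.whiskerRight_app, Functor.associator_hom_app, Category.comp_id]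
  infer_instance

/-- `Lg^* ⊣ Rg_*` -/
noncomputable def adj : DCoh.Lpull g ⊣ DCoh.Rpush g :=
  (adjK g).derived (HomotopyCategory.quasiIso Y.Modules (ComplexShape.up ℤ))
    (HomotopyCategory.quasiIso X.Modules (ComplexShape.up ℤ)) (αL g) (ηR g)

theorem adj_unit_fac (F : HomotopyCategory Y.Modules (ComplexShape.up ℤ)) :
    (adj g).unit.app (DerivedCategory.Qh.obj F) ≫ (DCoh.Rpush g).map ((αL g).app F) =
      DerivedCategory.Qh.map ((adjK g).unit.app F) ≫
        (ηR g).app (((Scheme.Modules.pullback g).mapHomotopyCategory (ComplexShape.up ℤ)).obj F) :=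
  (adjK g).derivedη_fac_app (HomotopyCategory.quasiIso Y.Modules (ComplexShape.up ℤ)) (αL g) (ηR g) F

end Groth.L29.BC
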