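import Groth.Agent.L29.BC.ProjQC
import Groth.Agent.L29.DCoh.RHomQCoh
import Groth.Agent.L29.DCoh.RHomBound
import Groth.Agent.L29.DCoh.Gen.Lift
import Groth.Agent.L29.DCoh.Triangle

/-!
Maps `Rf_* R ⟶ Q` with `Q` supported off an open `V` die after a modification of `R` outside `f⁻¹V`.
-/

set_option autoImplicit false
set_option backward.defeqAttrib.useBackward true
set_option backward.isDefEq.respectTransparency false
set_option backward.isDefEq.respectTransparency.types false

universe u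

open CategoryTheory CategoryTheory.Limits CategoryTheory.Pretriangulated AlgebraicGeometry CochainComplex

attribute [local instance] HasDerivedCategory.standard

namespace Groth.L29.BC.SupportAdj

open Groth.L00 Groth.L29.DC

variable {X Y : Scheme.{u}} (f : X ⟶ Y)

/-- comparison of the termwise and the derived direct image -/
noncomputable def pushComp [DCoh.HasRpush f] (J : CochainComplex X.Modules ℤ) :
    DerivedCategory.Q.obj ((Proj.pushCx f).obj J) ⟶ (DCoh.Rpush f).obj (DerivedCategory.Q.obj J) :=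
  haveI := Groth.L17.PushQCoh.additive_push f
  ((DerivedCategory.quotientCompQhIso Y.Modules).app ((Proj.pushCx f).obj J)).inv ≫
    ((DCoh.pushKh f).totalRightDerivedUnit DerivedCategory.Qh (HomotopyCategory.quasiIso X.Modules (ComplexShape.up ℤ))).app
      ((HomotopyCategory.quotient X.Modules (ComplexShape.up ℤ)).obj J) ≫
    (DCoh.Rpush f).map ((DerivedCategory.quotientCompQhIso X.Modules).app J).hom

theorem pushComp_natural [DCoh.HasRpush f] {J J' : CochainComplex X.Modules ℤ} (a : J ⟶ J') :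
    DerivedCategory.Q.map ((Proj.pushCx f).map a) ≫ pushComp f J' =
      pushComp f J ≫ (DCoh.Rpush f).map (DerivedCategory.Q.map a) := by
  haveI := Groth.L17.PushQCoh.additive_push f
  let η := (DCoh.pushKh f).totalRightDerivedUnit DerivedCategory.Qh (HomotopyCategory.quasiIso X.Modules (ComplexShape.up ℤ))
  let q := HomotopyCategory.quotient X.Modules (ComplexShape.up ℤ)
  let cY := DerivedCategory.quotientCompQhIso Y.Modules
  let cX := DerivedCategory.quotientCompQhIso X.Modules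
  have h1 : DerivedCategory.Q.map ((Proj.pushCx f).map a) ≫ (cY.app _).inv =
      (cY.app _).inv ≫ (DCoh.pushKh f).map (q.map a) := cY.inv.naturality ((Proj.pushCx f).map a)
  have h2 : (DCoh.pushKh f).map (q.map a) ≫ η.app (q.obj J') =
      η.app (q.obj J) ≫ (DCoh.Rpush f).map (DerivedCategory.Qh.map (q.map a)) := η.naturality (q.map a)
  have h3 : (DCoh.Rpush f).map (DerivedCategory.Qh.map (q.map a)) ≫ (DCoh.Rpush f).map (cX.app J').hom =
      (DCoh.Rpush f).map (cX.app J).hom ≫ (DCoh.Rpush f).map (DerivedCategory.Q.map a) :=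
    ((DCoh.Rpush f).map_comp _ _).symm.trans ((congrArg (DCoh.Rpush f).map (cX.hom.naturality a)).trans
      ((DCoh.Rpush f).map_comp _ _))
  unfold pushComp
  exact ((Category.assoc _ _ _).symm.trans ((congrArg (· ≫ (η.app (q.obj J') ≫ _)) h1).trans
    ((Category.assoc _ _ _).trans (congrArg ((cY.app _).inv ≫ ·) ((Category.assoc _ _ _).symm.trans
      ((congrArg (· ≫ _) h2).trans ((Category.assoc _ _ _).trans ((congrArg (η.app (q.obj J) ≫ ·) h3).trans
        (Category.assoc _ _ _).symm)))))))).trans (Category.assoc _ _ _).symm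

theorem isIso_pushComp [DCoh.HasRpush f] (J : CochainComplex X.Modules ℤ) [J.IsKInjective] :
    IsIso (pushComp f J) := by
  haveI := QRlim.enoughKInj X
  haveI := Groth.L17.PushQCoh.additive_push f
  let η := (DCoh.pushKh f).totalRightDerivedUnit DerivedCategory.Qh (HomotopyCategory.quasiIso X.Modules (ComplexShape.up ℤ))
  haveI := Groth.L10.KInjDerived.isIso_app_quotient (RF := DCoh.Rpush f) η J
  unfold pushComp
  infer_instance

/-- restriction of `I ⊗ f^* κ` is invertible where `κ` is -/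
theorem quasiIso_T_map (I : CochainComplex X.Modules ℤ) (V : Y.Opens) {P P' : CochainComplex Y.Modules ℤ}
    (hP : DCoh.IsKFlat P) (hP' : DCoh.IsKFlat P') (κ : P' ⟶ P) [QuasiIso ((ExtZero.rCx V.ι).map κ)] :
    QuasiIso ((ExtZero.rCx (f ⁻¹ᵁ V).ι).map ((DCoh.tensorCx.obj I).map ((Proj.pullCx f).map κ))) := by
  let ι := (f ⁻¹ᵁ V).ι
  haveI := ExtZero.preservesFiniteLimits ι
  haveI := ExtZero.preservesFiniteLimits V.ι
  have key : ∀ K : CochainComplex Y.Modules ℤ, DCoh.IsKFlat K → ((ExtZero.rCx V.ι).obj K).Acyclic →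
      ∀ i, IsZero (((ExtZero.rCx ι).obj (ProjQis.T f I K)).homology i) := by
    intro K hK h i
    let g := f ∣_ V
    have w : g ≫ V.ι = ι ≫ f := morphismRestrict_ι f V
    haveI : (Scheme.Modules.pullback f).Additive :=
      (Scheme.Modules.pullbackPushforwardAdjunction f).left_adjoint_additive
    haveI : (Scheme.Modules.pullback g).Additive :=
      (Scheme.Modules.pullbackPushforwardAdjunction g).left_adjoint_additive
    let e : (ExtZero.rCx ι).obj ((Proj.pullCx f).obj K) ≅ (Proj.pullCx g).obj ((ExtZero.rCx V.ι).obj K) :=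
      (DerivedApi.mapCxCompIso (Scheme.Modules.pullback f) (Scheme.Modules.restrictFunctor ι)).app K ≪≫
        (NatIso.mapHomologicalComplex (ProjQis.pullResIso f V.ι ι g w) (ComplexShape.up ℤ)).app K ≪≫
        ((DerivedApi.mapCxCompIso (Scheme.Modules.restrictFunctor V.ι) (Scheme.Modules.pullback g)).app K).symm
    have hp : ((ExtZero.rCx ι).obj ((Proj.pullCx f).obj K)).Acyclic :=
      Eval.acyclic_of_iso e.symm fun i => (HomologicalComplex.exactAt_iff_isZero_homology _ _).2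
        (KFlat.acyclic_pullback g _ (isKFlat_restrict V.ι hK)
          (fun k => (HomologicalComplex.exactAt_iff_isZero_homology _ _).1 (h k)) i)
    exact (HomologicalComplex.exactAt_iff_isZero_homology _ _).1
      ((Eval.setting ι).tensor I (KFlat.pullback_kflat f K hK) hp i)
  exact ConeTransfer.quasiIso_map (Proj.pullCx f ⋙ DCoh.tensorCx.obj I ⋙ ExtZero.rCx ι)
    (fun S σ => by
      obtain ⟨w, hw⟩ := ProjQis.shortExact_T f I S σ
      exact hw.map_of_exact (ExtZero.rCx ι)) κ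
    (fun i => key _ (KFlat.isKFlat_cone (𝟙 P') hP' hP') (by
      haveI : QuasiIso ((ExtZero.rCx V.ι).map (𝟙 P')) := by rw [CategoryTheory.Functor.map_id]; infer_instance
      exact ProjQis.acyclic_map_cone V.ι (𝟙 P')) i)
    (fun i => key _ (KFlat.isKFlat_cone κ hP' hP) (ProjQis.acyclic_map_cone V.ι κ) i)

variable [QuasiCompact f] [QuasiSeparated f] [DCoh.HasRpush f]

set_option maxHeartbeats 2000000 in
/-- the killing lemma -/
theorem exists_kill (V : Y.Opens) {R : DCoh.D X} (hR : DCoh.IsQCohD R) {Qo : DCoh.D Y}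
    (hH : ∀ (E : CochainComplex Y.Modules ℤ) [DCoh.HasLTensorCx E] [DCoh.HasRSheafHom E],
      Nonempty (DCoh.toD Y E ≅ (DCoh.Rpush f).obj R) → DCoh.IsQCohD ((DCoh.RSheafHom E).obj Qo))
    (hV : IsZero ((resD V).obj Qo)) (h : (DCoh.Rpush f).obj R ⟶ Qo) :
    ∃ (R' : DCoh.D X) (s : R' ⟶ R), DCoh.IsQCohD R' ∧ IsIso ((resD (f ⁻¹ᵁ V)).map s) ∧
      (DCoh.Rpush f).map s ≫ h = 0 := by
  haveI := Groth.L17.PushQCoh.additive_push f
  haveI := ExtZero.preservesFiniteLimits V.ι
  haveI := ExtZero.preservesFiniteLimits (f ⁻¹ᵁ V).ι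
  haveI : (Scheme.Modules.pullback f).Additive :=
    (Scheme.Modules.pullbackPushforwardAdjunction f).left_adjoint_additive
  obtain ⟨I, i, hI, hi⟩ := ProjFormulaD.exists_kinj (DerivedCategory.Q.objPreimage R)
  let eI : R ≅ DerivedCategory.Q.obj I :=
    (DerivedCategory.Q.objObjPreimageIso R).symm ≪≫
      @asIso _ _ _ _ (DerivedCategory.Q.map i) ((DerivedCategory.isIso_Q_map_iff_quasiIso _ i).2 hi)
  have hIq : DCoh.IsQCohD (DerivedCategory.Q.obj I) := isQCohD_of_iso eI hR
  let P₀ := RHom.O0 Y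
  have hP₀ : DCoh.IsKFlat P₀ := KFlat.single _ (isFlat_structureModule Y) 0
  have hP₀q : DCoh.IsQCohD (DerivedCategory.Q.obj P₀) := PCQCoh.isQCohD_of_perfect
    ((isPerfect_iff_wit _).2 fun x => ⟨⊤, trivial,
      (show PWit (DerivedCategory.Q.obj P₀) from ⟨_, RHom.isStrictlyPerfect_O0, ⟨Iso.refl _⟩⟩).restrict _⟩)
  let r₀ : ProjQis.T f I P₀ ≅ I :=
    (DCoh.tensorCx.obj I).mapIso
      ((HomologicalComplex.singleMapHomologicalComplex (Scheme.Modules.pullback f) (ComplexShape.up ℤ) 0).app _ ≪≫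
        (HomologicalComplex.single X.Modules (ComplexShape.up ℤ) 0).mapIso (Groth.L29.LocFree.pullbackUnitIso f)) ≪≫
      RHom.unitCxIso.app I
  let A := (Proj.pushCx f).obj I
  let A' := (KFlat.RF Y).obj A
  let rA : A' ⟶ A := (KFlat.rF Y).app A
  haveI : QuasiIso rA := KFlat.quasiIso_rF A
  haveI := KFlat.hasLTensorCx A'
  haveI := RHom.hasRSheafHom A'
  let ad := DCoh.RSheafHomAdj A'
  haveI := isIso_pushComp f I
  haveI : IsIso (DerivedCategory.Q.map rA) := (DerivedCategory.isIso_Q_map_iff_quasiIso _ _).2 inferInstance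
  let eA : DCoh.toD Y A' ≅ (DCoh.Rpush f).obj R :=
    asIso (DerivedCategory.Q.map rA) ≪≫ asIso (pushComp f I) ≪≫ (DCoh.Rpush f).mapIso eI.symm
  let H := (DCoh.RSheafHom A').obj Qo
  have hHq : DCoh.IsQCohD H := hH A' ⟨eA⟩
  let ψ : ∀ P : CochainComplex Y.Modules ℤ, (DCoh.tensorCx.obj P).obj A' ⟶ (DCoh.tensorCx.obj A).obj P := fun P =>
    (DCoh.tensorCx.obj P).map rA ≫ (KFlat.commIso P A).inv
  have hψ : ∀ {P P' : CochainComplex Y.Modules ℤ} (m : P' ⟶ P),
      (DCoh.tensorCx.map m).app A' ≫ ψ P = ψ P' ≫ (DCoh.tensorCx.obj A).map m := fun {P P'} m => by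
    have h2 : (KFlat.commIso P' A).inv ≫ (DCoh.tensorCx.obj A).map m =
        (DCoh.tensorCx.map m).app A ≫ (KFlat.commIso P A).inv := by
      rw [Iso.inv_comp_eq, ← Category.assoc, Iso.eq_comp_inv]
      exact KFlat.commIso_natural m A
    simp only [ψ, Category.assoc, h2]
    rw [← Category.assoc, ← (DCoh.tensorCx.map m).naturality rA, Category.assoc]
  let θ : ∀ P : CochainComplex Y.Modules ℤ, (DCoh.LTensorCx A').obj (DerivedCategory.Q.obj P) ⟶
      DerivedCategory.Q.obj ((DCoh.tensorCx.obj A).obj P) := fun P =>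
    (Assoc.allIso A' (KFlat.isKFlat_RF A)).hom.app P ≫ DerivedCategory.Q.map (ψ P)
  have hθn : ∀ {P P' : CochainComplex Y.Modules ℤ} (m : P' ⟶ P),
      (DCoh.LTensorCx A').map (DerivedCategory.Q.map m) ≫ θ P =
        θ P' ≫ DerivedCategory.Q.map ((DCoh.tensorCx.obj A).map m) := fun {P P'} m => by
    have h1 := (Assoc.allIso A' (KFlat.isKFlat_RF A)).hom.naturality m
    simp only [Functor.comp_map] at h1
    simp only [θ]
    rw [← Category.assoc, h1, Category.assoc, Category.assoc, ← Functor.map_comp, ← Functor.map_comp]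
    exact congrArg (fun t => _ ≫ DerivedCategory.Q.map t) (hψ m)
  have hθi : ∀ {P : CochainComplex Y.Modules ℤ}, DCoh.IsKFlat P → IsIso (θ P) := fun {P} hP => by
    haveI : QuasiIso ((DCoh.tensorCx.obj P).map rA) := by
      haveI := KFlat.quasiIso_tensor_of_kflat P hP rA
      have h1 : QuasiIso ((KFlat.T P).map rA ≫ (KFlat.commIso A P).hom) := by
        rw [KFlat.commIso_natural]; infer_instance
      exact quasiIso_of_comp_right _ (KFlat.commIso A P).hom
    haveI : QuasiIso (ψ P) := inferInstance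
    haveI : IsIso (DerivedCategory.Q.map (ψ P)) := (DerivedCategory.isIso_Q_map_iff_quasiIso _ _).2 inferInstance
    infer_instance
  let h₀ : DerivedCategory.Q.obj ((DCoh.tensorCx.obj A).obj P₀) ⟶ Qo :=
    DerivedCategory.Q.map (ProjQis.cmp f I P₀ r₀.hom) ≫ pushComp f I ≫ (DCoh.Rpush f).map eI.inv ≫ h
  let η : DerivedCategory.Q.obj P₀ ⟶ H := ad.homEquiv _ Qo (θ P₀ ≫ h₀)
  obtain ⟨C, q, d, hC⟩ := distinguished_cocone_triangle η
  let T' := (Triangle.mk η q d).invRotate
  have hT' : T' ∈ distTriang _ := inv_rot_of_distTriang _ hC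
  let k : T'.obj₁ ⟶ DerivedCategory.Q.obj P₀ := T'.mor₁
  have hk0 : k ≫ η = 0 := comp_distTriang_mor_zero₁₂ _ hT'
  have hK'q : DCoh.IsQCohD T'.obj₁ := Gen.isQCohD_shift (Gen.isQCohD_third _ hC hP₀q hHq) (-1)
  have hHV : IsZero ((resD V).obj H) := by
    haveI := KFlat.hasLTensorCx ((ExtZero.rCx V.ι).obj A')
    haveI := RHom.hasRSheafHom ((ExtZero.rCx V.ι).obj A')
    obtain ⟨j⟩ := ExtZero.nonempty_res_RSheafHom V.ι A'
    refine IsZero.of_iso ?_ (j.app Qo)
    exact (IsZero.iff_id_eq_zero _).2 (((DCoh.RSheafHomAdj ((ExtZero.rCx V.ι).obj A')).homEquiv _ _).symm.injective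
      (hV.eq_of_tgt _ _))
  haveI hkV : IsIso ((resD V).map k) :=
    (Triangle.isZero₃_iff_isIso₁ _ ((resD V).map_distinguished _ hT')).1 hHV
  obtain ⟨G, s, hs, g, hg⟩ := DerivedCategory.right_fac
    ((DerivedCategory.Q.objObjPreimageIso T'.obj₁).hom ≫ k)
  haveI : QuasiIso s := (DerivedCategory.isIso_Q_map_iff_quasiIso _ s).1 inferInstance
  let P' := (KFlat.RF Y).obj G
  haveI := KFlat.quasiIso_rF G
  let κ : P' ⟶ P₀ := (KFlat.rF Y).app G ≫ g
  have hP' : DCoh.IsKFlat P' := KFlat.isKFlat_RF G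
  haveI : IsIso (DerivedCategory.Q.map ((KFlat.rF Y).app G)) :=
    (DerivedCategory.isIso_Q_map_iff_quasiIso _ _).2 (KFlat.quasiIso_rF G)
  let e' : DerivedCategory.Q.obj P' ≅ T'.obj₁ :=
    asIso (DerivedCategory.Q.map ((KFlat.rF Y).app G)) ≪≫ asIso (DerivedCategory.Q.map s) ≪≫
      DerivedCategory.Q.objObjPreimageIso T'.obj₁
  have hκ : DerivedCategory.Q.map κ = e'.hom ≫ k := by
    have : DerivedCategory.Q.map g = DerivedCategory.Q.map s ≫
        (DerivedCategory.Q.objObjPreimageIso T'.obj₁).hom ≫ k := by rw [hg, IsIso.hom_inv_id_assoc]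
    simp [κ, e', this]
  have hκV : QuasiIso ((ExtZero.rCx V.ι).map κ) := by
    refine (DerivedCategory.isIso_Q_map_iff_quasiIso _ _).1 ?_
    haveI : IsIso ((resD V).map (DerivedCategory.Q.map κ)) := by rw [hκ, Functor.map_comp]; infer_instance
    exact (NatIso.isIso_map_iff (Scheme.Modules.restrictFunctor V.ι).mapDerivedCategoryFactors κ).1 this
  haveI := hκV
  obtain ⟨J, r, hJ, hr⟩ := ProjFormulaD.exists_kinj (ProjQis.T f I P')
  let qX := HomotopyCategory.quotient X.Modules (ComplexShape.up ℤ)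
  have hrq : HomotopyCategory.quasiIso X.Modules _ (qX.map r) :=
    (HomotopyCategory.quotient_map_mem_quasiIso_iff _).2 ((HomologicalComplex.mem_quasiIso_iff _).2 hr)
  obtain ⟨φ, hφ⟩ := (Groth.L10.KInjDerived.precomp_bijective (qX.map r) hrq ⟨qX.obj I, ‹I.IsKInjective›⟩).surjective
    (qX.map ((DCoh.tensorCx.obj I).map ((Proj.pullCx f).map κ) ≫ r₀.hom))
  obtain ⟨a, rfl⟩ := qX.map_surjective φ
  let ha : Homotopy (r ≫ a) ((DCoh.tensorCx.obj I).map ((Proj.pullCx f).map κ) ≫ r₀.hom) :=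
    HomotopyCategory.homotopyOfEq _ _ ((qX.map_comp _ _).trans hφ)
  have hsq : DerivedCategory.Q.map (ProjQis.cmp f I P' r) ≫ DerivedCategory.Q.map ((Proj.pushCx f).map a) =
      DerivedCategory.Q.map ((DCoh.tensorCx.obj A).map κ) ≫ DerivedCategory.Q.map (ProjQis.cmp f I P₀ r₀.hom) := by
    rw [← Functor.map_comp, ← Functor.map_comp]
    refine DerivedCategory.Q_map_eq_of_homotopy _ ?_
    refine (Homotopy.ofEq ?_).trans (((((Scheme.Modules.pushforward f).mapHomotopy ha)).compLeft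
      (Proj.proj f I P')).trans (Homotopy.ofEq ?_))
    · exact (Category.assoc _ _ _).trans (congrArg (_ ≫ ·) ((Proj.pushCx f).map_comp _ _).symm)
    · refine (congrArg (Proj.proj f I P' ≫ ·) ((Proj.pushCx f).map_comp _ _)).trans ?_
      refine (Category.assoc _ _ _).symm.trans ((congrArg (· ≫ _) (Proj.proj_natural f I P' κ).symm).trans ?_)
      exact Category.assoc _ _ _
  refine ⟨DerivedCategory.Q.obj J, DerivedCategory.Q.map a ≫ eI.inv, ?_, ?_, ?_⟩
  · haveI : QuasiIso r := hr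
    refine isQCohD_of_cover fun x => ⟨f ⁻¹ᵁ ⊤, trivial, ?_⟩
    haveI := ExtZero.preservesFiniteLimits (f ⁻¹ᵁ (⊤ : Y.Opens)).ι
    haveI := ExtZero.preservesFiniteLimits (⊤ : Y.Opens).ι
    haveI : IsIso (DerivedCategory.Q.map ((ExtZero.rCx (f ⁻¹ᵁ (⊤ : Y.Opens)).ι).map r)) :=
      (DerivedCategory.isIso_Q_map_iff_quasiIso _ _).2 inferInstance
    exact isQCohD_of_iso (asIso (DerivedCategory.Q.map ((ExtZero.rCx (f ⁻¹ᵁ (⊤ : Y.Opens)).ι).map r)) ≪≫
      ((ExtZero.res (f ⁻¹ᵁ (⊤ : Y.Opens)).ι).mapDerivedCategoryFactors.app J).symm)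
      (BC.ProjQC.isQCohD_res_T f I ⊤ hIq hP' (isQCohD_of_iso
        ((ExtZero.res (⊤ : Y.Opens).ι).mapDerivedCategoryFactors.app P')
        (isQCohD_restrictD _ (isQCohD_of_iso e'.symm hK'q))))
  · haveI := quasiIso_T_map f I V hP₀ hP' κ
    let ι := (f ⁻¹ᵁ V).ι
    let F := DerivedCategory.Q ⋙ resD (f ⁻¹ᵁ V)
    have hF : ∀ {A B : CochainComplex X.Modules ℤ} (m : A ⟶ B) [QuasiIso ((ExtZero.rCx ι).map m)], IsIso (F.map m) :=
      fun {A B} m _ => (NatIso.isIso_map_iff (Scheme.Modules.restrictFunctor ι).mapDerivedCategoryFactors m).2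
        ((DerivedCategory.isIso_Q_map_iff_quasiIso _ _).2 ‹_›)
    have h1 : F.map r ≫ F.map a = F.map ((DCoh.tensorCx.obj I).map ((Proj.pullCx f).map κ)) ≫ F.map r₀.hom := by
      rw [← Functor.map_comp, ← Functor.map_comp]
      exact congrArg (resD (f ⁻¹ᵁ V)).map (DerivedCategory.Q_map_eq_of_homotopy _ ha)
    haveI := hF ((DCoh.tensorCx.obj I).map ((Proj.pullCx f).map κ))
    haveI : IsIso (F.map r) := by
      haveI : QuasiIso r := hr
      exact hF r
    haveI : IsIso (F.map r ≫ F.map a) := by rw [h1]; infer_instance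
    haveI : IsIso (F.map a) := IsIso.of_isIso_comp_left (F.map r) (F.map a)
    rw [Functor.map_comp]
    exact IsIso.comp_isIso' ‹IsIso (F.map a)› inferInstance
  · haveI : J.IsKInjective := hJ
    haveI := isIso_pushComp f J
    haveI : QuasiIso r := hr
    haveI := BC.ProjQC.isIso_cmp f I hIq hP' (isQCohD_of_iso e'.symm hK'q) r
    haveI := hθi hP'
    have h0 : θ P' ≫ DerivedCategory.Q.map ((DCoh.tensorCx.obj A).map κ) ≫ h₀ = 0 := by
      rw [← Category.assoc, ← hθn κ, Category.assoc]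
      refine (ad.homEquiv _ _).injective ?_
      rw [Adjunction.homEquiv_naturality_left, hκ, Category.assoc]
      change e'.hom ≫ k ≫ η = _
      rw [hk0, comp_zero, Adjunction.homEquiv_unit, Functor.map_zero, comp_zero]
    have hh : DerivedCategory.Q.map ((DCoh.tensorCx.obj A).map κ) ≫ h₀ = 0 := by
      rw [← cancel_epi (θ P'), comp_zero]
      exact h0
    simp only [h₀] at hh
    rw [reassoc_of% hsq.symm, reassoc_of% (pushComp_natural f a)] at hh
    rw [← cancel_epi (DerivedCategory.Q.map (ProjQis.cmp f I P' r) ≫ pushComp f J), comp_zero]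
    rw [Functor.map_comp (DCoh.Rpush f), Category.assoc, Category.assoc]
    exact hh

set_option maxHeartbeats 1000000 in
/-- a right adjoint of `Rf_*` carries objects vanishing on `V` to objects vanishing on `f⁻¹V` -/
theorem isZero_res_adjoint [CompactSpace X] [QuasiSeparatedSpace X] (V : Y.Opens) (hVc : IsCompact (V : Set Y))
    (hq : DCoh.RpushPreservesQCoh f) (a : DCoh.DQCoh Y ⥤ DCoh.DQCoh X) (adj : DCoh.RpushQ f hq ⊣ a)
    (Q : DCoh.DQCoh Y)
    (hH : ∀ P : DCoh.D X, DCoh.IsPerfect P → ∀ (E : CochainComplex Y.Modules ℤ) [DCoh.HasLTensorCx E]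
      [DCoh.HasRSheafHom E], Nonempty (DCoh.toD Y E ≅ (DCoh.Rpush f).obj P) →
        DCoh.IsQCohD ((DCoh.RSheafHom E).obj Q.obj))
    (hV : IsZero ((resD V).obj Q.obj)) : IsZero ((resD (f ⁻¹ᵁ V)).obj (a.obj Q).obj) := by
  let W := f ⁻¹ᵁ V
  haveI : CompactSpace (W : Scheme.{u}) := isCompact_iff_compactSpace.1 (f.isCompact_preimage hVc)
  haveI : QuasiSeparatedSpace (W : Scheme.{u}) := quasiSeparatedSpace_of_quasiSeparated W.ι
  haveI := RpushColim.additive_Rpush f
  obtain ⟨G, hG, hgen⟩ := Gen.exists_perfect_generator (W : Scheme.{u})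
  refine hgen _ (isQCohD_restrictD _ (a.obj Q).property) fun n φ => ?_
  obtain ⟨R, β, i, p, hR, -, -, hiβ⟩ := Gen.lift_of_compact W.ι ⊥ (by simp) (a.obj Q).obj (a.obj Q).property
    _ (perfect_shift hG n) (fun k x hx => absurd hx (by simp)) φ
  let R₀ : DCoh.DQCoh X := ⟨R, PCQCoh.isQCohD_of_perfect hR⟩
  let β₀ : R₀ ⟶ a.obj Q := ObjectProperty.homMk β
  let h := (adj.homEquiv R₀ Q).symm β₀
  obtain ⟨R', s, hR', hs, hz⟩ := exists_kill f V R₀.property (fun E _ _ e => hH R hR E e) hV h.hom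
  let s₀ : (⟨R', hR'⟩ : DCoh.DQCoh X) ⟶ R₀ := ObjectProperty.homMk s
  have h1 : (DCoh.RpushQ f hq).map s₀ ≫ h = 0 := ObjectProperty.hom_ext _ hz
  have h2 : s₀ ≫ β₀ = 0 := by
    haveI : (DCoh.RpushQ f hq).Additive := ⟨fun {A B g g'} => by
      apply ObjectProperty.hom_ext
      exact (DCoh.Rpush f).map_add (f := g.hom) (g := g'.hom)⟩
    refine (adj.homEquiv _ Q).symm.injective ?_
    rw [Adjunction.homEquiv_naturality_left_symm, h1, Adjunction.homEquiv_counit, Functor.map_zero, zero_comp]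
  have h3 : (resD W).map β = 0 := by
    have h4 : s ≫ β = 0 := congrArg (fun t => t.hom) h2
    rw [← cancel_epi ((resD W).map s), comp_zero, ← Functor.map_comp, h4]
    exact Functor.map_zero _ _ _
  rw [← hiβ]
  exact (congrArg (i ≫ ·) h3).trans comp_zero

end Groth.L29.BC.SupportAdj
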