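import Groth.Agent.L29.BC.SupportAdj
import Groth.Agent.L29.DCoh.Gen.QCohTri

/-!
Universality of maps `f_* J ⟶ K₀` for K-injective `J`; it is stable under shifts.
-/

set_option autoImplicit false
set_option backward.defeqAttrib.useBackward true
set_option backward.isDefEq.respectTransparency false
set_option backward.isDefEq.respectTransparency.types false

universe u

open CategoryTheory CategoryTheory.Limits CategoryTheory.Pretriangulated AlgebraicGeometry CochainComplex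

attribute [local instance] HasDerivedCategory.standard

namespace Groth.L29.BC.UnivShift

open Groth.L00 Groth.L29.DC

variable {X Y : Scheme.{u}} (f : X ⟶ Y)

/-- maps into `J` correspond to maps `f_* Z ⟶ K₀` -/
def U (J : CochainComplex X.Modules ℤ) {K₀ : DCoh.D Y}
    (φ : DerivedCategory.Q.obj ((Proj.pushCx f).obj J) ⟶ K₀) : Prop :=
  ∀ Z : CochainComplex X.Modules ℤ, Z.IsKInjective → DCoh.IsQCohD (DerivedCategory.Q.obj Z) →
    (∀ v v' : Z ⟶ J, DerivedCategory.Q.map ((Proj.pushCx f).map v) ≫ φ =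
        DerivedCategory.Q.map ((Proj.pushCx f).map v') ≫ φ → DerivedCategory.Q.map v = DerivedCategory.Q.map v') ∧
      ∀ ψ : DerivedCategory.Q.obj ((Proj.pushCx f).obj Z) ⟶ K₀,
        ∃ v : Z ⟶ J, DerivedCategory.Q.map ((Proj.pushCx f).map v) ≫ φ = ψ

/-- the derived category sees every map into a K-injective complex -/
theorem exists_map {A J : CochainComplex X.Modules ℤ} [J.IsKInjective]
    (d : DerivedCategory.Q.obj A ⟶ DerivedCategory.Q.obj J) : ∃ m : A ⟶ J, DerivedCategory.Q.map m = d := by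
  obtain ⟨R, s, hs, g, hg⟩ := DerivedCategory.right_fac d
  haveI : QuasiIso s := (DerivedCategory.isIso_Q_map_iff_quasiIso _ s).1 inferInstance
  let q := HomotopyCategory.quotient X.Modules (ComplexShape.up ℤ)
  have hq : HomotopyCategory.quasiIso X.Modules _ (q.map s) :=
    (HomotopyCategory.quotient_map_mem_quasiIso_iff _).2 ((HomologicalComplex.mem_quasiIso_iff _).2 inferInstance)
  obtain ⟨φ, hφ⟩ := (Groth.L10.KInjDerived.precomp_bijective (q.map s) hq ⟨q.obj J, ‹J.IsKInjective›⟩).surjective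
    (q.map g)
  obtain ⟨m, rfl⟩ := q.map_surjective φ
  refine ⟨m, ?_⟩
  rw [hg, IsIso.eq_inv_comp, ← Functor.map_comp]
  exact DerivedCategory.Q_map_eq_of_homotopy _ (HomotopyCategory.homotopyOfEq _ _ ((q.map_comp _ _).trans hφ))

theorem exists_kinj_rep (K : DCoh.D X) :
    ∃ (Z : CochainComplex X.Modules ℤ), Z.IsKInjective ∧ Nonempty (DerivedCategory.Q.obj Z ≅ K) := by
  obtain ⟨I, i, hI, hi⟩ := ProjFormulaD.exists_kinj (DerivedCategory.Q.objPreimage K)
  exact ⟨I, hI, ⟨(@asIso _ _ _ _ (DerivedCategory.Q.map i)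
    ((DerivedCategory.isIso_Q_map_iff_quasiIso _ i).2 hi)).symm ≪≫ DerivedCategory.Q.objObjPreimageIso K⟩⟩

variable [DCoh.HasRpush f] {hf : DCoh.RpushPreservesQCoh f} {a : DCoh.DQCoh Y ⥤ DCoh.DQCoh X}
  (adj : DCoh.RpushQ f hf ⊣ a)

theorem univ_of_isIso {M : DCoh.DQCoh X} {K : DCoh.DQCoh Y} (g : (DCoh.RpushQ f hf).obj M ⟶ K)
    [IsIso (adj.homEquiv M K g)] {J : CochainComplex X.Modules ℤ} [J.IsKInjective]
    (e : DerivedCategory.Q.obj J ≅ M.obj) {K₀ : DCoh.D Y} (γ : K.obj ≅ K₀) :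
    U f J (SupportAdj.pushComp f J ≫ (DCoh.Rpush f).map e.hom ≫ g.hom ≫ γ.hom) := by
  intro Z hZ hZq
  haveI := hZ
  haveI := SupportAdj.isIso_pushComp f Z
  let Z₀ : DCoh.DQCoh X := ⟨DerivedCategory.Q.obj Z, hZq⟩
  have key : ∀ v : Z ⟶ J, DerivedCategory.Q.map ((Proj.pushCx f).map v) ≫
      SupportAdj.pushComp f J ≫ (DCoh.Rpush f).map e.hom ≫ g.hom ≫ γ.hom =
      SupportAdj.pushComp f Z ≫ ((adj.homEquiv Z₀ K).symm
        ((ObjectProperty.homMk (DerivedCategory.Q.map v ≫ e.hom) : Z₀ ⟶ M) ≫ adj.homEquiv M K g)).hom ≫ γ.hom :=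
    fun v => by
    rw [Adjunction.homEquiv_naturality_left_symm, Equiv.symm_apply_apply]
    change _ = _ ≫ ((DCoh.Rpush f).map (DerivedCategory.Q.map v ≫ e.hom) ≫ g.hom) ≫ γ.hom
    rw [← Category.assoc, SupportAdj.pushComp_natural f v, Functor.map_comp]
    simp only [Category.assoc]
  refine ⟨fun v v' h => ?_, fun ψ => ?_⟩
  · rw [key v, key v', cancel_epi (SupportAdj.pushComp f Z), cancel_mono γ.hom] at h
    have h2 := (cancel_mono (adj.homEquiv M K g)).1 ((adj.homEquiv Z₀ K).symm.injective (ObjectProperty.hom_ext _ h))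
    exact (cancel_mono e.hom).1 (congrArg (fun t => t.hom) h2)
  · let ψ₀ : (DCoh.RpushQ f hf).obj Z₀ ⟶ K :=
      ObjectProperty.homMk (inv (SupportAdj.pushComp f Z) ≫ ψ ≫ γ.inv)
    let w : Z₀ ⟶ M := adj.homEquiv Z₀ K ψ₀ ≫ inv (adj.homEquiv M K g)
    obtain ⟨v, hv⟩ := exists_map (J := J) (A := Z) (w.hom ≫ e.inv)
    refine ⟨v, (key v).trans ?_⟩
    have hw : (ObjectProperty.homMk (DerivedCategory.Q.map v ≫ e.hom) : Z₀ ⟶ M) = w := by
      apply ObjectProperty.hom_ext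
      change DerivedCategory.Q.map v ≫ e.hom = w.hom
      rw [hv, Category.assoc, e.inv_hom_id, Category.comp_id]
    rw [hw]
    simp only [w, Category.assoc, IsIso.inv_hom_id, Category.comp_id, Equiv.symm_apply_apply]
    change _ ≫ (inv (SupportAdj.pushComp f Z) ≫ ψ ≫ γ.inv) ≫ γ.hom = ψ
    simp

theorem isIso_of_univ {M : DCoh.DQCoh X} {K : DCoh.DQCoh Y} (g : (DCoh.RpushQ f hf).obj M ⟶ K)
    {J : CochainComplex X.Modules ℤ} [J.IsKInjective] (e : DerivedCategory.Q.obj J ≅ M.obj)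
    (h : U f J (SupportAdj.pushComp f J ≫ (DCoh.Rpush f).map e.hom ≫ g.hom)) :
    IsIso (adj.homEquiv M K g) := by
  refine isIso_of_yoneda_map_bijective _ fun Z₀ => ?_
  obtain ⟨Z, hZ, ⟨eZ⟩⟩ := exists_kinj_rep Z₀.obj
  haveI := hZ
  haveI := SupportAdj.isIso_pushComp f Z
  obtain ⟨inj, surj⟩ := h Z hZ (isQCohD_of_iso eZ.symm Z₀.property)
  have key : ∀ (v : Z ⟶ J) (w : Z₀ ⟶ M), DerivedCategory.Q.map v ≫ e.hom = eZ.hom ≫ w.hom →
      DerivedCategory.Q.map ((Proj.pushCx f).map v) ≫ SupportAdj.pushComp f J ≫ (DCoh.Rpush f).map e.hom ≫ g.hom =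
        SupportAdj.pushComp f Z ≫ (DCoh.Rpush f).map eZ.hom ≫
          ((adj.homEquiv Z₀ K).symm (w ≫ adj.homEquiv M K g)).hom := fun v w hvw => by
    rw [Adjunction.homEquiv_naturality_left_symm, Equiv.symm_apply_apply]
    change _ = _ ≫ _ ≫ (DCoh.Rpush f).map w.hom ≫ g.hom
    rw [← Category.assoc, SupportAdj.pushComp_natural f v, Category.assoc, ← Functor.map_comp_assoc, hvw,
      Functor.map_comp, Category.assoc]
  refine ⟨fun w w' hww => ?_, fun z => ?_⟩
  · obtain ⟨v, hv⟩ := exists_map (J := J) (A := Z) (eZ.hom ≫ w.hom ≫ e.inv)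
    obtain ⟨v', hv'⟩ := exists_map (J := J) (A := Z) (eZ.hom ≫ w'.hom ≫ e.inv)
    have hv1 : DerivedCategory.Q.map v ≫ e.hom = eZ.hom ≫ w.hom := by simp [hv]
    have hv2 : DerivedCategory.Q.map v' ≫ e.hom = eZ.hom ≫ w'.hom := by simp [hv']
    have e1 := key v w hv1
    rw [show w ≫ adj.homEquiv M K g = w' ≫ adj.homEquiv M K g from hww] at e1
    have := inj v v' (e1.trans (key v' w' hv2).symm)
    rw [hv, hv'] at this
    exact ObjectProperty.hom_ext _ ((cancel_mono e.inv).1 ((cancel_epi eZ.hom).1 this))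
  · obtain ⟨v, hv⟩ := surj (SupportAdj.pushComp f Z ≫ (DCoh.Rpush f).map eZ.hom ≫ ((adj.homEquiv Z₀ K).symm z).hom)
    let w : Z₀ ⟶ M := ObjectProperty.homMk (eZ.inv ≫ DerivedCategory.Q.map v ≫ e.hom)
    refine ⟨w, (adj.homEquiv Z₀ K).symm.injective (ObjectProperty.hom_ext _ ?_)⟩
    have := (key v w (by simp [w])).symm.trans hv
    rw [cancel_epi, cancel_epi] at this
    exact this

omit [DCoh.HasRpush f] in
/-- `Q f_* (J⟦n⟧) ≅ (Q f_* J)⟦n⟧` -/
noncomputable def ν (n : ℤ) (J : CochainComplex X.Modules ℤ) :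
    DerivedCategory.Q.obj ((Proj.pushCx f).obj (J⟦n⟧)) ≅ (DerivedCategory.Q.obj ((Proj.pushCx f).obj J))⟦n⟧ :=
  haveI := Groth.L17.PushQCoh.additive_push f
  DerivedCategory.Q.mapIso (((Scheme.Modules.pushforward f).mapCochainComplexShiftIso n).app J) ≪≫
    (DerivedCategory.Q.commShiftIso n).app ((Proj.pushCx f).obj J)

omit [DCoh.HasRpush f] in
theorem ν_natural (n : ℤ) {J J' : CochainComplex X.Modules ℤ} (v : J ⟶ J') :
    DerivedCategory.Q.map ((Proj.pushCx f).map (v⟦n⟧')) ≫ (ν f n J').hom =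
      (ν f n J).hom ≫ (DerivedCategory.Q.map ((Proj.pushCx f).map v))⟦n⟧' := by
  haveI := Groth.L17.PushQCoh.additive_push f
  have h1 := congrArg DerivedCategory.Q.map (((Scheme.Modules.pushforward f).mapCochainComplexShiftIso n).hom.naturality v)
  simp only [Functor.map_comp, Functor.comp_map] at h1
  have h2 := (DerivedCategory.Q.commShiftIso (C := CochainComplex Y.Modules ℤ) n).hom.naturality ((Proj.pushCx f).map v)
  simp only [Functor.comp_map] at h2
  simp only [ν, Iso.trans_hom, Functor.mapIso_hom, Iso.app_hom, Category.assoc]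
  rw [reassoc_of% h1]
  exact congrArg (_ ≫ ·) h2

omit [DCoh.HasRpush f] in
theorem univ_shift {J : CochainComplex X.Modules ℤ} {K₀ K₁ : DCoh.D Y}
    {φ : DerivedCategory.Q.obj ((Proj.pushCx f).obj J) ⟶ K₀} (h : U f J φ) (n : ℤ) (γ : K₀⟦n⟧ ≅ K₁) :
    U f (J⟦n⟧) ((ν f n J).hom ≫ φ⟦n⟧' ≫ γ.hom) := by
  intro Z hZ hZq
  haveI := hZ
  haveI := Groth.L17.PushQCoh.additive_push f
  let Z' : CochainComplex X.Modules ℤ := Z⟦-n⟧
  let ε : Z'⟦n⟧ ≅ Z := (shiftFunctorCompIsoId (CochainComplex X.Modules ℤ) (-n) n (by omega)).app Z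
  haveI hZ' : Z'.IsKInjective := inferInstance
  have hZ'q : DCoh.IsQCohD (DerivedCategory.Q.obj Z') :=
    isQCohD_of_iso ((DerivedCategory.Q.commShiftIso (-n)).app Z).symm (Gen.isQCohD_shift hZq (-n))
  obtain ⟨inj, surj⟩ := h Z' hZ' hZ'q
  have key : ∀ u : Z' ⟶ J, DerivedCategory.Q.map ((Proj.pushCx f).map (u⟦n⟧')) ≫ (ν f n J).hom ≫ φ⟦n⟧' ≫ γ.hom =
      (ν f n Z').hom ≫ (DerivedCategory.Q.map ((Proj.pushCx f).map u) ≫ φ)⟦n⟧' ≫ γ.hom := fun u => by
    rw [← Category.assoc, ν_natural f n u, Functor.map_comp, Category.assoc, Category.assoc]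
  refine ⟨fun v v' hv => ?_, fun ψ => ?_⟩
  · obtain ⟨u, hu⟩ := (CategoryTheory.shiftFunctor (CochainComplex X.Modules ℤ) n).map_surjective (ε.hom ≫ v)
    obtain ⟨u', hu'⟩ := (CategoryTheory.shiftFunctor (CochainComplex X.Modules ℤ) n).map_surjective (ε.hom ≫ v')
    have h0 : ∀ w : Z ⟶ J⟦n⟧, DerivedCategory.Q.map ((Proj.pushCx f).map (ε.hom ≫ w)) ≫ (ν f n J).hom ≫ φ⟦n⟧' ≫ γ.hom =
        DerivedCategory.Q.map ((Proj.pushCx f).map ε.hom) ≫ DerivedCategory.Q.map ((Proj.pushCx f).map w) ≫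
          (ν f n J).hom ≫ φ⟦n⟧' ≫ γ.hom := fun w => by
      rw [Functor.map_comp, Functor.map_comp, Category.assoc]
    have h1 := ((h0 v).trans (congrArg (DerivedCategory.Q.map ((Proj.pushCx f).map ε.hom) ≫ ·) hv)).trans (h0 v').symm
    rw [← hu, ← hu', key, key, cancel_epi, cancel_mono] at h1
    have h2 := inj u u' ((CategoryTheory.shiftFunctor (DCoh.D Y) n).map_injective h1)
    have h3 := (DerivedCategory.Q.commShiftIso (C := CochainComplex X.Modules ℤ) n).hom.naturality u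
    have h4 := (DerivedCategory.Q.commShiftIso (C := CochainComplex X.Modules ℤ) n).hom.naturality u'
    simp only [Functor.comp_map] at h3 h4
    rw [h2] at h3
    have h5 := (cancel_mono _).1 (h3.trans h4.symm)
    rw [hu, hu', Functor.map_comp, Functor.map_comp, cancel_epi] at h5
    exact h5
  · obtain ⟨χ, hχ⟩ := (CategoryTheory.shiftFunctor (DCoh.D Y) n).map_surjective
      ((ν f n Z').inv ≫ DerivedCategory.Q.map ((Proj.pushCx f).map ε.hom) ≫ ψ ≫ γ.inv)
    obtain ⟨u, hu⟩ := surj χ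
    refine ⟨ε.inv ≫ u⟦n⟧', ?_⟩
    rw [Functor.map_comp, Functor.map_comp, Category.assoc, key u, hu, hχ]
    simp only [Category.assoc, Iso.inv_hom_id, Category.comp_id, Iso.hom_inv_id_assoc]
    rw [← Functor.map_comp_assoc, ← Functor.map_comp, ε.inv_hom_id, CategoryTheory.Functor.map_id,
      CategoryTheory.Functor.map_id, Category.id_comp]

end Groth.L29.BC.UnivShift
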