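import Groth.Agent.L17.Approx.Model
import Groth.Agent.L29.LocFree
import Groth.Agent.L29.DCoh.Flat
import Groth.Agent.L29.DCoh.RelTor
import Groth.Agent.L19.ConormalAffine
import Groth.Agent.L16.Rees.RelVanish
import Groth.Agent.L29.DCoh.RelBC

/-!
A proper flat morphism of finite presentation over an affine scheme comes from a proper flat morphism over a
Noetherian ring.
-/

set_option autoImplicit false
set_option backward.isDefEq.respectTransparency false
set_option backward.isDefEq.respectTransparency.types false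

universe u

open CategoryTheory CategoryTheory.Limits AlgebraicGeometry TopologicalSpace
open scoped TensorProduct

namespace Groth.L29.BC

open Groth.L17.Approx Groth.L29.DC

theorem flat_of_isFlatOver {X S : Scheme.{u}} (f : X ⟶ S)
    (h : FlatMod.IsFlatOver f (Coh.structureModule X)) : Flat f := by
  rw [Flat.iff_flat_stalkMap]
  intro x
  have hx := h x
  unfold FlatMod.IsFlatOverAt at hx
  letI := (f.stalkMap x).hom.toAlgebra
  letI := FlatMod.moduleStalkOver f (Coh.structureModule X) x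
  haveI : IsScalarTower (S.presheaf.stalk (f.base x)) (X.presheaf.stalk x) ((Coh.structureModule X).presheaf.stalk x) :=
    ⟨fun r a m => by
      show ((f.stalkMap x).hom r * a) • m = (f.stalkMap x).hom r • (a • m)
      rw [mul_smul]⟩
  let e : X.presheaf.stalk x ≃ₗ[X.presheaf.stalk x] (Coh.structureModule X).presheaf.stalk x :=
    LinearEquiv.ofBijective (LinearMap.toSpanSingleton (X.presheaf.stalk x) _ (Groth.L22.oneGerm x))
      ⟨(injective_iff_map_eq_zero _).2 fun a ha => Groth.L22.eq_zero_of_smul_oneGerm ha,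
        Groth.L22.stalk_smul_oneGerm_surjective x⟩
  haveI : Module.Flat (S.presheaf.stalk (f.base x)) ((Coh.structureModule X).presheaf.stalk x) := hx
  show Module.Flat (S.presheaf.stalk (f.base x)) (X.presheaf.stalk x)
  exact Module.Flat.of_linearEquiv (e.restrictScalars (S.presheaf.stalk (f.base x)))

variable {A : Type u} [CommRing A]

open Groth.L17.BC in
/-- a flat Noetherian model -/
theorem exists_flat_model {X : Scheme.{u}} (f : X ⟶ Spec (CommRingCat.of A)) [IsProper f]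
    [LocallyOfFinitePresentation f] [Flat f] :
    ∃ A₀ : Subalgebra ℤ A, IsNoetherianRing A₀ ∧
      ∃ (X₀ : Scheme.{u}) (f₀ : X₀ ⟶ Spec (CommRingCat.of ↥A₀)) (g : X ⟶ X₀),
        IsProper f₀ ∧ LocallyOfFinitePresentation f₀ ∧ Flat f₀ ∧
          IsPullback g f f₀ (Spec.map (CommRingCat.ofHom (algebraMap (↥A₀) A))) := by
  classical
  obtain ⟨A₁, hA₁, X₁, f₁, g₁, hf₁, hlfp₁, sq₁⟩ := exists_proper_model f
  haveI := hf₁; haveI := hlfp₁
  haveI : Algebra.FiniteType ℤ A₁ := A₁.fg_iff_finiteType.mp hA₁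
  haveI : IsNoetherianRing A₁ := Algebra.FiniteType.isNoetherianRing ℤ A₁
  haveI : IsLocallyNoetherian X₁ := LocallyOfFiniteType.isLocallyNoetherian f₁
  haveI : CompactSpace X₁ := QuasiCompact.compactSpace_of_compactSpace f₁
  haveI : X₁.IsSeparated := ⟨by rw [← terminal.comp_from f₁]; infer_instance⟩
  let F₁ := Coh.structureModule X₁
  let F := Coh.structureModule X
  have hfl : FlatMod.IsFlatOver f F := RelTor.isFlatOver_of_isFlat f (isFlat_structureModule X)
  have hF₁ : Coh.IsCoh F₁ := Groth.L16.Rees.RelVanish.isCoh_structureModule X₁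
  let iso : (Scheme.Modules.pullback g₁).obj F₁ ≅ F := Groth.L29.LocFree.pullbackUnitIso g₁
  haveI : Coh.IsQCoh F₁ := hF₁.1
  haveI : Coh.IsQCoh F := Groth.L19.Conormal.isQCoh_structureModule X
  haveI := Groth.L17.BC.isAffineHom_of_isPullback f₁ f g₁ sq₁
  obtain ⟨d, W, hcov, haff⟩ := Groth.L17.BC.exists_affine_cover (X := X₁)
  have hW : ∀ k, IsAffineOpen (W k) := fun k => by simpa using haff 0 fun _ => k
  let ρ₁ := Coh.toGlobal f₁
  let ρ := Coh.toGlobal f
  have key : ∀ k, ∃ S : Finset A, ∀ (A₂ : Subalgebra ℤ A) (hle : A₁ ≤ A₂), (S : Set A) ⊆ A₂ →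
      letI := (Subalgebra.inclusion hle).toRingHom.toAlgebra
      Module.Flat A₂ (A₂ ⊗[A₁] Sec ρ₁ F₁ (W k)) := by
    intro k
    letI : Algebra A₁ Γ(X₁, W k) := (act ρ₁ (W k)).toAlgebra
    letI : Module Γ(X₁, W k) (Sec ρ₁ F₁ (W k)) := inferInstanceAs (Module Γ(X₁, W k) Γ(F₁, W k))
    haveI : IsScalarTower A₁ Γ(X₁, W k) (Sec ρ₁ F₁ (W k)) := IsScalarTower.of_algebraMap_smul fun _ _ => rfl
    haveI : Algebra.FinitePresentation A₁ Γ(X₁, W k) := by
      have h := f₁.finitePresentation_appLE (isAffineOpen_top _) (hW k) le_top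
      have h2 : (act ρ₁ (W k)).FinitePresentation := by
        have e : act ρ₁ (W k) =
            (f₁.appLE ⊤ (W k) le_top).hom.comp (Scheme.ΓSpecIso (CommRingCat.of ↥A₁)).inv.hom :=
          RingHom.ext fun a => rfl
        rw [e]
        exact RingHom.FinitePresentation.comp h (RingHom.FinitePresentation.of_bijective
          (ConcreteCategory.bijective_of_isIso (Scheme.ΓSpecIso (CommRingCat.of ↥A₁)).inv))
      exact h2
    haveI : IsNoetherianRing Γ(X₁, W k) := IsLocallyNoetherian.component_noetherian ⟨W k, hW k⟩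
    haveI : Module.Finite Γ(X₁, W k) (Sec ρ₁ F₁ (W k)) := Groth.L20.ModStalk.finite_sections F₁ hF₁ (hW k)
    haveI : Module.FinitePresentation Γ(X₁, W k) (Sec ρ₁ F₁ (W k)) :=
      Module.finitePresentation_of_finite _ _
    haveI : Module.Flat A (A ⊗[A₁] Sec ρ₁ F₁ (W k)) := by
      have hbc := Groth.L17.BC.hasBC_of_isPullback f₁ f g₁ sq₁ F₁ (W k) (hW k) _ rfl
      haveI := Groth.L17.BC.flat_sec f F hfl ((hW k).preimage g₁)
      let e : Sec ρ (Groth.L17.BC.Fb g₁ F₁) (g₁ ⁻¹ᵁ W k) ≃ₗ[A] Sec ρ F (g₁ ⁻¹ᵁ W k) :=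
        LinearEquiv.ofBijective
          ({ toFun := fun z => iso.hom.app _ z
             map_add' := fun a b => map_add _ a b
             map_smul' := fun a z => iso.hom.app_smul _ _ } :
            Sec ρ (Groth.L17.BC.Fb g₁ F₁) (g₁ ⁻¹ᵁ W k) →ₗ[A] Sec ρ F (g₁ ⁻¹ᵁ W k))
          ((ConcreteCategory.isIso_iff_bijective (iso.hom.app (g₁ ⁻¹ᵁ W k))).1 inferInstance)
      exact Module.Flat.of_linearEquiv (hbc.equiv ≪≫ₗ e)
    exact exists_flat_coeffs A₁ (B := Γ(X₁, W k))
  choose S hS using key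
  let A₂ : Subalgebra ℤ A := A₁ ⊔ Algebra.adjoin ℤ ((Finset.univ.biUnion S : Finset A) : Set A)
  have hA₂ : A₂.FG := hA₁.sup ⟨_, rfl⟩
  haveI : Algebra.FiniteType ℤ A₂ := A₂.fg_iff_finiteType.mp hA₂
  haveI : IsNoetherianRing A₂ := Algebra.FiniteType.isNoetherianRing ℤ A₂
  have hSA : ∀ k, (S k : Set A) ⊆ A₂ := fun k x hx =>
    (le_sup_right : Algebra.adjoin ℤ _ ≤ A₂) (Algebra.subset_adjoin
      (Finset.mem_biUnion.2 ⟨k, Finset.mem_univ k, hx⟩))
  obtain ⟨X₂, f₂, g₂, h, hf₂, hlfp₂, sq₂, sqh, hgh⟩ := exists_stage (le_sup_left : A₁ ≤ A₂) f f₁ g₁ sq₁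
  subst hgh
  haveI := hf₂; haveI := hlfp₂
  haveI : IsLocallyNoetherian X₂ := LocallyOfFiniteType.isLocallyNoetherian f₂
  haveI : IsAffineHom h := MorphismProperty.of_isPullback (P := @IsAffineHom) sqh.flip inferInstance
  let F₂ := (Scheme.Modules.pullback h).obj F₁
  haveI : Coh.IsQCoh F₂ := Groth.L16.AffineBC.isQCoh_pullback h F₁
  letI := (Subalgebra.inclusion (le_sup_left : A₁ ≤ A₂)).toRingHom.toAlgebra
  have hflat : FlatMod.IsFlatOver f₂ F₂ := by
    refine isFlatOver_of_flat_sec f₂ F₂ (fun k => h ⁻¹ᵁ W k) (fun k => (hW k).preimage h)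
      (fun x => by
        have hx : h x ∈ ⨆ k, W k := hcov ▸ trivial
        obtain ⟨k, hk⟩ := Opens.mem_iSup.1 hx
        exact ⟨k, hk⟩) fun k => ?_
    have hbc := Groth.L17.BC.hasBC_of_isPullback f₁ f₂ h sqh F₁ (W k) (hW k) _ rfl
    haveI := hS k A₂ le_sup_left (hSA k)
    exact Module.Flat.of_linearEquiv hbc.equiv.symm
  exact ⟨A₂, ‹_›, X₂, f₂, g₂, hf₂, hlfp₂,
    flat_of_isFlatOver f₂ (RelBC.isFlatOver_of_iso f₂ (Groth.L29.LocFree.pullbackUnitIso h) hflat), sq₂⟩

end Groth.L29.BC
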