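import Groth.Agent.L29.BC.Map
import Groth.Agent.L29.DCoh.QRlim

/-!
Composition isomorphisms of derived direct images and their associativity.
-/

set_option autoImplicit false
set_option backward.defeqAttrib.useBackward true
set_option backward.isDefEq.respectTransparency false
set_option backward.isDefEq.respectTransparency.types false

universe u

open CategoryTheory CategoryTheory.Limits AlgebraicGeometry

attribute [local instance] HasDerivedCategory.standard

namespace Groth.L29.BC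

open Groth.L00

variable {X Y Z T : Scheme.{u}}

local notation "KH" X => HomotopyCategory (Scheme.Modules X) (ComplexShape.up ℤ)

/-- composition of direct images of modules along a given composite -/
noncomputable def pcMod {g : X ⟶ Y} {f : Y ⟶ Z} {h : X ⟶ Z} (hw : g ≫ f = h) :
    Scheme.Modules.pushforward g ⋙ Scheme.Modules.pushforward f ≅ Scheme.Modules.pushforward h :=
  Scheme.Modules.pushforwardComp g f ≪≫ Scheme.Modules.pushforwardCongr hw

/-- the same on homotopy categories -/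
noncomputable def pcK {g : X ⟶ Y} {f : Y ⟶ Z} {h : X ⟶ Z} (hw : g ≫ f = h) :
    RpushComp.push g ⋙ RpushComp.push f ≅ RpushComp.push h :=
  NatIso.ofComponents (fun P => (HomotopyCategory.quotient Z.Modules (ComplexShape.up ℤ)).mapIso
      (HomologicalComplex.Hom.isoOfComponents (fun i => (pcMod hw).app (P.as.X i))
        (fun i j _ => ((pcMod hw).hom.naturality (P.as.d i j)).symm)))
    fun {P Q} φ => by
      obtain ⟨φ, rfl⟩ := (HomotopyCategory.quotient X.Modules (ComplexShape.up ℤ)).map_surjective (X := P.as) (Y := Q.as) φ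
      refine ((HomotopyCategory.quotient Z.Modules (ComplexShape.up ℤ)).map_comp _ _).symm.trans
        (Eq.trans (congrArg _ ?_) ((HomotopyCategory.quotient Z.Modules (ComplexShape.up ℤ)).map_comp _ _))
      ext i : 1
      exact (pcMod hw).hom.naturality (φ.f i)

theorem pcMod_assoc {a : X ⟶ Y} {b : Y ⟶ Z} {c : Z ⟶ T} {ab : X ⟶ Z} {bc : Y ⟶ T} {abc : X ⟶ T}
    (h₁ : a ≫ b = ab) (h₂ : b ≫ c = bc) (h₃ : ab ≫ c = abc) (h₄ : a ≫ bc = abc) (M : X.Modules) :
    (Scheme.Modules.pushforward c).map ((pcMod h₁).hom.app M) ≫ (pcMod h₃).hom.app M =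
      (pcMod h₂).hom.app ((Scheme.Modules.pushforward a).obj M) ≫ (pcMod h₄).hom.app M := by
  subst h₁ h₂ h₃
  ext U s
  rfl

theorem pcK_assoc {a : X ⟶ Y} {b : Y ⟶ Z} {c : Z ⟶ T} {ab : X ⟶ Z} {bc : Y ⟶ T} {abc : X ⟶ T}
    (h₁ : a ≫ b = ab) (h₂ : b ≫ c = bc) (h₃ : ab ≫ c = abc) (h₄ : a ≫ bc = abc) (J : KH X) :
    (RpushComp.push c).map ((pcK h₁).hom.app J) ≫ (pcK h₃).hom.app J =
      (pcK h₂).hom.app ((RpushComp.push a).obj J) ≫ (pcK h₄).hom.app J := by
  refine ((HomotopyCategory.quotient T.Modules (ComplexShape.up ℤ)).map_comp _ _).symm.trans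
    (Eq.trans (congrArg _ ?_) ((HomotopyCategory.quotient T.Modules (ComplexShape.up ℤ)).map_comp _ _))
  ext i : 1
  exact pcMod_assoc h₁ h₂ h₃ h₄ (J.as.X i)

/-- the unit transported along a composite -/
noncomputable def τc {g : X ⟶ Y} {f : Y ⟶ Z} {h : X ⟶ Z} [DCoh.HasRpush h] (hw : g ≫ f = h) :
    RpushComp.push g ⋙ DCoh.pushKh f ⟶ DerivedCategory.Qh ⋙ DCoh.Rpush h :=
  (Functor.associator _ _ _).inv ≫ Functor.whiskerRight (pcK hw).hom DerivedCategory.Qh ≫ ηR h

theorem τc_app {g : X ⟶ Y} {f : Y ⟶ Z} {h : X ⟶ Z} [DCoh.HasRpush h] (hw : g ≫ f = h) (J : KH X) :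
    (τc hw).app J = DerivedCategory.Qh.map ((pcK hw).hom.app J) ≫ (ηR h).app J := by
  simp only [τc, NatTrans.comp_app, Functor.associator_inv_app, Functor.whiskerRight_app]
  exact Category.id_comp _

theorem isRightDerived_τc {g : X ⟶ Y} {f : Y ⟶ Z} {h : X ⟶ Z} [DCoh.HasRpush h] (hw : g ≫ f = h) :
    (DCoh.Rpush h).IsRightDerivedFunctor (τc hw) (HomotopyCategory.quasiIso X.Modules (ComplexShape.up ℤ)) := by
  haveI := Groth.L00.Tensor.grothendieckAbelian_modules X
  refine Groth.L10.KInjDerived.isRightDerivedFunctor_of_isIso _ fun I hI => ?_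
  haveI := isIso_ηR h I
  rw [τc_app]
  infer_instance

/-- composition of derived direct images -/
noncomputable def cR {g : X ⟶ Y} {f : Y ⟶ Z} {h : X ⟶ Z} [DCoh.HasRpush g] [DCoh.HasRpush f] [DCoh.HasRpush h]
    (hw : g ≫ f = h) : DCoh.Rpush g ⋙ DCoh.Rpush f ≅ DCoh.Rpush h :=
  haveI := isRightDerived_θ g f
  haveI := isRightDerived_τc hw
  Functor.rightDerivedUnique _ _ (θ g f) (τc hw) (HomotopyCategory.quasiIso X.Modules (ComplexShape.up ℤ))

theorem cR_fac {g : X ⟶ Y} {f : Y ⟶ Z} {h : X ⟶ Z} [DCoh.HasRpush g] [DCoh.HasRpush f] [DCoh.HasRpush h]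
    (hw : g ≫ f = h) (J : KH X) :
    (θ g f).app J ≫ (cR hw).hom.app (DerivedCategory.Qh.obj J) = (τc hw).app J := by
  haveI := isRightDerived_θ g f
  haveI := isRightDerived_τc hw
  refine (Functor.rightDerivedNatTrans_app (DCoh.Rpush g ⋙ DCoh.Rpush f) (DCoh.Rpush h) (θ g f) (τc hw)
    (HomotopyCategory.quasiIso X.Modules (ComplexShape.up ℤ)) (𝟙 _) J).trans ?_
  simp

/-- two transformations out of derived functors agree if they agree on K-injective complexes -/
theorem ext_kinj {D : Type*} [Category D] {F G : DCoh.D X ⥤ D} (φ ψ : F ⟶ G)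
    (h : ∀ I : CochainComplex X.Modules ℤ, I.IsKInjective →
      φ.app (DerivedCategory.Qh.obj ((HomotopyCategory.quotient X.Modules (ComplexShape.up ℤ)).obj I)) =
        ψ.app (DerivedCategory.Qh.obj ((HomotopyCategory.quotient X.Modules (ComplexShape.up ℤ)).obj I))) : φ = ψ := by
  haveI := Groth.L00.Tensor.grothendieckAbelian_modules X
  ext A
  haveI := Groth.L29.DC.QRlim.enoughKInj X
  obtain ⟨P, ⟨eP⟩⟩ : ∃ P : KH X, Nonempty (DerivedCategory.Qh.obj P ≅ A) :=
    ⟨_, ⟨DerivedCategory.Qh.objObjPreimageIso A⟩⟩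
  obtain ⟨R⟩ := Groth.L10.KInjDerived.exists_rightResolution P
  haveI := RpushComp.isIso_Qh (X := X) R.hw
  let e : DerivedCategory.Qh.obj ((Groth.L10.KInjDerived.locMor X.Modules).functor.obj R.X₁) ≅ A :=
    (asIso (DerivedCategory.Qh.map R.w)).symm ≪≫ eP
  rw [← cancel_epi (F.map e.hom), φ.naturality, ψ.naturality]
  exact congrArg (· ≫ _) (h R.X₁.obj.as R.X₁.property)

/-- associativity of the composition isomorphisms -/
theorem cR_assoc {a : X ⟶ Y} {b : Y ⟶ Z} {c : Z ⟶ T} {ab : X ⟶ Z} {bc : Y ⟶ T} {abc : X ⟶ T}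
    [DCoh.HasRpush a] [DCoh.HasRpush b] [DCoh.HasRpush c] [DCoh.HasRpush ab] [DCoh.HasRpush bc] [DCoh.HasRpush abc]
    (h₁ : a ≫ b = ab) (h₂ : b ≫ c = bc) (h₃ : ab ≫ c = abc) (h₄ : a ≫ bc = abc) (A : DCoh.D X) :
    (DCoh.Rpush c).map ((cR h₁).hom.app A) ≫ (cR h₃).hom.app A =
      (cR h₂).hom.app ((DCoh.Rpush a).obj A) ≫ (cR h₄).hom.app A := by
  let φ : (DCoh.Rpush a ⋙ DCoh.Rpush b) ⋙ DCoh.Rpush c ⟶ DCoh.Rpush abc :=
    Functor.whiskerRight (cR h₁).hom (DCoh.Rpush c) ≫ (cR h₃).hom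
  let ψ : (DCoh.Rpush a ⋙ DCoh.Rpush b) ⋙ DCoh.Rpush c ⟶ DCoh.Rpush abc :=
    (Functor.associator _ _ _).hom ≫ Functor.whiskerLeft (DCoh.Rpush a) (cR h₂).hom ≫ (cR h₄).hom
  suffices h : φ = ψ by
    have := congrArg (fun t => t.app A) h
    simp only [φ, ψ, NatTrans.comp_app, Functor.whiskerRight_app, Functor.associator_hom_app,
      Functor.whiskerLeft_app] at this
    exact this.trans (Category.id_comp _)
  refine ext_kinj φ ψ fun I hI => ?_
  haveI := Groth.L00.Tensor.grothendieckAbelian_modules X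
  let J := (HomotopyCategory.quotient X.Modules (ComplexShape.up ℤ)).obj I
  haveI := isIso_ηR a I
  haveI : IsIso ((ηR b).app ((RpushComp.push a).obj J)) :=
    RpushComp.isIso_unit b _ (RpushComp.wk_push a (RpushComp.wk_kInjective _ hI))
  haveI : IsIso ((ηR c).app ((RpushComp.push b).obj ((RpushComp.push a).obj J))) :=
    RpushComp.isIso_unit c _ (RpushComp.wk_push b (RpushComp.wk_push a (RpushComp.wk_kInjective _ hI)))
  let e3 := (ηR c).app ((RpushComp.push b).obj ((RpushComp.push a).obj J)) ≫ (DCoh.Rpush c).map ((θ a b).app J)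
  haveI : IsIso ((θ a b).app J) := by rw [θ_app]; infer_instance
  haveI : IsIso e3 := inferInstance
  refine (cancel_epi e3).1 ?_
  have hφ : φ.app (DerivedCategory.Qh.obj J) =
      (DCoh.Rpush c).map ((cR h₁).hom.app (DerivedCategory.Qh.obj J)) ≫ (cR h₃).hom.app (DerivedCategory.Qh.obj J) := rfl
  have hψ : ψ.app (DerivedCategory.Qh.obj J) =
      (cR h₂).hom.app ((DCoh.Rpush a).obj (DerivedCategory.Qh.obj J)) ≫ (cR h₄).hom.app (DerivedCategory.Qh.obj J) := by
    simp only [ψ, NatTrans.comp_app, Functor.associator_hom_app, Functor.whiskerLeft_app]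
    exact Category.id_comp _
  rw [hφ, hψ]
  have n₁ := (ηR c).naturality ((pcK h₁).hom.app J)
  dsimp at n₁
  have f₁ := cR_fac h₁ J
  have f₃ := cR_fac h₃ J
  have f₂ := cR_fac h₂ ((RpushComp.push a).obj J)
  have f₄ := cR_fac h₄ J
  rw [θ_app] at f₂ f₄
  rw [θ_app] at f₃
  rw [τc_app] at f₁ f₂ f₃ f₄
  have n₂ := (cR h₂).hom.naturality ((ηR a).app J)
  dsimp at n₂
  have hL : e3 ≫ (DCoh.Rpush c).map ((cR h₁).hom.app (DerivedCategory.Qh.obj J)) ≫ (cR h₃).hom.app (DerivedCategory.Qh.obj J) =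
      DerivedCategory.Qh.map ((RpushComp.push c).map ((pcK h₁).hom.app J) ≫ (pcK h₃).hom.app J) ≫ (ηR abc).app J := by
    simp only [e3, Category.assoc]
    rw [← Functor.map_comp_assoc, f₁, Functor.map_comp, Category.assoc]
    erw [← reassoc_of% n₁]
    refine Eq.trans ?_ ((congrArg (· ≫ _) (DerivedCategory.Qh.map_comp _ _)).trans (Category.assoc _ _ _)).symm
    exact congrArg (_ ≫ ·) ((Category.assoc _ _ _).symm.trans f₃)
  have hR : e3 ≫ (cR h₂).hom.app ((DCoh.Rpush a).obj (DerivedCategory.Qh.obj J)) ≫ (cR h₄).hom.app (DerivedCategory.Qh.obj J) =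
      DerivedCategory.Qh.map ((pcK h₂).hom.app ((RpushComp.push a).obj J) ≫ (pcK h₄).hom.app J) ≫ (ηR abc).app J := by
    simp only [e3, θ_app, Functor.map_comp, Category.assoc]
    erw [reassoc_of% n₂]
    erw [reassoc_of% f₂]
    rw [← f₄]
    simp
  rw [hL, hR, pcK_assoc h₁ h₂ h₃ h₄ J]

variable {X' S S' : Scheme.{u}} {f : X ⟶ S} {g : S' ⟶ S} {g' : X' ⟶ X} {f' : X' ⟶ S'}
  [DCoh.HasRpush f] [DCoh.HasRpush g] [DCoh.HasRpush f'] [DCoh.HasRpush g']

theorem swapK_pcK (w : g' ≫ f = f' ≫ g) {d : X' ⟶ S} (hd : g' ≫ f = d) (J : KH X') :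
    (swapK w).hom.app J ≫ (pcK (w.symm.trans hd)).hom.app J = (pcK hd).hom.app J := by
  refine ((HomotopyCategory.quotient S.Modules (ComplexShape.up ℤ)).map_comp _ _).symm.trans
    (congrArg _ ?_)
  ext i : 1
  subst hd
  change (swapMod w).hom.app _ ≫ (pcMod w.symm).hom.app _ = (pcMod rfl).hom.app _
  ext U s
  simp [swapMod, pcMod]

/-- the identification of a square through the diagonal -/
theorem e_eq (w : g' ≫ f = f' ≫ g) {d : X' ⟶ S} [DCoh.HasRpush d] (hd : g' ≫ f = d) :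
    e w = cR hd ≪≫ (cR (w.symm.trans hd)).symm := by
  apply Iso.ext
  rw [Iso.trans_hom, Iso.symm_hom, ← cancel_mono (cR (w.symm.trans hd)).hom, Category.assoc, Iso.inv_hom_id,
    Category.comp_id]
  haveI := isRightDerived_θ g' f
  refine Functor.rightDerived_ext (DCoh.Rpush g' ⋙ DCoh.Rpush f) (θ g' f)
    (HomotopyCategory.quasiIso X'.Modules (ComplexShape.up ℤ)) _ _ _ ?_
  ext J
  simp only [NatTrans.comp_app, Functor.whiskerLeft_app]
  rw [reassoc_of% e_fac w J, cR_fac hd J, θ'_app, Category.assoc, cR_fac, τc_app, τc_app, ← Category.assoc,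
    ← Functor.map_comp, swapK_pcK]

end Groth.L29.BC
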