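import Groth.Agent.L29.BC.PerfectPush
import Groth.Agent.L29.DCoh.Gen.ApproxMain
import Groth.Agent.L29.DCoh.PCDescent

/-!
Proper flat morphisms of finite presentation send pseudo-coherent objects to pseudo-coherent objects.
-/

set_option autoImplicit false
set_option backward.defeqAttrib.useBackward true
set_option backward.isDefEq.respectTransparency false
set_option backward.isDefEq.respectTransparency.types false

universe u

open CategoryTheory CategoryTheory.Limits CategoryTheory.Pretriangulated AlgebraicGeometry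

attribute [local instance] HasDerivedCategory.standard

namespace Groth.L29.BC

open Groth.L00 Groth.L29.DC

theorem pc_Rpush_affineBase {A : Type u} [CommRing A] {X : Scheme.{u}} (f : X ⟶ Spec (CommRingCat.of A))
    [IsProper f] [Flat f] [LocallyOfFinitePresentation f] [DCoh.HasRpush f] {E : DCoh.D X}
    (hE : ∀ m, DCoh.IsPseudoCoherentD m E) (m : ℤ) : DCoh.IsPseudoCoherentD m ((DCoh.Rpush f).obj E) := by
  haveI : CompactSpace X := QuasiCompact.compactSpace_of_compactSpace f
  haveI : X.IsSeparated := ⟨by rw [← terminal.comp_from f]; infer_instance⟩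
  haveI := Groth.L17.PushQCoh.hasInjectiveResolutions X
  obtain ⟨N, hN⟩ := RpushQC.exists_bound f
  obtain ⟨k, hk⟩ : ∃ k : ℕ, (N : ℤ) - (k : ℤ) ≤ m := ⟨((N : ℤ) - m).toNat, by omega⟩
  obtain ⟨r, hr⟩ := Gen.approxHolds X ⊥ (by simp [IsRetrocompact])
  have hEq := PCQCoh.isQCohD_of_pc hE
  obtain ⟨P, α, hP, -, hα⟩ := hr (-(k : ℤ) - 1) E hEq (hE _) (fun i _ x hx => absurd hx (by simp))
  have h := RpushQC.isIso_H_map_of_bound f N hN (PCQCoh.isQCohD_of_perfect hP) hEq α k
    (fun i hi => hα.1 i (by omega))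
  have hf : Approx ((DCoh.Rpush f).map α) m :=
    ⟨fun i hi => h i (by omega), haveI := h m hk; inferInstance⟩
  obtain ⟨C, g, d, hT⟩ := distinguished_cocone_triangle ((DCoh.Rpush f).map α)
  have hC : C.IsLE (m - 1) := (approx_iff_triangle _ hT m).1 hf
  exact (pc_two_out_of_three hT m).2.1 (pc_of_perfect (isPerfect_Rpush f hP) m)
    (pc_of_isZero fun i hi => DerivedCategory.isZero_of_isLE C (m - 1) i (by omega))

theorem pc_Rpush {X S : Scheme.{u}} (f : X ⟶ S) [IsProper f] [Flat f] [LocallyOfFinitePresentation f]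
    [DCoh.HasRpush f] {E : DCoh.D X} (hE : ∀ m, DCoh.IsPseudoCoherentD m E) (m : ℤ) :
    DCoh.IsPseudoCoherentD m ((DCoh.Rpush f).obj E) := by
  refine PCDesc.pc_of_local fun s => ?_
  obtain ⟨_, ⟨V, hV, rfl⟩, hsV, -⟩ := S.isBasis_affineOpens.exists_subset_of_mem_open (Set.mem_univ s) isOpen_univ
  let g₀ := f ∣_ V
  let g := g₀ ≫ hV.isoSpec.hom
  let ι := (f ⁻¹ᵁ V).ι
  have w : g ≫ hV.fromSpec = ι ≫ f := by
    simp [g, g₀, ι, IsAffineOpen.isoSpec_hom_fromSpec, morphismRestrict_ι]
  haveI := RpushQC.hasRpush g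
  haveI : IsProper g₀ := IsZariskiLocalAtTarget.restrict ‹IsProper f› V
  haveI : Flat g₀ := IsZariskiLocalAtTarget.restrict ‹Flat f› V
  haveI : LocallyOfFinitePresentation g₀ := IsZariskiLocalAtTarget.restrict ‹LocallyOfFinitePresentation f› V
  obtain ⟨eV⟩ := RpushRes.nonempty_iso f hV.fromSpec ι g
    (by rw [hV.opensRange_fromSpec, Scheme.Opens.opensRange_ι]) w
  have h := pc_Rpush_affineBase (A := Γ(S, V)) g (fun n => PCStalk.pc_res ι (hE n)) m
  have h' := PCStalk.pc_res hV.isoSpec.hom (isPseudoCoherentD_of_iso (eV.app E).symm h)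
  exact ⟨V, hsV, isPseudoCoherentD_of_iso
    ((resTransD hV.fromSpec hV.isoSpec.hom (Scheme.Opens.ι V) hV.isoSpec_hom_fromSpec).app _) h'⟩

end Groth.L29.BC
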