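import Groth.Agent.L29.BC.GoodSigma
import Groth.Agent.L29.BC.Affine
import Groth.Agent.L29.DCoh.RHomExists
import Groth.Agent.L29.DCoh.EvalMain

/-!
The projection formula for complexes with quasi-coherent cohomology.
-/

set_option autoImplicit false
set_option backward.defeqAttrib.useBackward true
set_option backward.isDefEq.respectTransparency false
set_option backward.isDefEq.respectTransparency.types false

universe u

open CategoryTheory CategoryTheory.Limits CategoryTheory.Pretriangulated AlgebraicGeometry CochainComplex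

attribute [local instance] HasDerivedCategory.standard

namespace Groth.L29.BC.ProjQC

open Groth.L00 Groth.L29.DC

variable {X Y : Scheme.{u}} (f : X ⟶ Y) (I : CochainComplex X.Modules ℤ) [I.IsKInjective] (V : Y.Opens)

/-- K-flat complexes on the open with invertible projection map -/
def PV (M : DCoh.D (V : Scheme.{u})) : Prop :=
  ∃ E : CochainComplex (V : Scheme.{u}).Modules ℤ, DCoh.IsKFlat E ∧
    Nonempty (DerivedCategory.Q.obj E ≅ M) ∧ ProjQis.Good f I V.ι ((ExtZero.eCx V.ι).obj E)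

/-- invariance under isomorphisms in the derived category -/
theorem transfer {E E' : CochainComplex (V : Scheme.{u}).Modules ℤ} (hE : DCoh.IsKFlat E) (hE' : DCoh.IsKFlat E')
    (e : DerivedCategory.Q.obj E ≅ DerivedCategory.Q.obj E') (h : ProjQis.Good f I V.ι ((ExtZero.eCx V.ι).obj E)) :
    ProjQis.Good f I V.ι ((ExtZero.eCx V.ι).obj E') := by
  obtain ⟨R, s, hs, g, hg⟩ := DerivedCategory.right_fac e.hom
  haveI : IsIso (DerivedCategory.Q.map g) := by
    rw [show DerivedCategory.Q.map g = DerivedCategory.Q.map s ≫ e.hom by rw [hg, IsIso.hom_inv_id_assoc]]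
    infer_instance
  haveI : QuasiIso s := (DerivedCategory.isIso_Q_map_iff_quasiIso _ s).1 inferInstance
  haveI : QuasiIso g := (DerivedCategory.isIso_Q_map_iff_quasiIso _ g).1 inferInstance
  haveI := KFlat.quasiIso_rF R
  let r : (KFlat.RF _).obj R ⟶ R := (KFlat.rF _).app R
  haveI : QuasiIso r := KFlat.quasiIso_rF R
  exact (EvalPerf.iff_map (ProjQis.locProp f I) V.ι (KFlat.isKFlat_RF R) hE' (r ≫ g)).1
    ((EvalPerf.iff_map (ProjQis.locProp f I) V.ι (KFlat.isKFlat_RF R) hE (r ≫ s)).2 h)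

theorem PV.coproduct [QuasiCompact f] [QuasiSeparated f] (hI : DCoh.IsQCohD (DerivedCategory.Q.obj I)) {ι : Type u}
    (K : ι → DCoh.D (V : Scheme.{u})) [HasCoproduct K] (hK : ∀ i, DCoh.IsQCohD (K i)) (h : ∀ i, PV f I V (K i)) :
    PV f I V (∐ K) := by
  choose E hE e hg using h
  haveI := Gen.hasCoproducts_D (V : Scheme.{u}) ι
  haveI : PreservesColimitsOfSize.{u, u} (ExtZero.eCx V.ι) := (ExtZero.adjCx V.ι).leftAdjoint_preservesColimits
  have hk := KFlat.coproduct E hE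
  obtain ⟨h2⟩ := RpushColim.isColimit_Q_cofan E
  refine ⟨∐ E, hk, ⟨h2.coconePointUniqueUpToIso (colimit.isColimit (Discrete.functor fun i => DerivedCategory.Q.obj (E i)))
    ≪≫ Sigma.mapIso fun i => (e i).some⟩, ?_⟩
  let c := PreservesCoproduct.iso (ExtZero.eCx V.ι) E
  have hF : ∀ i, DCoh.IsKFlat ((ExtZero.eCx V.ι).obj (E i)) := fun i => ExtZero.isKFlat_eCx V.ι (hE i)
  have hs := good_coproduct f I V hI (fun i => (ExtZero.eCx V.ι).obj (E i)) hF
    (fun i => isQCohD_of_iso (DerivedCategory.Q.mapIso (asIso ((ExtZero.adjCx V.ι).unit.app (E i))))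
      (isQCohD_of_iso (e i).some.symm (hK i))) hg
  haveI : QuasiIso ((ExtZero.rCx V.ι).map c.hom) := inferInstance
  exact (ProjQis.good_iff f I V.ι c.hom (ExtZero.isKFlat_eCx V.ι hk) (KFlat.coproduct _ hF)).2 hs

theorem PV.third (T : Triangle (DCoh.D (V : Scheme.{u}))) (hT : T ∈ distTriang _) (h₁ : PV f I V T.obj₁)
    (h₂ : PV f I V T.obj₂) : PV f I V T.obj₃ := by
  obtain ⟨E₁, hE₁, ⟨e₁⟩, hg₁⟩ := h₁
  obtain ⟨E₂, hE₂, ⟨e₂⟩, hg₂⟩ := h₂
  obtain ⟨R, s, hs, φ, hφ⟩ := DerivedCategory.right_fac (e₁.hom ≫ T.mor₁ ≫ e₂.inv)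
  haveI : QuasiIso s := (DerivedCategory.isIso_Q_map_iff_quasiIso _ s).1 inferInstance
  haveI := KFlat.quasiIso_rF R
  let r : (KFlat.RF _).obj R ⟶ R := (KFlat.rF _).app R
  haveI : QuasiIso r := KFlat.quasiIso_rF R
  have hR := KFlat.isKFlat_RF (Y := (V : Scheme.{u})) R
  haveI : IsIso (DerivedCategory.Q.map (r ≫ s)) := (DerivedCategory.isIso_Q_map_iff_quasiIso _ _).2 inferInstance
  let a : DerivedCategory.Q.obj ((KFlat.RF _).obj R) ≅ DerivedCategory.Q.obj E₁ := asIso (DerivedCategory.Q.map (r ≫ s))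
  have hT' : DerivedCategory.Q.mapTriangle.obj (mappingCone.triangle (r ≫ φ)) ∈ distTriang _ :=
    (DerivedCategory.mem_distTriang_iff _).2 ⟨_, _, r ≫ φ, ⟨Iso.refl _⟩⟩
  refine ⟨mappingCone (r ≫ φ), KFlat.isKFlat_cone _ hR hE₂,
    ⟨(Triangle.π₃).mapIso (isoTriangleOfIso₁₂ _ T hT' hT (a ≪≫ e₁) e₂.symm.symm ?_)⟩, ?_⟩
  · change DerivedCategory.Q.map (r ≫ φ) ≫ e₂.hom = (DerivedCategory.Q.map (r ≫ s) ≫ e₁.hom) ≫ T.mor₁
    have h1 : DerivedCategory.Q.map φ = DerivedCategory.Q.map s ≫ e₁.hom ≫ T.mor₁ ≫ e₂.inv := by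
      rw [hφ, IsIso.hom_inv_id_assoc]
    rw [Functor.map_comp, h1, Functor.map_comp]
    simp
  · exact EvalPerf.middle (ProjQis.locProp f I) V.ι
      (S := mappingCone.triangleRotateShortComplex (r ≫ φ)) (mappingCone.triangleRotateShortComplexSplitting (r ≫ φ))
      hg₂ ((EvalPerf.shift_one (ProjQis.locProp f I) V.ι hR).1 (transfer f I V hE₁ hR a.symm hg₁))

/-- the projection map is invertible over affine opens -/
theorem PV_of_qcoh [QuasiCompact f] [QuasiSeparated f] (hI : DCoh.IsQCohD (DerivedCategory.Q.obj I))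
    [IsAffine (V : Scheme.{u})] {M : DCoh.D (V : Scheme.{u})} (hM : DCoh.IsQCohD M) : PV f I V M := by
  let W : Scheme.{u} := V
  obtain ⟨G, hG, hgen, ⟨eG⟩⟩ := exists_unit_generator (V : Scheme.{u})
  haveI := Gen.locallySmall_D (V : Scheme.{u})
  haveI : HasCoproducts.{u} (DCoh.D (V : Scheme.{u})) := Gen.hasCoproducts_D _
  haveI : HasColimitsOfShape (Discrete ℕ) (DCoh.D (V : Scheme.{u})) :=
    hasColimitsOfShape_of_equivalence (Discrete.equivalence (Equiv.ulift.{u} : ULift.{u} ℕ ≃ ℕ))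
  haveI : ∀ (Y : DCoh.D (V : Scheme.{u})) (n : ℤ), Small.{u} (G⟦n⟧ ⟶ Y) := fun Y n => inferInstance
  have hGq := PCQCoh.isQCohD_of_perfect hG
  refine localizing_top (PV f I V) (DCoh.IsQCohD (X := (V : Scheme.{u})))
    (fun e ⟨E, hE, ⟨e'⟩, hg⟩ => ⟨E, hE, ⟨e' ≪≫ e⟩, hg⟩) (fun n => ?_)
    (fun {ι} C hC h => PV.coproduct f I V hI C hC h)
    (fun T hT _ _ h₁ h₂ => PV.third f I V T hT h₁ h₂)
    (fun n => Gen.isQCohD_shift hGq n) (fun {ι} C hC => QCohColim.isQCohD_coproduct C hC) (fun C hC => ?_)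
    (fun T hT h₁ h₂ => Gen.isQCohD_third T hT h₁ h₂) (fun n => Gen.cpt_of_perfect (perfect_shift hG n))
    hgen hM
  · let E₀ := (HomologicalComplex.single (V : Scheme.{u}).Modules (ComplexShape.up ℤ) 0).obj
      (Coh.structureModule (V : Scheme.{u}))
    have hk : DCoh.IsKFlat E₀ := KFlat.single _ (isFlat_structureModule _) 0
    let e0 : DerivedCategory.Q.obj E₀ ≅ G :=
      (((SingleFunctors.evaluation _ _ 0).mapIso
        (DerivedCategory.singleFunctorsPostcompQIso (V : Scheme.{u}).Modules)).app _).symm ≪≫ eG.symm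
    exact ⟨E₀⟦n⟧, KFlat.shift _ n hk, ⟨(DerivedCategory.Q.commShiftIso n).app E₀ ≪≫ (CategoryTheory.shiftFunctor _ n).mapIso e0⟩,
      (EvalPerf.shift_int (ProjQis.locProp f I) V.ι hk n).2 (EvalPerf.unit₀ (ProjQis.locProp f I) V.ι)⟩
  · refine isQCohD_of_iso ?_ (QCohColim.isQCohD_coproduct (fun n : ULift.{u} ℕ => C n.down) fun n => hC n.down)
    exact Sigma.whiskerEquiv (f := fun n : ULift.{u} ℕ => C n.down) (g := C) Equiv.ulift.{u} fun n => Iso.refl _

/-- the projection map is a quasi-isomorphism for K-flat complexes with quasi-coherent cohomology -/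
theorem isIso_cmp [QuasiCompact f] [QuasiSeparated f] (hI : DCoh.IsQCohD (DerivedCategory.Q.obj I))
    {P : CochainComplex Y.Modules ℤ} (hP : DCoh.IsKFlat P) (hq : DCoh.IsQCohD (DerivedCategory.Q.obj P))
    {J : CochainComplex X.Modules ℤ} [J.IsKInjective] (r : ProjQis.T f I P ⟶ J) [QuasiIso r] :
    IsIso (DerivedCategory.Q.map (ProjQis.cmp f I P r)) := by
  refine EvalMain.isIso_Q_of_local _ fun y => ?_
  obtain ⟨_, ⟨(V : Y.Opens), hV, rfl⟩, hy, -⟩ := Y.isBasis_affineOpens.exists_subset_of_mem_open (Set.mem_univ y) isOpen_univ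
  haveI : IsAffine (V : Scheme.{u}) := hV
  haveI := ExtZero.preservesFiniteLimits V.ι
  obtain ⟨E, hE, ⟨e⟩, hg⟩ := PV_of_qcoh f I V hI (M := DerivedCategory.Q.obj ((ExtZero.rCx V.ι).obj P))
    (isQCohD_of_iso ((ExtZero.res V.ι).mapDerivedCategoryFactors.app P) (isQCohD_restrictD V.ι hq))
  haveI := KFlat.quasiIso_rF ((ExtZero.rCx V.ι).obj P)
  haveI : IsIso (DerivedCategory.Q.map ((KFlat.rF _).app ((ExtZero.rCx V.ι).obj P))) :=
    (DerivedCategory.isIso_Q_map_iff_quasiIso _ _).2 (KFlat.quasiIso_rF _)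
  exact ⟨V, hy, (EvalPerf.iff_adjoint (ProjQis.locProp f I) V.ι (KFlat.isKFlat_RF _) hP
    ((KFlat.rF _).app ((ExtZero.rCx V.ι).obj P))).1
      (transfer f I V hE (KFlat.isKFlat_RF _) (e ≪≫ (asIso (DerivedCategory.Q.map
        ((KFlat.rF _).app ((ExtZero.rCx V.ι).obj P)))).symm) hg) J r⟩

/-- derived tensor products only depend on the isomorphism class of the fixed factor -/
theorem nonempty_LTensorCx_congr {A B : CochainComplex X.Modules ℤ} [DCoh.HasLTensorCx A] [DCoh.HasLTensorCx B]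
    (e : DerivedCategory.Q.obj A ≅ DerivedCategory.Q.obj B) :
    Nonempty (DCoh.LTensorCx A ≅ DCoh.LTensorCx B) := by
  obtain ⟨R, s, hs, g, hg⟩ := DerivedCategory.right_fac e.hom
  haveI : IsIso (DerivedCategory.Q.map g) := by
    rw [show DerivedCategory.Q.map g = DerivedCategory.Q.map s ≫ e.hom by rw [hg, IsIso.hom_inv_id_assoc]]
    infer_instance
  haveI : QuasiIso s := (DerivedCategory.isIso_Q_map_iff_quasiIso _ s).1 inferInstance
  haveI : QuasiIso g := (DerivedCategory.isIso_Q_map_iff_quasiIso _ g).1 inferInstance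
  haveI : DCoh.HasLTensorCx R := KFlat.hasLTensorCx R
  haveI := RHom.isIso_ltMap s
  haveI := RHom.isIso_ltMap g
  exact ⟨(asIso (RHom.ltMap s)).symm ≪≫ asIso (RHom.ltMap g)⟩

omit [I.IsKInjective] in
/-- the projection formula for complexes with quasi-coherent cohomology -/
theorem nonempty_projection [QuasiCompact f] [QuasiSeparated f] [DCoh.HasRpush f] [DCoh.HasLpull f] (E : DCoh.D X)
    (hE : DCoh.IsQCohD E) (K : CochainComplex Y.Modules ℤ) (hK : DCoh.IsQCohD (DCoh.toD Y K)) [DCoh.HasLTensorCx K]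
    (M : CochainComplex X.Modules ℤ) (hM : Nonempty (DCoh.toD X M ≅ (DCoh.Lpull f).obj (DCoh.toD Y K)))
    [DCoh.HasLTensorCx M] :
    Nonempty ((DCoh.LTensorCx K).obj ((DCoh.Rpush f).obj E) ≅ (DCoh.Rpush f).obj ((DCoh.LTensorCx M).obj E)) := by
  obtain ⟨eM⟩ := hM
  obtain ⟨P, q, hP, -, hq, -⟩ := KFlat.exists_resolution K
  haveI := (DerivedCategory.isIso_Q_map_iff_quasiIso _ q).2 hq
  haveI : DCoh.HasLTensorCx P := KFlat.hasLTensorCx P
  haveI : DCoh.HasLTensorCx ((Proj.pullCx f).obj P) := KFlat.hasLTensorCx _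
  let eq : DerivedCategory.Q.obj P ≅ DerivedCategory.Q.obj K := asIso (DerivedCategory.Q.map q)
  obtain ⟨c₁⟩ := nonempty_LTensorCx_congr eq
  obtain ⟨c₂⟩ := nonempty_LTensorCx_congr ((DerivedApi.objIso (DerivedApi.acyclicKFlat_pullback f) P hP).symm ≪≫
    (DCoh.Lpull f).mapIso eq ≪≫ eM.symm)
  obtain ⟨I, i, hI, hi⟩ := ProjFormulaD.exists_kinj (DerivedCategory.Q.objPreimage E)
  obtain ⟨J, r, hJ, hr⟩ := ProjFormulaD.exists_kinj (ProjQis.T f I P)
  let eI : E ≅ DerivedCategory.Q.obj I :=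
    (DerivedCategory.Q.objObjPreimageIso E).symm ≪≫
      @asIso _ _ _ _ (DerivedCategory.Q.map i) ((DerivedCategory.isIso_Q_map_iff_quasiIso _ i).2 hi)
  obtain ⟨a⟩ := ProjFormulaD.nonempty_Rpush_kinj f I
  obtain ⟨b⟩ := ProjFormulaD.nonempty_Rpush_kinj f J
  haveI := isIso_cmp f I (isQCohD_of_iso eI hE) hP (isQCohD_of_iso eq.symm hK) r
  let er : DerivedCategory.Q.obj (ProjQis.T f I P) ≅ DerivedCategory.Q.obj J :=
    @asIso _ _ _ _ (DerivedCategory.Q.map r) ((DerivedCategory.isIso_Q_map_iff_quasiIso _ r).2 hr)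
  exact ⟨(c₁.app _).symm ≪≫ (DCoh.LTensorCx P).mapIso ((DCoh.Rpush f).mapIso eI ≪≫ a) ≪≫
    (Assoc.allIso P hP).app _ ≪≫ asIso (DerivedCategory.Q.map (ProjQis.cmp f I P r)) ≪≫ b.symm ≪≫
    (DCoh.Rpush f).mapIso (er.symm ≪≫ ((Assoc.allIso _ (KFlat.pullback_kflat f P hP)).app I).symm ≪≫
      (DCoh.LTensorCx ((Proj.pullCx f).obj P)).mapIso eI.symm ≪≫ c₂.app E)⟩

end Groth.L29.BC.ProjQC
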