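import Groth.Agent.L29.BC.LTExact
import Groth.Agent.L29.BC.SupportAdj

/-!
The projection formula as a natural transformation, and natural maps `- ⊗^L A ⟶ 𝟭` from `A ⟶ O`.
-/

set_option autoImplicit false
set_option backward.defeqAttrib.useBackward true
set_option backward.isDefEq.respectTransparency false
set_option backward.isDefEq.respectTransparency.types false

universe u

open CategoryTheory CategoryTheory.Limits CategoryTheory.Pretriangulated AlgebraicGeometry CochainComplex

attribute [local instance] HasDerivedCategory.standard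

namespace Groth.L29.BC.PFNat

open Groth.L00 Groth.L29.DC LTExact

local notation "up" => ComplexShape.up ℤ

variable {X Y : Scheme.{u}}

/-- natural transformations of functors on `D(Y)` from natural maps on K-flat complexes -/
theorem exists_natTrans {C : Type*} [Category C] (F G : DCoh.D Y ⥤ C)
    (c : ∀ P : CochainComplex Y.Modules ℤ, DCoh.IsKFlat P →
      (F.obj (DerivedCategory.Q.obj P) ⟶ G.obj (DerivedCategory.Q.obj P)))
    (hc : ∀ {P P' : CochainComplex Y.Modules ℤ} (hP : DCoh.IsKFlat P) (hP' : DCoh.IsKFlat P') (m : P ⟶ P'),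
      F.map (DerivedCategory.Q.map m) ≫ c P' hP' = c P hP ≫ G.map (DerivedCategory.Q.map m)) :
    ∃ τ : F ⟶ G, ∀ (P : CochainComplex Y.Modules ℤ) (hP : DCoh.IsKFlat P),
      τ.app (DerivedCategory.Q.obj P) = c P hP := by
  let q := DerivedCategory.Q (C := Y.Modules)
  haveI hr : ∀ P, IsIso (q.map ((KFlat.rF Y).app P)) := fun P =>
    (DerivedCategory.isIso_Q_map_iff_quasiIso _ _).2 (KFlat.quasiIso_rF P)
  have hn : ∀ {P P' : CochainComplex Y.Modules ℤ} (m : P ⟶ P'),
      q.map ((KFlat.RF Y).map m) ≫ q.map ((KFlat.rF Y).app P') = q.map ((KFlat.rF Y).app P) ≫ q.map m :=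
    fun {P P'} m => by
      rw [← q.map_comp, ← q.map_comp]
      exact congrArg q.map ((KFlat.rF Y).naturality m)
  let app : ∀ P, (q ⋙ F).obj P ⟶ (q ⋙ G).obj P := fun P =>
    inv (F.map (q.map ((KFlat.rF Y).app P))) ≫ c _ (KFlat.isKFlat_RF P) ≫ G.map (q.map ((KFlat.rF Y).app P))
  let τ' : q ⋙ F ⟶ q ⋙ G := { app := app
                              naturality := fun P P' m => by
                                simp only [app, Functor.comp_map, Category.assoc]
                                rw [IsIso.eq_inv_comp, ← Category.assoc, ← F.map_comp, ← hn m, F.map_comp,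
                                  Category.assoc, IsIso.hom_inv_id_assoc, ← Category.assoc, hc (KFlat.isKFlat_RF P)
                                  (KFlat.isKFlat_RF P') ((KFlat.RF Y).map m), Category.assoc]
                                refine congrArg (c _ (KFlat.isKFlat_RF P) ≫ ·) ?_
                                exact (G.map_comp _ _).symm.trans ((congrArg G.map (hn m)).trans (G.map_comp _ _)) }
  let τ : F ⟶ G := Localization.liftNatTrans q (HomologicalComplex.quasiIso Y.Modules up) (q ⋙ F) (q ⋙ G) F G τ'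
  refine ⟨τ, fun P hP => ?_⟩
  have h : τ.app (q.obj P) = app P := by
    simp only [τ, Localization.liftNatTrans_app]
    exact (Category.id_comp _).trans (Category.comp_id _)
  refine h.trans ?_
  simp only [app]
  rw [IsIso.inv_comp_eq]
  exact (hc (KFlat.isKFlat_RF P) hP ((KFlat.rF Y).app P)).symm

/-- every map into a K-injective complex comes from complexes -/
theorem exists_map {A J : CochainComplex X.Modules ℤ} [J.IsKInjective]
    (d : DerivedCategory.Q.obj A ⟶ DerivedCategory.Q.obj J) : ∃ m : A ⟶ J, DerivedCategory.Q.map m = d := by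
  obtain ⟨R, s, hs, g, hg⟩ := DerivedCategory.right_fac d
  haveI : QuasiIso s := (DerivedCategory.isIso_Q_map_iff_quasiIso _ s).1 inferInstance
  let q := HomotopyCategory.quotient X.Modules up
  have hq : HomotopyCategory.quasiIso X.Modules _ (q.map s) :=
    (HomotopyCategory.quotient_map_mem_quasiIso_iff _).2 ((HomologicalComplex.mem_quasiIso_iff _).2 inferInstance)
  obtain ⟨φ, hφ⟩ := (Groth.L10.KInjDerived.precomp_bijective (q.map s) hq ⟨q.obj J, ‹J.IsKInjective›⟩).surjective
    (q.map g)
  obtain ⟨m, rfl⟩ := q.map_surjective φ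
  refine ⟨m, ?_⟩
  rw [hg, IsIso.eq_inv_comp, ← Functor.map_comp]
  exact DerivedCategory.Q_map_eq_of_homotopy _ (HomotopyCategory.homotopyOfEq _ _ ((q.map_comp _ _).trans hφ))

theorem objIso_natural (f : X ⟶ Y) [DCoh.HasLpull f] {P P' : CochainComplex Y.Modules ℤ}
    (hP : DCoh.IsKFlat P) (hP' : DCoh.IsKFlat P') (m : P ⟶ P') :
    (DCoh.Lpull f).map (DerivedCategory.Q.map m) ≫
        (DerivedApi.objIso (DerivedApi.acyclicKFlat_pullback f) P' hP').hom =
      (DerivedApi.objIso (DerivedApi.acyclicKFlat_pullback f) P hP).hom ≫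
        DerivedCategory.Q.map ((Proj.pullCx f).map m) := by
  haveI : (Scheme.Modules.pullback f).Additive :=
    (Scheme.Modules.pullbackPushforwardAdjunction f).left_adjoint_additive
  have h1 := congrArg (DCoh.Lpull f).map ((DerivedCategory.quotientCompQhIso Y.Modules).inv.naturality m)
  simp only [Functor.map_comp] at h1
  have h2 := (DerivedApi.counit (Scheme.Modules.pullback f)).naturality m
  have h3 := (DerivedApi.cxqIso (Scheme.Modules.pullback f)).hom.naturality m
  simp only [DerivedApi.objIso, Iso.trans_hom, Functor.mapIso_hom, Iso.symm_hom, Iso.app_inv, asIso_hom, Iso.app_hom,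
    Category.assoc]
  refine (Category.assoc _ _ _).symm.trans ((congrArg (· ≫ _) h1).trans ((Category.assoc _ _ _).trans ?_))
  refine congrArg (_ ≫ ·) ?_
  refine (Category.assoc _ _ _).symm.trans ((congrArg (· ≫ _) h2).trans ((Category.assoc _ _ _).trans ?_))
  exact congrArg (_ ≫ ·) h3

section PF

variable (f : X ⟶ Y) [DCoh.HasRpush f] [DCoh.HasLpull f]
  (I : CochainComplex X.Modules ℤ) [DCoh.HasLTensorCx I]
  {A' : CochainComplex Y.Modules ℤ} [DCoh.HasLTensorCx A'] (rA : A' ⟶ (Proj.pushCx f).obj I)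

/-- the comparison on a K-flat complex -/
noncomputable def pf (P : CochainComplex Y.Modules ℤ) (hP : DCoh.IsKFlat P) :
    (DCoh.LTensorCx A').obj (DerivedCategory.Q.obj P) ⟶
      (DCoh.Rpush f).obj ((DCoh.LTensorCx I).obj ((DCoh.Lpull f).obj (DerivedCategory.Q.obj P))) :=
  haveI := Groth.L17.PushQCoh.additive_push f
  haveI := isIso_cnt I (KFlat.pullback_kflat f P hP)
  cnt A' P ≫ DerivedCategory.Q.map ((DCoh.tensorCx.map rA).app P) ≫ DerivedCategory.Q.map (Proj.proj f I P) ≫
    SupportAdj.pushComp f (ProjQis.T f I P) ≫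
      (DCoh.Rpush f).map (inv (cnt I ((Proj.pullCx f).obj P)) ≫
        (DCoh.LTensorCx I).map (DerivedApi.objIso (DerivedApi.acyclicKFlat_pullback f) P hP).inv)

theorem pf_natural {P P' : CochainComplex Y.Modules ℤ} (hP : DCoh.IsKFlat P) (hP' : DCoh.IsKFlat P') (m : P ⟶ P') :
    (DCoh.LTensorCx A').map (DerivedCategory.Q.map m) ≫ pf f I rA P' hP' =
      pf f I rA P hP ≫ (DCoh.Rpush f).map ((DCoh.LTensorCx I).map ((DCoh.Lpull f).map (DerivedCategory.Q.map m))) := by
  haveI := Groth.L17.PushQCoh.additive_push f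
  haveI : (Scheme.Modules.pullback f).Additive :=
    (Scheme.Modules.pullbackPushforwardAdjunction f).left_adjoint_additive
  haveI := isIso_cnt I (KFlat.pullback_kflat f P hP)
  haveI := isIso_cnt I (KFlat.pullback_kflat f P' hP')
  let o := fun P hP => DerivedApi.objIso (DerivedApi.acyclicKFlat_pullback f) P hP
  have h2 : DerivedCategory.Q.map ((KFlat.T A').map m) ≫ DerivedCategory.Q.map ((DCoh.tensorCx.map rA).app P') =
      DerivedCategory.Q.map ((DCoh.tensorCx.map rA).app P) ≫
        DerivedCategory.Q.map ((DCoh.tensorCx.obj ((Proj.pushCx f).obj I)).map m) := by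
    rw [← Functor.map_comp, ← Functor.map_comp]
    exact congrArg DerivedCategory.Q.map ((DCoh.tensorCx.map rA).naturality m)
  have h3 : DerivedCategory.Q.map ((DCoh.tensorCx.obj ((Proj.pushCx f).obj I)).map m) ≫
      DerivedCategory.Q.map (Proj.proj f I P') = DerivedCategory.Q.map (Proj.proj f I P) ≫
        DerivedCategory.Q.map ((Proj.pushCx f).map ((DCoh.tensorCx.obj I).map ((Proj.pullCx f).map m))) := by
    rw [← Functor.map_comp, ← Functor.map_comp]
    exact congrArg DerivedCategory.Q.map (Proj.proj_natural f I P m)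
  have h4 : DerivedCategory.Q.map ((DCoh.tensorCx.obj I).map ((Proj.pullCx f).map m)) ≫
      inv (cnt I ((Proj.pullCx f).obj P')) ≫ (DCoh.LTensorCx I).map (o P' hP').inv =
      (inv (cnt I ((Proj.pullCx f).obj P)) ≫ (DCoh.LTensorCx I).map (o P hP).inv) ≫
        (DCoh.LTensorCx I).map ((DCoh.Lpull f).map (DerivedCategory.Q.map m)) := by
    have a1 : DerivedCategory.Q.map ((Proj.pullCx f).map m) ≫ (o P' hP').inv =
        (o P hP).inv ≫ (DCoh.Lpull f).map (DerivedCategory.Q.map m) := by
      rw [Iso.eq_inv_comp, ← Category.assoc, ← objIso_natural f hP hP' m, Category.assoc, Iso.hom_inv_id,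
        Category.comp_id]
    rw [Category.assoc, ← Functor.map_comp, ← a1, Functor.map_comp, IsIso.eq_inv_comp,
      ← reassoc_of% (cnt_natural I ((Proj.pullCx f).map m)), IsIso.hom_inv_id_assoc]
  simp only [pf, Category.assoc]
  rw [reassoc_of% (cnt_natural A' m), reassoc_of% h2, reassoc_of% h3,
    reassoc_of% (SupportAdj.pushComp_natural f ((DCoh.tensorCx.obj I).map ((Proj.pullCx f).map m))),
    ← Functor.map_comp, h4, Functor.map_comp]

theorem isIso_pf [QuasiCompact f] [QuasiSeparated f] [I.IsKInjective] [QuasiIso rA]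
    (hI : DCoh.IsQCohD (DerivedCategory.Q.obj I)) {P : CochainComplex Y.Modules ℤ} (hP : DCoh.IsKFlat P)
    (hq : DCoh.IsQCohD (DerivedCategory.Q.obj P)) : IsIso (pf f I rA P hP) := by
  haveI := Groth.L17.PushQCoh.additive_push f
  haveI := isIso_cnt I (KFlat.pullback_kflat f P hP)
  haveI := isIso_cnt A' hP
  haveI := KFlat.quasiIso_tensor_of_kflat P hP rA
  haveI : IsIso (DerivedCategory.Q.map ((DCoh.tensorCx.map rA).app P)) :=
    (DerivedCategory.isIso_Q_map_iff_quasiIso _ _).2 inferInstance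
  obtain ⟨J, r, hJ, hr⟩ := ProjFormulaD.exists_kinj (ProjQis.T f I P)
  haveI : J.IsKInjective := hJ
  haveI : QuasiIso r := hr
  haveI : IsIso (DerivedCategory.Q.map r) := (DerivedCategory.isIso_Q_map_iff_quasiIso _ _).2 hr
  haveI := ProjQC.isIso_cmp f I hI hP hq r
  haveI := SupportAdj.isIso_pushComp f J
  haveI : IsIso (DerivedCategory.Q.map (Proj.proj f I P) ≫ SupportAdj.pushComp f (ProjQis.T f I P)) := by
    have h : (DerivedCategory.Q.map (Proj.proj f I P) ≫ SupportAdj.pushComp f (ProjQis.T f I P)) ≫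
        (DCoh.Rpush f).map (DerivedCategory.Q.map r) =
        DerivedCategory.Q.map (ProjQis.cmp f I P r) ≫ SupportAdj.pushComp f J := by
      rw [Category.assoc, ← SupportAdj.pushComp_natural f r, Functor.map_comp DerivedCategory.Q, Category.assoc]
    haveI : IsIso ((DerivedCategory.Q.map (Proj.proj f I P) ≫ SupportAdj.pushComp f (ProjQis.T f I P)) ≫
        (DCoh.Rpush f).map (DerivedCategory.Q.map r)) := by rw [h]; infer_instance
    exact IsIso.of_isIso_comp_right _ ((DCoh.Rpush f).map (DerivedCategory.Q.map r))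
  unfold pf
  rw [← Category.assoc (DerivedCategory.Q.map (Proj.proj f I P))]
  infer_instance

/-- the projection formula as a natural transformation, invertible on quasi-coherent objects -/
theorem exists_pf [QuasiCompact f] [QuasiSeparated f] [I.IsKInjective] [QuasiIso rA]
    (hI : DCoh.IsQCohD (DerivedCategory.Q.obj I)) :
    ∃ τ : DCoh.LTensorCx A' ⟶ DCoh.Lpull f ⋙ DCoh.LTensorCx I ⋙ DCoh.Rpush f,
      (∀ (P : CochainComplex Y.Modules ℤ) (hP : DCoh.IsKFlat P),
        τ.app (DerivedCategory.Q.obj P) = pf f I rA P hP) ∧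
      ∀ K : DCoh.D Y, DCoh.IsQCohD K → IsIso (τ.app K) := by
  obtain ⟨τ, hτ⟩ := exists_natTrans (DCoh.LTensorCx A') (DCoh.Lpull f ⋙ DCoh.LTensorCx I ⋙ DCoh.Rpush f)
    (pf f I rA) (fun hP hP' m => pf_natural f I rA hP hP' m)
  refine ⟨τ, hτ, fun K hK => ?_⟩
  obtain ⟨P, q, hP, -, hq, -⟩ := KFlat.exists_resolution (DerivedCategory.Q.objPreimage K)
  haveI := (DerivedCategory.isIso_Q_map_iff_quasiIso _ q).2 hq
  let e := asIso (DerivedCategory.Q.map q) ≪≫ DerivedCategory.Q.objObjPreimageIso K
  refine (NatTrans.isIso_app_iff_of_iso τ e).1 ?_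
  rw [hτ P hP]
  exact isIso_pf f I rA hI hP (isQCohD_of_iso e.symm hK)

end PF

/-- `O ⊗ P ≅ P` -/
noncomputable def unitL (P : CochainComplex Y.Modules ℤ) : (KFlat.T (RHom.O0 Y)).obj P ≅ P :=
  KFlat.commIso P (RHom.O0 Y) ≪≫ RHom.unitCxIso.app P

/-- natural maps `- ⊗^L A' ⟶ 𝟭` with prescribed value at the unit -/
theorem exists_toId (A' : CochainComplex Y.Modules ℤ) [DCoh.HasLTensorCx A']
    (δ : (DCoh.LTensorCx A').obj (DerivedCategory.Q.obj (RHom.O0 Y)) ⟶ DerivedCategory.Q.obj (RHom.O0 Y)) :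
    ∃ (t : DCoh.LTensorCx A' ⟶ 𝟭 (DCoh.D Y)) (J : CochainComplex Y.Modules ℤ) (i : RHom.O0 Y ⟶ J) (m : A' ⟶ J)
      (_ : QuasiIso i), t.app (DerivedCategory.Q.obj (RHom.O0 Y)) = δ ∧
        ∀ (P : CochainComplex Y.Modules ℤ), DCoh.IsKFlat P →
          t.app (DerivedCategory.Q.obj P) ≫ DerivedCategory.Q.map (unitL P).inv ≫
              DerivedCategory.Q.map ((DCoh.tensorCx.map i).app P) =
            cnt A' P ≫ DerivedCategory.Q.map ((DCoh.tensorCx.map m).app P) := by
  have hO : DCoh.IsKFlat (RHom.O0 Y) := KFlat.single _ (isFlat_structureModule Y) 0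
  obtain ⟨J, i, hJ, hi⟩ := ProjFormulaD.exists_kinj (RHom.O0 Y)
  haveI : J.IsKInjective := hJ
  haveI : QuasiIso i := hi
  haveI : IsIso (DerivedCategory.Q.map i) := (DerivedCategory.isIso_Q_map_iff_quasiIso _ _).2 hi
  let w : ∀ P : CochainComplex Y.Modules ℤ, (KFlat.T (RHom.O0 Y)).obj P ≅ P := fun P => unitL P
  let un : ∀ L : CochainComplex Y.Modules ℤ, (KFlat.T L).obj (RHom.O0 Y) ≅ L := fun L => RHom.unitCxIso.app L
  haveI := isIso_cnt A' hO
  obtain ⟨m, hm⟩ := exists_map (X := Y) (DerivedCategory.Q.map (un A').inv ≫ inv (cnt A' (RHom.O0 Y)) ≫ δ ≫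
    DerivedCategory.Q.map (w (RHom.O0 Y)).inv ≫ DerivedCategory.Q.map (un (RHom.O0 Y)).hom ≫ DerivedCategory.Q.map i)
  have hi' : ∀ {P : CochainComplex Y.Modules ℤ}, DCoh.IsKFlat P →
      IsIso (DerivedCategory.Q.map ((DCoh.tensorCx.map i).app P)) := fun {P} hP =>
    (DerivedCategory.isIso_Q_map_iff_quasiIso _ _).2 (KFlat.quasiIso_tensor_of_kflat P hP i)
  obtain ⟨t, ht⟩ := exists_natTrans (DCoh.LTensorCx A') (𝟭 (DCoh.D Y))
    (fun P hP => haveI := hi' hP
      cnt A' P ≫ DerivedCategory.Q.map ((DCoh.tensorCx.map m).app P) ≫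
      inv (DerivedCategory.Q.map ((DCoh.tensorCx.map i).app P)) ≫ DerivedCategory.Q.map (w P).hom)
    (fun {P P'} hP hP' φ => by
      haveI := hi' hP
      haveI := hi' hP'
      have h1 : DerivedCategory.Q.map ((KFlat.T A').map φ) ≫ DerivedCategory.Q.map ((DCoh.tensorCx.map m).app P') =
          DerivedCategory.Q.map ((DCoh.tensorCx.map m).app P) ≫ DerivedCategory.Q.map ((KFlat.T J).map φ) := by
        rw [← Functor.map_comp, ← Functor.map_comp]
        exact congrArg DerivedCategory.Q.map ((DCoh.tensorCx.map m).naturality φ)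
      have h2 : DerivedCategory.Q.map ((KFlat.T J).map φ) ≫ inv (DerivedCategory.Q.map ((DCoh.tensorCx.map i).app P')) =
          inv (DerivedCategory.Q.map ((DCoh.tensorCx.map i).app P)) ≫
            DerivedCategory.Q.map ((KFlat.T (RHom.O0 Y)).map φ) := by
        rw [IsIso.comp_inv_eq, Category.assoc, IsIso.eq_inv_comp, ← Functor.map_comp, ← Functor.map_comp]
        exact congrArg DerivedCategory.Q.map ((DCoh.tensorCx.map i).naturality φ).symm
      have h3 : DerivedCategory.Q.map ((KFlat.T (RHom.O0 Y)).map φ) ≫ DerivedCategory.Q.map (w P').hom =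
          DerivedCategory.Q.map (w P).hom ≫ DerivedCategory.Q.map φ := by
        rw [← Functor.map_comp, ← Functor.map_comp]
        refine congrArg DerivedCategory.Q.map ?_
        simp only [w, unitL, Iso.trans_hom, Iso.app_hom, Category.assoc]
        rw [reassoc_of% (KFlat.commIso_natural φ (RHom.O0 Y))]
        exact congrArg (_ ≫ ·) (RHom.unitCxIso.hom.naturality φ)
      simp only [Category.assoc, Functor.id_map]
      rw [reassoc_of% (cnt_natural A' φ), reassoc_of% h1, reassoc_of% h2, h3])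
  refine ⟨t, J, i, m, hi, ?_, fun P hP => ?_⟩
  case refine_2 =>
    haveI := hi' hP
    rw [ht P hP]
    simp only [w, Category.assoc]
    rw [← Functor.map_comp_assoc DerivedCategory.Q (unitL P).hom, Iso.hom_inv_id, CategoryTheory.Functor.map_id,
      Category.id_comp, IsIso.inv_hom_id, Category.comp_id]
  haveI := hi' hO
  rw [ht (RHom.O0 Y) hO]
  have hu : ∀ {L L' : CochainComplex Y.Modules ℤ} (a : L ⟶ L'),
      DerivedCategory.Q.map ((DCoh.tensorCx.map a).app (RHom.O0 Y)) =
        DerivedCategory.Q.map (un L).hom ≫ DerivedCategory.Q.map a ≫ DerivedCategory.Q.map (un L').inv := fun {L L'} a => by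
    rw [← Functor.map_comp, ← Functor.map_comp, ← Category.assoc]
    exact congrArg DerivedCategory.Q.map ((Iso.eq_comp_inv _).2 (RHom.unitCxIso.hom.naturality a))
  simp only [hu, hm]
  simp

end Groth.L29.BC.PFNat
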