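import Groth.Agent.L29.BC.Instances
import Groth.Agent.L29.BC.FlatModel
import Groth.Agent.L29.DCoh.PushPerfectFlat
import Groth.Agent.L00.TensorMod
import Groth.Agent.S0921
import Groth.Agent.S0924

/-!
Proper flat morphisms of finite presentation send perfect objects to perfect objects.
-/

set_option autoImplicit false
set_option backward.defeqAttrib.useBackward true
set_option backward.isDefEq.respectTransparency false
set_option backward.isDefEq.respectTransparency.types false

universe u

open CategoryTheory CategoryTheory.Limits CategoryTheory.Pretriangulated AlgebraicGeometry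

attribute [local instance] HasDerivedCategory.standard

namespace Groth.L29.BC

open Groth.L00 Groth.L29.DC

theorem isPerfect_of_retract {X : Scheme.{u}} {K Y : DCoh.D X} (r : Retract K Y) (h : DCoh.IsPerfect Y) :
    DCoh.IsPerfect K := by
  obtain ⟨C, p, d, hT⟩ := distinguished_cocone_triangle r.i
  have hd : d = 0 := by
    have h31 : d ≫ r.i⟦(1 : ℤ)⟧' = 0 := comp_distTriang_mor_zero₃₁ _ hT
    have := congrArg (· ≫ r.r⟦(1 : ℤ)⟧') h31
    simp only [Category.assoc, ← Functor.map_comp, r.retract, CategoryTheory.Functor.map_id, Category.comp_id,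
      zero_comp] at this
    exact this
  obtain ⟨e, -⟩ := Pretriangulated.exists_iso_binaryBiproduct_of_distTriang _ hT hd
  exact (Groth.Agent.S0924.result K C (isPerfect_of_iso e h)).1

/-- tensoring with the structure sheaf -/
noncomputable def TGUnitIso {X : Scheme.{u}} :
    (DCoh.tensorBi (X := X)).obj (Coh.structureModule X) ≅ 𝟭 X.Modules :=
  NatIso.ofComponents (fun M => Tensor.tensorUnitLeft M) fun {M N} φ => by
    change (Tensor.shf X).map (MonoidalCategory.whiskerLeft _ ((Tensor.preF X).map φ)) ≫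
        ((Tensor.shf X).map (MonoidalCategory.leftUnitor (Tensor.pre N)).hom ≫ (Tensor.counitIso N).hom) =
      ((Tensor.shf X).map (MonoidalCategory.leftUnitor (Tensor.pre M)).hom ≫ (Tensor.counitIso M).hom) ≫ φ
    have h1 := MonoidalCategory.leftUnitor_naturality ((Tensor.preF X).map φ)
    have h2 : (Tensor.shf X).map ((Tensor.preF X).map φ) ≫ (Tensor.counitIso N).hom = (Tensor.counitIso M).hom ≫ φ :=
      (PresheafOfModules.sheafificationAdjunction (𝟙 X.ringCatSheaf.obj)).counit.naturality φ
    erw [← Functor.map_comp_assoc, h1]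
    rw [Functor.map_comp, Category.assoc, Category.assoc]
    exact congrArg (_ ≫ ·) h2

/-- direct images of perfect objects for proper flat morphisms to a Noetherian base -/
theorem isPerfect_Rpush_noetherian {X S : Scheme.{u}} [IsNoetherian S] (f : X ⟶ S) [IsProper f] [Flat f]
    [DCoh.HasRpush f] {E : DCoh.D X} (hE : DCoh.IsPerfect E) : DCoh.IsPerfect ((DCoh.Rpush f).obj E) := by
  haveI : IsLocallyNoetherian X := LocallyOfFiniteType.isLocallyNoetherian f
  obtain ⟨P, q, hPf, -, hq, -⟩ := KFlat.exists_resolution (DerivedCategory.Q.objPreimage E)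
  haveI := (DerivedCategory.isIso_Q_map_iff_quasiIso _ q).2 hq
  let eE : DCoh.toD X P ≅ E := asIso (DerivedCategory.Q.map q) ≪≫ DerivedCategory.Q.objObjPreimageIso E
  let O := Coh.structureModule X
  have hs : ClSub.IsProperOver f (CohB1.support O) := by
    rw [show CohB1.support O = Set.univ from Set.eq_univ_of_forall fun x h => by
      have hs : Subsingleton ((Coh.structureModule X).presheaf.stalk x) := h
      exact one_ne_zero (Groth.L22.eq_zero_of_smul_oneGerm (a := (1 : X.presheaf.stalk x)) (Subsingleton.elim _ _))]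
    exact ⟨isClosed_univ, inferInstance⟩
  refine isPerfect_of_iso ((DCoh.Rpush f).mapIso (DerivedCategory.Q.mapIso
      ((NatIso.mapHomologicalComplex TGUnitIso (ComplexShape.up ℤ)).app P) ≪≫ eE)) ?_
  exact PerfectTensor.isPerfect_Rpush_TG f P hPf (isPerfect_of_iso eE.symm hE) O
    (Groth.L16.Rees.RelVanish.isCoh_structureModule X) (RelTor.isFlatOver_of_isFlat f (isFlat_structureModule X)) hs

/-- direct images of perfect objects for proper flat morphisms over an affine base -/
theorem isPerfect_Rpush_affineBase {A : Type u} [CommRing A] {X : Scheme.{u}} (f : X ⟶ Spec (CommRingCat.of A))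
    [IsProper f] [Flat f] [LocallyOfFinitePresentation f] [DCoh.HasRpush f] {E : DCoh.D X}
    (hE : DCoh.IsPerfect E) : DCoh.IsPerfect ((DCoh.Rpush f).obj E) := by
  obtain ⟨A₀, hA₀, X₀, f₀, g, hf₀, hlfp₀, hflat₀, sq⟩ := exists_flat_model f
  haveI := hA₀
  haveI := hf₀
  haveI := hlfp₀
  haveI := hflat₀
  let h : Spec (CommRingCat.of A) ⟶ Spec (CommRingCat.of ↥A₀) := Spec.map (CommRingCat.ofHom (algebraMap (↥A₀) A))
  haveI : IsAffineHom h := inferInstance
  haveI : IsAffineHom g := MorphismProperty.of_isPullback (P := @IsAffineHom) sq.flip inferInstance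
  haveI := RpushQC.hasRpush f₀
  haveI := RpushQC.hasRpush g
  haveI := RpushQC.hasRpush h
  haveI := KFlat.hasLpull g
  haveI := KFlat.hasLpull h
  haveI : X₀.IsSeparated := ⟨by rw [← terminal.comp_from f₀]; infer_instance⟩
  haveI : CompactSpace X₀ := QuasiCompact.compactSpace_of_compactSpace f₀
  haveI : X.IsSeparated := ⟨by rw [← terminal.comp_from f]; infer_instance⟩
  haveI : CompactSpace X := QuasiCompact.compactSpace_of_compactSpace f
  obtain ⟨G₀, hG₀, hgen₀⟩ := Gen.exists_perfect_generator X₀
  let G := (DCoh.Lpull g).obj G₀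
  have hG : DCoh.IsPerfect G := Groth.Agent.S0921.result g G₀ hG₀
  have hGpush : DCoh.IsPerfect ((DCoh.Rpush f).obj G) := by
    haveI := (P_of_flat sq (PCQCoh.isQCohD_of_perfect hG₀)).isIso
    exact isPerfect_of_iso (asIso (β sq.w G₀))
      (Groth.Agent.S0921.result h _ (isPerfect_Rpush_noetherian f₀ hG₀))
  have hgen : ∀ F : DCoh.D X, DCoh.IsQCohD F → Gen.Ortho G F → IsZero F := fun F hF ho => by
    refine RpushQC.isZero_of_isZero_Rpush g F hF (hgen₀ _ (RpushQC.isQCohD_Rpush g F hF) fun n φ => ?_)
    letI := commShiftLpull g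
    haveI := RpushColim.additive_Rpush g
    haveI : (DCoh.Lpull g).Additive := (adj g).left_adjoint_additive
    apply ((adj g).homEquiv _ _).symm.injective
    rw [← cancel_epi (((DCoh.Lpull g).commShiftIso n).app G₀).inv]
    exact (ho n _).trans (by simp [Adjunction.homEquiv_counit])
  obtain ⟨Y, hY, ⟨r⟩⟩ := Gen.exists_retract_of_generator hG hgen hE
  letI := Gen.commShiftRpush f
  haveI := Gen.isTriangulated_Rpush f
  haveI := RpushColim.additive_Rpush f
  refine isPerfect_of_retract (r.map (DCoh.Rpush f)) ?_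
  clear r
  induction hY with
  | gen n => exact isPerfect_of_iso (((DCoh.Rpush f).commShiftIso n).app G).symm (perfect_shift hGpush n)
  | zero h => exact EvalMain.isPerfect_of_isZero ((DCoh.Rpush f).map_isZero h)
  | ext T hT _ _ h₁ h₃ => exact (perfect_two_out_of_three ((DCoh.Rpush f).map_distinguished T hT)).2.1 h₁ h₃
  | iso e _ h => exact isPerfect_of_iso ((DCoh.Rpush f).mapIso e) h

/-- direct images of perfect objects for proper flat morphisms of finite presentation -/
theorem isPerfect_Rpush {X S : Scheme.{u}} (f : X ⟶ S) [IsProper f] [Flat f] [LocallyOfFinitePresentation f]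
    [DCoh.HasRpush f] {E : DCoh.D X} (hE : DCoh.IsPerfect E) : DCoh.IsPerfect ((DCoh.Rpush f).obj E) := by
  refine EvalMain.isPerfect_of_local fun s => ?_
  obtain ⟨_, ⟨V, hV, rfl⟩, hsV, -⟩ := S.isBasis_affineOpens.exists_subset_of_mem_open (Set.mem_univ s) isOpen_univ
  let g₀ := f ∣_ V
  let g := g₀ ≫ hV.isoSpec.hom
  let ι := (f ⁻¹ᵁ V).ι
  have w : g ≫ hV.fromSpec = ι ≫ f := by
    simp [g, g₀, ι, IsAffineOpen.isoSpec_hom_fromSpec, morphismRestrict_ι]
  haveI := RpushQC.hasRpush g
  haveI : IsProper g₀ := IsZariskiLocalAtTarget.restrict ‹IsProper f› V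
  haveI : Flat g₀ := IsZariskiLocalAtTarget.restrict ‹Flat f› V
  haveI : LocallyOfFinitePresentation g₀ := IsZariskiLocalAtTarget.restrict ‹LocallyOfFinitePresentation f› V
  obtain ⟨eV⟩ := RpushRes.nonempty_iso f hV.fromSpec ι g
    (by rw [hV.opensRange_fromSpec, Scheme.Opens.opensRange_ι]) w
  have h := isPerfect_Rpush_affineBase (A := Γ(S, V)) g (Gen.isPerfect_restrictD ι hE)
  have h' := EvalMain.isPerfect_restrictD hV.isoSpec.hom (isPerfect_of_iso (eV.app E).symm h)
  exact ⟨V, hsV, isPerfect_of_iso
    ((resTransD hV.fromSpec hV.isoSpec.hom (Scheme.Opens.ι V) hV.isoSpec_hom_fromSpec).app _) h'⟩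

end Groth.L29.BC
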