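import Groth.Agent.L29.BC.ProjQC
import Groth.Agent.L29.DCoh.Gen.ApproxMain
import Groth.Agent.L29.DCoh.RpushAcyclic
import Groth.Agent.L29.DCoh.RHomBound
import Groth.Agent.L29.DCoh.Summand
import Groth.Agent.L29.DCoh.PCQCoh
import Groth.Agent.L29.DCoh.Approx

/-!
Pseudo-coherence of `Rf_*(E ⊗ K)` can be tested on perfect objects.
-/

set_option autoImplicit false
set_option backward.defeqAttrib.useBackward true
set_option backward.isDefEq.respectTransparency false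
set_option backward.isDefEq.respectTransparency.types false

universe u

open CategoryTheory CategoryTheory.Limits CategoryTheory.Pretriangulated AlgebraicGeometry CochainComplex

attribute [local instance] HasDerivedCategory.standard

namespace Groth.L29.BC.PCTest

open Groth.L00 Groth.L29.DC

variable {X : Scheme.{u}}

/-- the derived tensor product with a fixed complex sends a triangle to a triangle -/
theorem exists_triangle (K : CochainComplex X.Modules ℤ) [DCoh.HasLTensorCx K] (T : Triangle (DCoh.D X))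
    (hT : T ∈ distTriang _) :
    ∃ (T' : Triangle (DCoh.D X)), T' ∈ distTriang _ ∧
      Nonempty (T'.obj₁ ≅ (DCoh.LTensorCx K).obj T.obj₂) ∧ Nonempty (T'.obj₂ ≅ (DCoh.LTensorCx K).obj T.obj₃) ∧
      Nonempty (T'.obj₃ ≅ (DCoh.LTensorCx K).obj (T.obj₁⟦(1 : ℤ)⟧)) := by
  obtain ⟨E₁, ⟨e₁⟩⟩ : ∃ F : CochainComplex X.Modules ℤ, Nonempty (DerivedCategory.Q.obj F ≅ T.obj₁) :=
    ⟨_, ⟨DerivedCategory.Q.objObjPreimageIso T.obj₁⟩⟩
  obtain ⟨E₂, q₂, hE₂, -, hq₂, -⟩ := KFlat.exists_resolution (DerivedCategory.Q.objPreimage T.obj₂)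
  haveI := (DerivedCategory.isIso_Q_map_iff_quasiIso _ q₂).2 hq₂
  let e₂ : DerivedCategory.Q.obj E₂ ≅ T.obj₂ :=
    asIso (DerivedCategory.Q.map q₂) ≪≫ DerivedCategory.Q.objObjPreimageIso T.obj₂
  obtain ⟨R, s, hs, φ, hφ⟩ := DerivedCategory.right_fac (e₁.hom ≫ T.mor₁ ≫ e₂.inv)
  obtain ⟨A, r, hA, -, hr, -⟩ := KFlat.exists_resolution R
  haveI := (DerivedCategory.isIso_Q_map_iff_quasiIso _ r).2 hr
  have hT' : DerivedCategory.Q.mapTriangle.obj (mappingCone.triangle (r ≫ φ)) ∈ distTriang _ :=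
    (DerivedCategory.mem_distTriang_iff _).2 ⟨_, _, r ≫ φ, ⟨Iso.refl _⟩⟩
  let a : DerivedCategory.Q.obj A ≅ T.obj₁ :=
    asIso (DerivedCategory.Q.map r) ≪≫ asIso (DerivedCategory.Q.map s) ≪≫ e₁
  have h1 : DerivedCategory.Q.map φ = DerivedCategory.Q.map s ≫ e₁.hom ≫ T.mor₁ ≫ e₂.inv := by
    rw [hφ, IsIso.hom_inv_id_assoc]
  let θ := isoTriangleOfIso₁₂ _ T hT' hT a e₂ (by
    change DerivedCategory.Q.map (r ≫ φ) ≫ e₂.hom =
      (DerivedCategory.Q.map r ≫ DerivedCategory.Q.map s ≫ e₁.hom) ≫ T.mor₁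
    rw [Functor.map_comp, h1]
    simp)
  obtain ⟨w, hS⟩ : ∃ w, (ShortComplex.mk
      ((KFlat.T K).map (mappingCone.triangleRotateShortComplex (r ≫ φ)).f)
      ((KFlat.T K).map (mappingCone.triangleRotateShortComplex (r ≫ φ)).g) w).ShortExact :=
    ⟨_, BifExact.shortExact_T_of_splitting _ K _ (mappingCone.triangleRotateShortComplexSplitting (r ≫ φ))⟩
  refine ⟨DerivedCategory.triangleOfSES hS, DerivedCategory.triangleOfSES_distinguished hS, ?_, ?_, ?_⟩
  · obtain ⟨t⟩ := nonempty_LTensorCx_iso K E₂ hE₂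
    exact ⟨(DerivedCategory.Q.mapIso (KFlat.commIso K E₂)).symm ≪≫ t.symm ≪≫ (DCoh.LTensorCx K).mapIso e₂⟩
  · obtain ⟨t⟩ := nonempty_LTensorCx_iso K (mappingCone (r ≫ φ)) (KFlat.isKFlat_cone _ hA hE₂)
    exact ⟨(DerivedCategory.Q.mapIso (KFlat.commIso K _)).symm ≪≫ t.symm ≪≫
      (DCoh.LTensorCx K).mapIso ((Triangle.π₃).mapIso θ)⟩
  · obtain ⟨t⟩ := nonempty_LTensorCx_iso K (A⟦(1 : ℤ)⟧) (KFlat.shift A 1 hA)
    exact ⟨(DerivedCategory.Q.mapIso (KFlat.commIso K _)).symm ≪≫ t.symm ≪≫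
      (DCoh.LTensorCx K).mapIso ((DerivedCategory.Q.commShiftIso (1 : ℤ)).app A ≪≫
        (CategoryTheory.shiftFunctor _ (1 : ℤ)).mapIso a)⟩

/-- testing pseudo-coherence of the direct image on perfect objects -/
theorem pc_of_perfect_test {S : Scheme.{u}} [CompactSpace X] [QuasiSeparatedSpace X] [CompactSpace S]
    (π : X ⟶ S) [QuasiCompact π] [QuasiSeparated π] [DCoh.HasRpush π]
    (K : CochainComplex X.Modules ℤ) (hK : DCoh.IsQCohD (DCoh.toD X K)) (b : ℤ) (hb : (DCoh.toD X K).IsLE b)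
    [DCoh.HasLTensorCx K]
    (h : ∀ E : DCoh.D X, DCoh.IsPerfect E → ∀ m : ℤ, DCoh.IsPseudoCoherentD m ((DCoh.Rpush π).obj ((DCoh.LTensorCx K).obj E)))
    (E : DCoh.D X) (hE : ∀ m : ℤ, DCoh.IsPseudoCoherentD m E) (m : ℤ) :
    DCoh.IsPseudoCoherentD m ((DCoh.Rpush π).obj ((DCoh.LTensorCx K).obj E)) := by
  haveI := Groth.L17.PushQCoh.hasInjectiveResolutions X
  obtain ⟨N, hN⟩ := RpushQC.exists_bound π
  obtain ⟨k, hk⟩ : ∃ k : ℕ, (N : ℤ) - (k : ℤ) ≤ m := ⟨((N : ℤ) - m).toNat, by omega⟩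
  obtain ⟨r, hr⟩ := Gen.approxHolds X ⊥ (by simp [IsRetrocompact])
  have hEq := PCQCoh.isQCohD_of_pc hE
  let n : ℤ := -(k : ℤ) - b - 1
  obtain ⟨P, α, hP, -, hα⟩ := hr (n + 1) E hEq (hE _) (fun i _ x hx => absurd hx (by simp))
  obtain ⟨C, g, d, hT⟩ := distinguished_cocone_triangle α
  have hC : C.IsLE n := by
    have := (approx_iff_triangle _ hT (n + 1)).1 hα
    rwa [show n + 1 - 1 = n by omega] at this
  obtain ⟨T', hT', ⟨e₁⟩, ⟨e₂⟩, ⟨e₃⟩⟩ := exists_triangle K _ hT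
  have hCq : DCoh.IsQCohD C := Gen.isQCohD_third _ hT (PCQCoh.isQCohD_of_perfect hP) hEq
  haveI hLE := RHom.isLE_LTensorCx K b hb C n hC
  -- the error term is negligible
  have hz : ∀ i, m ≤ i → IsZero (DCoh.HD ((DCoh.Rpush π).obj ((DCoh.LTensorCx K).obj C)) i) := fun i hi => by
    haveI := RpushColim.additive_Rpush π
    obtain ⟨Z, hZ⟩ := Limits.HasZeroObject.zero (C := DCoh.D X)
    have hq := isQCohD_LTensorCx K hK hCq
    have hz0 : DCoh.IsQCohD Z := isQCohD_of_isZero hZ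
    haveI := RpushQC.isIso_H_map_of_bound π N hN hq hz0 (0 : (DCoh.LTensorCx K).obj C ⟶ Z) k (fun j hj =>
      isIso_of_source_target_iso_zero _ (DerivedCategory.isZero_of_isLE _ (n + b) j (by omega)).isoZero
        ((DerivedCategory.homologyFunctor X.Modules j).map_isZero hZ).isoZero) i (by omega)
    exact ((DerivedCategory.homologyFunctor S.Modules i).map_isZero
      ((DCoh.Rpush π).map_isZero hZ)).of_iso
        (asIso ((DerivedCategory.homologyFunctor S.Modules i).map ((DCoh.Rpush π).map (0 : (DCoh.LTensorCx K).obj C ⟶ Z))))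
  letI := Gen.commShiftRpush π
  haveI := Gen.isTriangulated_Rpush π
  have hR := (DCoh.Rpush π).map_distinguished _ hT'
  have h2 : DCoh.IsPseudoCoherentD m ((DCoh.Rpush π).obj T'.obj₂) :=
    isPseudoCoherentD_of_iso ((DCoh.Rpush π).mapIso e₂).symm (pc_of_isZero hz)
  have h3 : DCoh.IsPseudoCoherentD (m - 1) ((DCoh.Rpush π).obj T'.obj₃) :=
    isPseudoCoherentD_of_iso ((DCoh.Rpush π).mapIso e₃).symm (h _ (perfect_shift hP 1) _)
  refine isPseudoCoherentD_of_iso ((DCoh.Rpush π).mapIso e₁) ?_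
  have key := (pc_two_out_of_three hR (m - 1)).2.2
  rw [show m - 1 + 1 = m by omega] at key
  exact key h2 h3

end Groth.L29.BC.PCTest
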