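import Groth.Agent.L29.DCoh.TensorAssoc
import Groth.Agent.L29.BC.PCTest

/-!
Derived tensor products are exact on distinguished triangles; a five lemma needing exactness only.
-/

set_option autoImplicit false
set_option backward.defeqAttrib.useBackward true
set_option backward.isDefEq.respectTransparency false
set_option backward.isDefEq.respectTransparency.types false

universe u

open CategoryTheory CategoryTheory.Limits CategoryTheory.Pretriangulated AlgebraicGeometry CochainComplex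

attribute [local instance] HasDerivedCategory.standard

namespace Groth.L29.BC.LTExact

open Groth.L00 Groth.L29.DC

variable {X : Scheme.{u}} (K : CochainComplex X.Modules ℤ) [DCoh.HasLTensorCx K]

/-- `- ⊗^L K` on a K-flat complex -/
noncomputable def cnt (P : CochainComplex X.Modules ℤ) :
    (DCoh.LTensorCx K).obj (DerivedCategory.Q.obj P) ⟶ DerivedCategory.Q.obj ((KFlat.T K).obj P) :=
  ((DCoh.tensorCxQ K).totalLeftDerivedCounit DerivedCategory.Q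
    (HomologicalComplex.quasiIso X.Modules (ComplexShape.up ℤ))).app P ≫ DerivedCategory.Q.map (KFlat.commIso P K).inv

theorem cnt_natural {P P' : CochainComplex X.Modules ℤ} (m : P ⟶ P') :
    (DCoh.LTensorCx K).map (DerivedCategory.Q.map m) ≫ cnt K P' =
      cnt K P ≫ DerivedCategory.Q.map ((KFlat.T K).map m) := by
  let α := (DCoh.tensorCxQ K).totalLeftDerivedCounit DerivedCategory.Q
    (HomologicalComplex.quasiIso X.Modules (ComplexShape.up ℤ))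
  have h1 : (DCoh.LTensorCx K).map (DerivedCategory.Q.map m) ≫ α.app P' =
      α.app P ≫ DerivedCategory.Q.map ((DCoh.tensorCx.map m).app K) := α.naturality m
  have h2 : (DCoh.tensorCx.map m).app K ≫ (KFlat.commIso P' K).inv = (KFlat.commIso P K).inv ≫ (KFlat.T K).map m := by
    rw [Iso.eq_inv_comp, ← Category.assoc, ← KFlat.commIso_natural, Category.assoc, Iso.hom_inv_id, Category.comp_id]
  refine (Category.assoc _ _ _).symm.trans ((congrArg (· ≫ _) h1).trans ?_)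
  rw [cnt, Category.assoc, Category.assoc, ← Functor.map_comp, ← Functor.map_comp, h2]

theorem isIso_cnt {P : CochainComplex X.Modules ℤ} (hP : DCoh.IsKFlat P) : IsIso (cnt K P) := by
  haveI := Assoc.isIso_counit K P hP
  unfold cnt
  infer_instance

/-- the image of a distinguished triangle is distinguished -/
theorem exists_distinguished (T : Triangle (DCoh.D X)) (hT : T ∈ distTriang _) :
    ∃ h, Triangle.mk ((DCoh.LTensorCx K).map T.mor₂) ((DCoh.LTensorCx K).map T.mor₃) h ∈ distTriang _ := by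
  obtain ⟨E₁, ⟨e₁⟩⟩ : ∃ F : CochainComplex X.Modules ℤ, Nonempty (DerivedCategory.Q.obj F ≅ T.obj₁) :=
    ⟨_, ⟨DerivedCategory.Q.objObjPreimageIso T.obj₁⟩⟩
  obtain ⟨E₂, q₂, hE₂, -, hq₂, -⟩ := KFlat.exists_resolution (DerivedCategory.Q.objPreimage T.obj₂)
  haveI := (DerivedCategory.isIso_Q_map_iff_quasiIso _ q₂).2 hq₂
  let e₂ : DerivedCategory.Q.obj E₂ ≅ T.obj₂ :=
    asIso (DerivedCategory.Q.map q₂) ≪≫ DerivedCategory.Q.objObjPreimageIso T.obj₂
  obtain ⟨R, s, hs, φ₀, hφ₀⟩ := DerivedCategory.right_fac (e₁.hom ≫ T.mor₁ ≫ e₂.inv)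
  obtain ⟨A, r, hA, -, hr, -⟩ := KFlat.exists_resolution R
  haveI := (DerivedCategory.isIso_Q_map_iff_quasiIso _ r).2 hr
  let φ := r ≫ φ₀
  have hT' : DerivedCategory.Q.mapTriangle.obj (mappingCone.triangle φ) ∈ distTriang _ :=
    (DerivedCategory.mem_distTriang_iff _).2 ⟨_, _, φ, ⟨Iso.refl _⟩⟩
  let a₁ : DerivedCategory.Q.obj A ≅ T.obj₁ :=
    asIso (DerivedCategory.Q.map r) ≪≫ asIso (DerivedCategory.Q.map s) ≪≫ e₁
  have h1 : DerivedCategory.Q.map φ₀ = DerivedCategory.Q.map s ≫ e₁.hom ≫ T.mor₁ ≫ e₂.inv := by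
    rw [hφ₀, IsIso.hom_inv_id_assoc]
  let θ := isoTriangleOfIso₁₂ _ T hT' hT a₁ e₂ (by
    change DerivedCategory.Q.map (r ≫ φ₀) ≫ e₂.hom =
      (DerivedCategory.Q.map r ≫ DerivedCategory.Q.map s ≫ e₁.hom) ≫ T.mor₁
    rw [Functor.map_comp, h1]
    simp)
  let tr := mappingCone.triangle φ
  let m₂ : E₂ ⟶ mappingCone φ := tr.mor₂
  let m₃ : mappingCone φ ⟶ A⟦(1 : ℤ)⟧ := tr.mor₃
  let t₂ : DerivedCategory.Q.obj E₂ ⟶ T.obj₂ := θ.hom.hom₂
  let t₃ : DerivedCategory.Q.obj (mappingCone φ) ⟶ T.obj₃ := θ.hom.hom₃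
  let t₁ : DerivedCategory.Q.obj (A⟦(1 : ℤ)⟧) ⟶ T.obj₁⟦(1 : ℤ)⟧ :=
    (DerivedCategory.Q.commShiftIso (1 : ℤ)).hom.app A ≫ θ.hom.hom₁⟦(1 : ℤ)⟧'
  haveI : IsIso θ.hom.hom₁ := inferInstanceAs (IsIso ((Triangle.π₁).map θ.hom))
  haveI : IsIso t₃ := inferInstanceAs (IsIso ((Triangle.π₃).map θ.hom))
  haveI : IsIso t₁ := inferInstanceAs (IsIso (_ ≫ _))
  have c2 : DerivedCategory.Q.map m₂ ≫ t₃ = t₂ ≫ T.mor₂ := θ.hom.comm₂
  have c3 : DerivedCategory.Q.map m₃ ≫ t₁ = t₃ ≫ T.mor₃ :=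
    (Category.assoc _ _ _).symm.trans θ.hom.comm₃
  have hC : DCoh.IsKFlat (mappingCone φ) := KFlat.isKFlat_cone _ hA hE₂
  haveI := isIso_cnt K hC
  haveI := isIso_cnt K hE₂
  obtain ⟨w, hS⟩ : ∃ w, (ShortComplex.mk
      ((KFlat.T K).map (mappingCone.triangleRotateShortComplex φ).f)
      ((KFlat.T K).map (mappingCone.triangleRotateShortComplex φ).g) w).ShortExact :=
    ⟨_, BifExact.shortExact_T_of_splitting _ K _ (mappingCone.triangleRotateShortComplexSplitting φ)⟩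
  haveI := isIso_cnt K (KFlat.shift A 1 hA)
  haveI : IsIso t₂ := inferInstanceAs (IsIso ((Triangle.π₂).map θ.hom))
  let u₂ := inv ((DCoh.LTensorCx K).map t₂) ≫ cnt K E₂
  let u₃ := inv ((DCoh.LTensorCx K).map t₃) ≫ cnt K (mappingCone φ)
  let u₁ := inv ((DCoh.LTensorCx K).map t₁) ≫ cnt K (A⟦(1 : ℤ)⟧)
  refine ⟨u₁ ≫ (DerivedCategory.triangleOfSES hS).mor₃ ≫ (inv u₂)⟦(1 : ℤ)⟧', ?_⟩
  refine isomorphic_distinguished _ (DerivedCategory.triangleOfSES_distinguished hS) _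
    (Triangle.isoMk _ _ (asIso u₂) (asIso u₃) (asIso u₁) ?_ ?_ ?_)
  · change (DCoh.LTensorCx K).map T.mor₂ ≫ inv ((DCoh.LTensorCx K).map t₃) ≫ cnt K (mappingCone φ) =
      (inv ((DCoh.LTensorCx K).map t₂) ≫ cnt K E₂) ≫ DerivedCategory.Q.map ((KFlat.T K).map m₂)
    rw [Category.assoc, ← cnt_natural K m₂, IsIso.eq_inv_comp, ← Functor.map_comp_assoc, ← c2, Functor.map_comp,
      Category.assoc, IsIso.hom_inv_id_assoc]
  · change (DCoh.LTensorCx K).map T.mor₃ ≫ inv ((DCoh.LTensorCx K).map t₁) ≫ cnt K (A⟦(1 : ℤ)⟧) =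
      (inv ((DCoh.LTensorCx K).map t₃) ≫ cnt K (mappingCone φ)) ≫ DerivedCategory.Q.map ((KFlat.T K).map m₃)
    rw [Category.assoc, ← cnt_natural K m₃, IsIso.eq_inv_comp, ← Functor.map_comp_assoc, ← c3, Functor.map_comp,
      Category.assoc, IsIso.hom_inv_id_assoc]
  · change (u₁ ≫ (DerivedCategory.triangleOfSES hS).mor₃ ≫ (inv u₂)⟦(1 : ℤ)⟧') ≫ u₂⟦(1 : ℤ)⟧' = _
    refine (Category.assoc _ _ _).trans (congrArg (u₁ ≫ ·) ((Category.assoc _ _ _).trans ?_))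
    rw [← Functor.map_comp, IsIso.inv_hom_id, CategoryTheory.Functor.map_id]
    exact Category.comp_id _

/-- exactness at the third vertex -/
theorem exact₃ (T : Triangle (DCoh.D X)) (hT : T ∈ distTriang _) {Z : DCoh.D X}
    (a : Z ⟶ (DCoh.LTensorCx K).obj T.obj₃) (ha : a ≫ (DCoh.LTensorCx K).map T.mor₃ = 0) :
    ∃ b, a = b ≫ (DCoh.LTensorCx K).map T.mor₂ := by
  obtain ⟨h, hd⟩ := exists_distinguished K T hT
  exact Triangle.coyoneda_exact₂ _ hd a ha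

/-- exactness at the middle vertex -/
theorem exact₂ (T : Triangle (DCoh.D X)) (hT : T ∈ distTriang _) {Z : DCoh.D X}
    (a : Z ⟶ (DCoh.LTensorCx K).obj T.obj₂) (ha : a ≫ (DCoh.LTensorCx K).map T.mor₂ = 0) :
    ∃ b, a = b ≫ (DCoh.LTensorCx K).map T.mor₁ := by
  obtain ⟨b, hb⟩ := exact₃ K T.invRotate (inv_rot_of_distTriang _ hT) a (by
    have h : T.invRotate.mor₃ = T.mor₂ ≫ ((shiftEquiv (DCoh.D X) (1 : ℤ)).counitIso.inv.app T.obj₃) := rfl
    rw [h, Functor.map_comp, reassoc_of% ha, zero_comp])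
  exact ⟨b, hb⟩

end Groth.L29.BC.LTExact

namespace Groth.L29.BC

/-- five lemma for a natural transformation between functors with exactness only -/
theorem isIso_app₃' {A B : Type*} [Category A] [Category B] [Preadditive A] [HasZeroObject A] [HasShift A ℤ]
    [∀ n : ℤ, (CategoryTheory.shiftFunctor A n).Additive] [Pretriangulated A] [Preadditive B]
    (F G : A ⥤ B) [F.Additive] [G.Additive] (τ : F ⟶ G) (S : B → Prop)
    (hF : ∀ o, S (F.obj o)) (hG : ∀ o, S (G.obj o))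
    (exF : ∀ (T : Triangle A), T ∈ distTriang A → ∀ {Z : B}, S Z → ∀ a : Z ⟶ F.obj T.obj₂,
      a ≫ F.map T.mor₂ = 0 → ∃ b, a = b ≫ F.map T.mor₁)
    (exG : ∀ (T : Triangle A), T ∈ distTriang A → ∀ {Z : B}, S Z → ∀ a : Z ⟶ G.obj T.obj₂,
      a ≫ G.map T.mor₂ = 0 → ∃ b, a = b ≫ G.map T.mor₁)
    (T : Triangle A) (hT : T ∈ distTriang A) (h₁ : IsIso (τ.app T.obj₁)) (h₂ : IsIso (τ.app T.obj₂))
    (h₁' : IsIso (τ.app (T.obj₁⟦(1 : ℤ)⟧))) (h₂' : IsIso (τ.app (T.obj₂⟦(1 : ℤ)⟧))) : IsIso (τ.app T.obj₃) := by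
  have hr := rot_of_distTriang _ hT
  have hrr := rot_of_distTriang _ hr
  have h12 : T.mor₁ ≫ T.mor₂ = 0 := comp_distTriang_mor_zero₁₂ _ hT
  have h34 : T.mor₃ ≫ T.mor₁⟦(1 : ℤ)⟧' = 0 := comp_distTriang_mor_zero₃₁ _ hT
  have inj : ∀ {Z : B}, S Z → ∀ (a : Z ⟶ F.obj T.obj₃), a ≫ τ.app T.obj₃ = 0 → a = 0 := fun {Z} hZ a ha => by
    have h0 : a ≫ F.map T.mor₃ = 0 := by
      rw [← cancel_mono (τ.app (T.obj₁⟦(1 : ℤ)⟧)), Category.assoc, τ.naturality, reassoc_of% ha, zero_comp, zero_comp]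
    obtain ⟨b, rfl⟩ := exF T.rotate hr hZ a h0
    have h1 : (b ≫ τ.app T.obj₂) ≫ G.map T.mor₂ = 0 := by
      rw [Category.assoc, ← τ.naturality]
      exact (Category.assoc _ _ _).symm.trans ha
    obtain ⟨c, hc⟩ := exG T hT hZ _ h1
    have h2 : b = (c ≫ inv (τ.app T.obj₁)) ≫ F.map T.mor₁ := by
      rw [← cancel_mono (τ.app T.obj₂), hc, Category.assoc, Category.assoc, τ.naturality, IsIso.inv_hom_id_assoc]
    change b ≫ F.map T.mor₂ = 0
    rw [h2, Category.assoc, ← Functor.map_comp, h12, Functor.map_zero, comp_zero]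
  let y := 𝟙 (G.obj T.obj₃)
  let z := (y ≫ G.map T.mor₃) ≫ inv (τ.app (T.obj₁⟦(1 : ℤ)⟧))
  have h0 : z ≫ F.map (T.mor₁⟦(1 : ℤ)⟧') = 0 := by
    rw [← cancel_mono (τ.app (T.obj₂⟦(1 : ℤ)⟧)), Category.assoc, τ.naturality]
    simp only [z, Category.assoc, IsIso.inv_hom_id_assoc]
    rw [← Functor.map_comp, h34, Functor.map_zero, comp_zero, zero_comp]
  obtain ⟨x, hx⟩ := exF T.rotate.rotate hrr (hG T.obj₃) z
    (show z ≫ F.map (-T.mor₁⟦(1 : ℤ)⟧') = 0 by rw [Functor.map_neg, Preadditive.comp_neg, h0, neg_zero])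
  change z = x ≫ F.map T.mor₃ at hx
  have h1 : (y - x ≫ τ.app T.obj₃) ≫ G.map T.mor₃ = 0 := by
    rw [Preadditive.sub_comp, Category.assoc, ← τ.naturality, ← Category.assoc x, ← hx]
    simp [z]
  obtain ⟨b, hb⟩ := exG T.rotate hr (hG T.obj₃) _ h1
  change _ = b ≫ G.map T.mor₂ at hb
  let x' : G.obj T.obj₃ ⟶ F.obj T.obj₃ := (show G.obj T.obj₃ ⟶ F.obj T.obj₃ from x) + (b ≫ inv (τ.app T.obj₂)) ≫ F.map T.mor₂
  have hx' : x' ≫ τ.app T.obj₃ = 𝟙 _ := by
    rw [Preadditive.add_comp, Category.assoc, Category.assoc, τ.naturality, IsIso.inv_hom_id_assoc, ← hb]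
    abel
  refine ⟨x', ?_, hx'⟩
  refine sub_eq_zero.1 (inj (hF T.obj₃) _ ?_)
  rw [Preadditive.sub_comp, Category.assoc, hx', Category.comp_id, Category.id_comp, sub_self]

end Groth.L29.BC
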