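import Groth.Agent.L29.DCoh.ProjMap
import Groth.Agent.L00.KFlatComm
import Mathlib.Algebra.Homology.BifunctorShift

/-!
The projection map commutes with shifts.
-/

set_option autoImplicit false
set_option backward.defeqAttrib.useBackward true
set_option backward.isDefEq.respectTransparency false
set_option backward.isDefEq.respectTransparency.types false

universe u

open CategoryTheory CategoryTheory.Limits AlgebraicGeometry HomologicalComplex

attribute [local instance] HasDerivedCategory.standard

namespace Groth.L29.BC.PFShift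

open Groth.L00 Groth.L29.DC

local notation "cc" => ComplexShape.up ℤ

variable {X Y : Scheme.{u}}

/-- `A ⊗ P⟦n⟧ ≅ (A ⊗ P)⟦n⟧` -/
noncomputable abbrev σ (A P : CochainComplex Y.Modules ℤ) (n : ℤ) :
    (DCoh.tensorCx.obj A).obj (P⟦n⟧) ≅ ((DCoh.tensorCx.obj A).obj P)⟦n⟧ :=
  CochainComplex.mapBifunctorShift₂Iso A P (DCoh.tensorBi (X := Y)) n

theorem σ_natural {A A' : CochainComplex Y.Modules ℤ} (a : A ⟶ A') (P : CochainComplex Y.Modules ℤ) (n : ℤ) :
    (DCoh.tensorCx.map a).app (P⟦n⟧) ≫ (σ A' P n).hom = (σ A P n).hom ≫ ((DCoh.tensorCx.map a).app P)⟦n⟧' := by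
  change mapBifunctorMap a (𝟙 (P⟦n⟧)) (DCoh.tensorBi (X := Y)) cc ≫ _ =
    _ ≫ (mapBifunctorMap a (𝟙 P) (DCoh.tensorBi (X := Y)) cc)⟦n⟧'
  refine HomologicalComplex.hom_ext _ _ fun j => HomologicalComplex.mapBifunctor.hom_ext fun p q h => ?_
  simp only [HomologicalComplex.comp_f, CategoryTheory.Functor.map_id, NatTrans.id_app,
    HomologicalComplex.ι_mapBifunctorMap_assoc, HomologicalComplex.id_f]
  erw [Category.id_comp]
  rw [CochainComplex.ι_mapBifunctorShift₂Iso_hom_f _ _ _ _ p q j h (q + n) (j + n) rfl rfl,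
    CochainComplex.ι_mapBifunctorShift₂Iso_hom_f_assoc _ _ _ _ p q j h (q + n) (j + n) rfl rfl]
  simp only [CochainComplex.shiftFunctorObjXIso, HomologicalComplex.XIsoOfEq_rfl, Iso.refl_hom, Iso.refl_inv,
    Category.comp_id, Units.smul_def, Preadditive.comp_zsmul, Preadditive.zsmul_comp, CategoryTheory.Functor.map_id,
    Category.id_comp, CochainComplex.shiftFunctor_map_f']
  refine congrArg (_ • ·) ?_
  erw [CategoryTheory.Functor.map_id, Category.id_comp, CategoryTheory.Functor.map_id, Category.id_comp]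
  refine Eq.symm ((HomologicalComplex.ι_mapBifunctorMap a (𝟙 P) (DCoh.tensorBi (X := Y)) cc p (q + n) (j + n) _).trans ?_)
  rw [HomologicalComplex.id_f]
  erw [CategoryTheory.Functor.map_id, Category.id_comp]
  rfl

variable (f : X ⟶ Y)

theorem ι_proj (G : CochainComplex X.Modules ℤ) (P : CochainComplex Y.Modules ℤ) (p q j : ℤ) (h : p + q = j) :
    ιMapBifunctor ((Proj.pushCx f).obj G) P (DCoh.tensorBi (X := Y)) cc p q j h ≫ (Proj.proj f G P).f j =
      Proj.β₀ f (G.X p) (P.X q) ≫ (Scheme.Modules.pushforward f).map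
        (ιMapBifunctor G ((Proj.pullCx f).obj P) (DCoh.tensorBi (X := X)) cc p q j h) := by
  haveI := Groth.L17.PushQCoh.additive_push f
  haveI : (Scheme.Modules.pullback f).Additive :=
    (Scheme.Modules.pullbackPushforwardAdjunction f).left_adjoint_additive
  haveI : HomologicalComplex.HasMapBifunctor G P (Proj.biF f) cc := fun _ => inferInstance
  let e := FunctorTotal.totalIso (Proj.biF f) (DCoh.tensorBi (X := X)) (𝟭 X.Modules) (Scheme.Modules.pullback f)
      (𝟭 X.Modules) (fun A N => Iso.refl _)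
      (fun g N => by exact (Category.comp_id _).trans (Category.id_comp _).symm)
      (fun A _ _ g => by exact (Category.comp_id _).trans (Category.id_comp _).symm) (c := cc) G P
  have h1 : ιMapBifunctor G ((Proj.pullCx f).obj P) (DCoh.tensorBi (X := X)) cc p q j h ≫ e.hom.f j =
      ιMapBifunctor G P (Proj.biF f) cc p q j h :=
    (FunctorTotal.ι_compX (Proj.biF f) (DCoh.tensorBi (X := X)) (𝟭 X.Modules) (Scheme.Modules.pullback f)
      (𝟭 X.Modules) (fun A N => Iso.refl _) G P p q j h).trans (Category.id_comp _)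
  have h2 : ιMapBifunctor G P (Proj.biF f) cc p q j h ≫ e.inv.f j =
      ιMapBifunctor G ((Proj.pullCx f).obj P) (DCoh.tensorBi (X := X)) cc p q j h := by
    refine (congrArg (· ≫ e.inv.f j) h1.symm).trans ?_
    rw [Category.assoc, ← HomologicalComplex.comp_f, e.hom_inv_id, HomologicalComplex.id_f]
    exact Category.comp_id _
  delta Proj.proj
  refine (Category.assoc _ _ _).symm.trans ?_
  refine (congrArg (· ≫ _) (TotalMap.ι_mapX (Proj.biF f) (DCoh.tensorBi (X := Y)) (Scheme.Modules.pushforward f)
    (𝟭 Y.Modules) (Scheme.Modules.pushforward f) (fun A N => Proj.β₀ f A N) G P p q j h)).trans ?_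
  refine (Category.assoc _ _ _).trans (congrArg (Proj.β₀ f (G.X p) (P.X q) ≫ ·) ?_)
  exact ((Scheme.Modules.pushforward f).map_comp _ _).symm.trans (congrArg (Scheme.Modules.pushforward f).map h2)

/-- the comparison of the two shifts on the target of `proj` -/
noncomputable def pullShift (G : CochainComplex X.Modules ℤ) (P : CochainComplex Y.Modules ℤ) (n : ℤ) :
    (DCoh.tensorCx.obj G).obj ((Proj.pullCx f).obj (P⟦n⟧)) ≅
      ((DCoh.tensorCx.obj G).obj ((Proj.pullCx f).obj P))⟦n⟧ :=
  haveI : (Scheme.Modules.pullback f).Additive :=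
    (Scheme.Modules.pullbackPushforwardAdjunction f).left_adjoint_additive
  (DCoh.tensorCx.obj G).mapIso (((Scheme.Modules.pullback f).mapCochainComplexShiftIso n).app P) ≪≫
    σ G ((Proj.pullCx f).obj P) n

theorem proj_shift (G : CochainComplex X.Modules ℤ) (P : CochainComplex Y.Modules ℤ) (n : ℤ) :
    haveI := Groth.L17.PushQCoh.additive_push f
    Proj.proj f G (P⟦n⟧) ≫ (Proj.pushCx f).map (pullShift f G P n).hom ≫
        (((Scheme.Modules.pushforward f).mapCochainComplexShiftIso n).app _).hom =
      (σ ((Proj.pushCx f).obj G) P n).hom ≫ (Proj.proj f G P)⟦n⟧' := by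
  haveI := Groth.L17.PushQCoh.additive_push f
  haveI : (Scheme.Modules.pullback f).Additive :=
    (Scheme.Modules.pullbackPushforwardAdjunction f).left_adjoint_additive
  refine HomologicalComplex.hom_ext _ _ fun j => HomologicalComplex.mapBifunctor.hom_ext fun p q h => ?_
  have hP : ιMapBifunctor G ((Proj.pullCx f).obj (P⟦n⟧)) (DCoh.tensorBi (X := X)) cc p q j h ≫
      (pullShift f G P n).hom.f j =
      (p * n).negOnePow • ιMapBifunctor G ((Proj.pullCx f).obj P) (DCoh.tensorBi (X := X)) cc p (q + n) (j + n)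
        (show p + (q + n) = j + n by have : p + q = j := h; omega) := by
    simp [pullShift, σ, DCoh.tensorCx,
      CochainComplex.ι_mapBifunctorShift₂Iso_hom_f _ _ _ _ _ _ _ _ (q + n) (j + n) rfl rfl]
  simp only [HomologicalComplex.comp_f]
  rw [← Category.assoc, ι_proj f G (P⟦n⟧) p q j h, CochainComplex.ι_mapBifunctorShift₂Iso_hom_f_assoc _ _ _ _ _ _ _ _
    (q + n) (j + n) rfl rfl]
  have hR := ι_proj f G P p (q + n) (j + n) (show p + (q + n) = j + n by have : p + q = j := h; omega)
  simp only [Category.assoc]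
  simp only [CochainComplex.shiftFunctorObjXIso, HomologicalComplex.XIsoOfEq_rfl, Iso.refl_hom, Iso.refl_inv,
    Category.comp_id, Units.smul_def, Preadditive.comp_zsmul, Preadditive.zsmul_comp, CategoryTheory.Functor.map_id,
    Category.id_comp, CochainComplex.shiftFunctor_map_f']
  erw [Category.comp_id]
  erw [← Functor.map_comp (Scheme.Modules.pushforward f), hP]
  rw [Units.smul_def, Functor.map_zsmul, Preadditive.comp_zsmul]
  congr 1
  refine Eq.symm ?_
  erw [CategoryTheory.Functor.map_id, Category.id_comp]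
  exact hR

end Groth.L29.BC.PFShift
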