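import Groth.Agent.L29.BC.PCPush
import Groth.Agent.L29.DCoh.RelBC
import Groth.Agent.L29.DCoh.LBC
import Groth.Agent.L10.DRing.FibrePerfect
import Groth.Agent.L02.PC.Coherent

/-!
Proper flat morphisms of finite presentation send relatively perfect objects to perfect objects.
-/

set_option autoImplicit false
set_option backward.defeqAttrib.useBackward true
set_option backward.isDefEq.respectTransparency false
set_option backward.isDefEq.respectTransparency.types false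

universe u

open CategoryTheory CategoryTheory.Limits AlgebraicGeometry

attribute [local instance] HasDerivedCategory.standard

namespace Groth.L29.BC

open Groth.L00 Groth.L29.DC

theorem locHasFiniteRelTorDim_of_iso {X S : Scheme.{u}} {f : X ⟶ S} {K L : DCoh.D X} (e : K ≅ L)
    (h : DCoh.LocHasFiniteRelTorDim f K) : DCoh.LocHasFiniteRelTorDim f L := fun x => by
  obtain ⟨V, a, b, hx, hV⟩ := h x
  exact ⟨V, a, b, hx, fun F ⟨eF⟩ => hV F ⟨eF ≪≫ e.symm⟩⟩

/-- a uniform lower bound after every base change -/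
theorem exists_isGE_Lpull {X S : Scheme.{u}} (f : X ⟶ S) [CompactSpace X] [Flat f] (E : DCoh.D X)
    (hE : DCoh.LocHasFiniteRelTorDim f E) :
    ∃ a₀ : ℤ, ∀ {X' S' : Scheme.{u}} {g' : X' ⟶ X} {f' : X' ⟶ S'} {g : S' ⟶ S}, IsPullback g' f' f g →
      ∀ [DCoh.HasLpull g'], ((DCoh.Lpull g').obj E).IsGE a₀ := by
  classical
  choose V a b hxV hV using hE
  obtain ⟨t, ht⟩ := (isCompact_univ (X := X)).elim_finite_subcover (fun x => (V x : Set X))
    (fun x => (V x).2) fun x _ => Set.mem_iUnion.2 ⟨x, hxV x⟩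
  obtain ⟨a₀, ha₀⟩ : ∃ a₀ : ℤ, ∀ x ∈ t, a₀ ≤ a x :=
    ⟨-((t.sup fun x => (-a x).toNat : ℕ) : ℤ), fun x hx => by
      have : (-a x).toNat ≤ t.sup fun x => (-a x).toNat := Finset.le_sup (f := fun x => (-a x).toNat) hx
      omega⟩
  refine ⟨a₀, fun {X' S' g' f' g} hc => ?_⟩
  intro hL
  rw [DerivedCategory.isGE_iff]
  intro i hi
  refine Groth.L21.Mod.isZero_of_restrict (fun x : t => (g' ⁻¹ᵁ V x.1).ι) (fun x' => ?_) _ fun x => ?_
  · obtain ⟨x, hx, hx'⟩ := Set.mem_iUnion₂.1 (ht (Set.mem_univ (g' x')))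
    exact ⟨⟨x, hx⟩, ⟨x', hx'⟩, rfl⟩
  · let h := g' ∣_ V x.1
    haveI := KFlat.hasLpull h
    obtain ⟨F, ⟨eF⟩⟩ : ∃ F : CochainComplex X.Modules ℤ, Nonempty (DCoh.toD X F ≅ E) :=
      ⟨_, ⟨DerivedCategory.Q.objObjPreimageIso E⟩⟩
    obtain ⟨E₁, hEv, hEf, ⟨eE⟩⟩ := hV x.1 F ⟨eF⟩
    obtain ⟨e'⟩ := nonempty_restrict_Lpull g' (V x.1) E
    have hc' : IsPullback h ((g' ⁻¹ᵁ V x.1).ι ≫ f') ((V x.1).ι ≫ f) g :=
      (isPullback_morphismRestrict g' (V x.1)).paste_vert hc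
    obtain ⟨e''⟩ := RelBC.nonempty_Lpull_iso hc' (b := b x.1) (fun i hi => hEv i (Or.inr hi)) hEf
    change IsZero ((DCoh.HD ((DCoh.Lpull g').obj E) i).restrict _)
    refine IsZero.of_iso ?_ (HDResIso (g' ⁻¹ᵁ V x.1).ι ((DCoh.Lpull g').obj E) i).symm
    refine IsZero.of_iso ?_ ((DerivedCategory.homologyFunctor _ i).mapIso (e' ≪≫
      (DCoh.Lpull h).mapIso ((resD (V x.1)).mapIso eF.symm ≪≫ resQIso (V x.1) F ≪≫ eE.symm) ≪≫ e''))
    refine IsZero.of_iso ?_ ((DerivedCategory.homologyFunctorFactors _ i).app _)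
    exact ShortComplex.isZero_homology_of_isZero_X₂ _
      ((Scheme.Modules.pullback h).map_isZero (hEv i (Or.inl (by have := ha₀ x.1 x.2; omega))))

set_option maxHeartbeats 1600000 in
theorem isPerfect_Rpush_affineBase' {A : Type u} [CommRing A] {X : Scheme.{u}} (f : X ⟶ Spec (CommRingCat.of A))
    [IsProper f] [Flat f] [LocallyOfFinitePresentation f] [DCoh.HasRpush f] {E : DCoh.D X}
    (hpc : ∀ m, DCoh.IsPseudoCoherentD m E) (htor : DCoh.LocHasFiniteRelTorDim f E) :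
    DCoh.IsPerfect ((DCoh.Rpush f).obj E) := by
  let R := CommRingCat.of A
  haveI : CompactSpace X := QuasiCompact.compactSpace_of_compactSpace f
  haveI : X.IsSeparated := ⟨by rw [← terminal.comp_from f]; infer_instance⟩
  haveI := Groth.L18.TildeF.tilde_preservesFiniteLimits (R := R)
  have hEq := PCQCoh.isQCohD_of_pc hpc
  obtain ⟨K₀, ⟨e₀⟩⟩ := (TildeD.isQCohD_iff _).1 (RpushQC.isQCohD_Rpush f E hEq)
  have hK₀ : ∀ m, DRing.IsPseudoCoherent A m K₀ := fun m =>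
    TildeAlg.pc_of_tilde (R := CommRingCat.of A) (K := K₀) (isPseudoCoherentD_of_iso e₀.symm (pc_Rpush f hpc m))
  obtain ⟨P, B, hPb, hP, ⟨eP⟩⟩ := Groth.L02.PC.pc'_of_forall hK₀
  haveI : P.IsKProjective := Groth.L02.PC.isKProjective_of_vanishesAbove hPb fun i => haveI := (hP i).2; inferInstance
  obtain ⟨a₀, ha₀⟩ := exists_isGE_Lpull f E htor
  refine isPerfect_of_iso e₀ (TildeAlg.perfect_tilde
    (Groth.L10.DR.perfect_and_amp_of_exMod eP hPb hP a₀ B (fun i hi m hm => ?_)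
      (fun i hi => (P.exactAt_iff_isZero_homology i).1 (HomologicalComplex.ExactAt.of_isZero (hPb i hi)))).1)
  let φ : R ⟶ CommRingCat.of (A ⧸ m) := CommRingCat.ofHom (Ideal.Quotient.mk m)
  let g := Spec.map φ
  let g' := pullback.fst f g
  let f' := pullback.snd f g
  have hc : IsPullback g' f' f g := IsPullback.of_hasPullback f g
  haveI := Groth.L18.TildeF.tilde_preservesFiniteLimits (R := CommRingCat.of (A ⧸ m))
  haveI : DRing.HasLBaseChange (Ideal.Quotient.mk m) := LBC.hasLBaseChange φ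
  haveI := KFlat.hasLpull g
  haveI := KFlat.hasLpull g'
  haveI := RpushQC.hasRpush g
  haveI := RpushQC.hasRpush g'
  haveI := RpushQC.hasRpush f'
  haveI := Groth.L17.PushQCoh.hasInjectiveResolutions (pullback f g)
  haveI := ha₀ hc
  haveI := RpushQC.isGE_Rpush f' ((DCoh.Lpull g').obj E) a₀
  haveI := (P_of_flat hc hEq).isIso
  obtain ⟨eL⟩ := LBC.nonempty_tildeDIso φ
  have hz : IsZero (DCoh.HD ((DCoh.tildeD (CommRingCat.of (A ⧸ m))).obj
      ((DRing.LBaseChange (Ideal.Quotient.mk m)).obj (DRing.toD P))) i) :=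
    (DerivedCategory.isZero_of_isGE ((DCoh.Rpush f').obj ((DCoh.Lpull g').obj E)) a₀ i hi).of_iso
      ((DerivedCategory.homologyFunctor _ i).mapIso
        (eL.app (DRing.toD P) ≪≫ (DCoh.Lpull g).mapIso ((DCoh.tildeD R).mapIso eP ≪≫ e₀) ≪≫ asIso (β hc.w E)))
  have := Groth.L10.DR.exMod_of_isZero_bcCx (Ideal.Quotient.mk m) Ideal.Quotient.mk_surjective P i
    ((Groth.L10.DR.HH_iso_zero (Groth.L02.PC.lbcIso _ P).symm i).1 ((TildeAlg.isZero_hd_iff _ i).1 hz))
  rwa [Ideal.mk_ker] at this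

theorem isPerfect_Rpush' {X S : Scheme.{u}} (f : X ⟶ S) [IsProper f] [Flat f] [LocallyOfFinitePresentation f]
    [DCoh.HasRpush f] {E : DCoh.D X} (hpc : ∀ m, DCoh.IsPseudoCoherentD m E)
    (htor : DCoh.LocHasFiniteRelTorDim f E) : DCoh.IsPerfect ((DCoh.Rpush f).obj E) := by
  refine EvalMain.isPerfect_of_local fun s => ?_
  obtain ⟨_, ⟨V, hV, rfl⟩, hsV, -⟩ := S.isBasis_affineOpens.exists_subset_of_mem_open (Set.mem_univ s) isOpen_univ
  let g₀ := f ∣_ V
  let g := g₀ ≫ hV.isoSpec.hom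
  let ι := (f ⁻¹ᵁ V).ι
  have w : g ≫ hV.fromSpec = ι ≫ f := by
    simp [g, g₀, ι, IsAffineOpen.isoSpec_hom_fromSpec, morphismRestrict_ι]
  haveI := RpushQC.hasRpush g
  haveI : IsProper g₀ := IsZariskiLocalAtTarget.restrict ‹IsProper f› V
  haveI : Flat g₀ := IsZariskiLocalAtTarget.restrict ‹Flat f› V
  haveI : LocallyOfFinitePresentation g₀ := IsZariskiLocalAtTarget.restrict ‹LocallyOfFinitePresentation f› V
  obtain ⟨eV⟩ := RpushRes.nonempty_iso f hV.fromSpec ι g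
    (by rw [hV.opensRange_fromSpec, Scheme.Opens.opensRange_ι]) w
  have hsq : IsPullback ι g f hV.fromSpec :=
    IsPullback.of_iso (isPullback_morphismRestrict f V).flip (Iso.refl _) (Iso.refl _) hV.isoSpec (Iso.refl _)
      (by simp [ι]) (by simp [g, g₀]) (by simp) (by simp)
  haveI := KFlat.hasLpull ι
  obtain ⟨eι⟩ := Groth.L29.DC.nonempty_Lpull_iso_restrictD ι E
  have h := isPerfect_Rpush_affineBase' (A := Γ(S, V)) g
    (E := (DCoh.restrictD ι).obj E) (fun n => PCStalk.pc_res ι (hpc n))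
    (locHasFiniteRelTorDim_of_iso eι (RelBC.locHasFiniteRelTorDim_Lpull hsq htor))
  have h' := EvalMain.isPerfect_restrictD hV.isoSpec.hom (isPerfect_of_iso (eV.app E).symm h)
  exact ⟨V, hsV, isPerfect_of_iso
    ((resTransD hV.fromSpec hV.isoSpec.hom (Scheme.Opens.ι V) hV.isoSpec_hom_fromSpec).app _) h'⟩

end Groth.L29.BC
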