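import Groth.Agent.L29.BC.SupportAdj
import Groth.Agent.L29.BC.RelPerfPush
import Groth.Agent.L29.DCoh.RelTor
import Groth.Agent.L29.DCoh.RpushCoh
import Groth.Agent.L29.DCoh.PCNoeth
import Groth.Agent.L29.K.CohSupp

/-!
Support of values of right adjoints: the hypotheses for proper morphisms.
-/

set_option autoImplicit false
set_option backward.defeqAttrib.useBackward true
set_option backward.isDefEq.respectTransparency false
set_option backward.isDefEq.respectTransparency.types false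

universe u

open CategoryTheory CategoryTheory.Limits AlgebraicGeometry

attribute [local instance] HasDerivedCategory.standard

namespace Groth.L29.BC.SupportAdj

open Groth.L00 Groth.L29.DC

variable {X Y : Scheme.{u}}

theorem isZero_resD (V : Y.Opens) {Q : DCoh.D Y} (h : ∀ i : ℤ, IsZero ((DCoh.HD Q i).restrict V.ι)) :
    IsZero ((resD V).obj Q) :=
  Gen.isZero_of_hd fun i => (h i).of_iso (HDResIso V.ι Q i)

/-- the support statement, for an arbitrary open -/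
theorem isZero_restrict [CompactSpace X] [QuasiSeparatedSpace X] (f : X ⟶ Y) [QuasiCompact f] [QuasiSeparated f]
    [DCoh.HasRpush f] (V : Y.Opens) (hq : DCoh.RpushPreservesQCoh f) (a : DCoh.DQCoh Y ⥤ DCoh.DQCoh X)
    (adj : DCoh.RpushQ f hq ⊣ a) (Q : DCoh.DQCoh Y)
    (hH : ∀ P : DCoh.D X, DCoh.IsPerfect P → ∀ (E : CochainComplex Y.Modules ℤ) [DCoh.HasLTensorCx E]
      [DCoh.HasRSheafHom E], Nonempty (DCoh.toD Y E ≅ (DCoh.Rpush f).obj P) →
        DCoh.IsQCohD ((DCoh.RSheafHom E).obj Q.obj))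
    (hV : ∀ i : ℤ, IsZero ((DCoh.HD Q.obj i).restrict V.ι)) (i : ℤ) :
    IsZero ((DCoh.HD (a.obj Q).obj i).restrict (f ⁻¹ᵁ V).ι) := by
  refine IsZero.of_iso ?_ (HDResIso (f ⁻¹ᵁ V).ι (a.obj Q).obj i).symm
  refine (DerivedCategory.homologyFunctor _ i).map_isZero (Gen.isZero_of_cover fun x => ?_)
  obtain ⟨_, ⟨V₀, hV₀, rfl⟩, hxV, hle⟩ :=
    Y.isBasis_affineOpens.exists_subset_of_mem_open (show f x.1 ∈ (V : Set Y) from x.2) V.2
  have hzV : IsZero ((resD V₀).obj Q.obj) := Gen.isZero_res_of_le hle (isZero_resD V hV)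
  have h0 := isZero_res_adjoint f V₀ hV₀.isCompact hq a adj Q hH hzV
  refine ⟨(f ⁻¹ᵁ V).ι ⁻¹ᵁ (f ⁻¹ᵁ V₀), hxV, ?_⟩
  let W := (f ⁻¹ᵁ V).ι ⁻¹ᵁ (f ⁻¹ᵁ V₀)
  let k : (W : Scheme.{u}) ⟶ (f ⁻¹ᵁ V₀ : X.Opens) :=
    IsOpenImmersion.lift (f ⁻¹ᵁ V₀).ι (W.ι ≫ (f ⁻¹ᵁ V).ι) (by
      rw [Scheme.Opens.range_ι]; rintro _ ⟨z, rfl⟩; exact z.2)
  have hk : k ≫ (f ⁻¹ᵁ V₀).ι = W.ι ≫ (f ⁻¹ᵁ V).ι := IsOpenImmersion.lift_fac _ _ _
  haveI : IsOpenImmersion k := IsOpenImmersion.of_comp k (f ⁻¹ᵁ V₀).ι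
  exact (((DCoh.restrictD k).map_isZero h0).of_iso
    (((resTransD (f ⁻¹ᵁ V).ι W.ι (W.ι ≫ (f ⁻¹ᵁ V).ι) rfl).app _) ≪≫
      ((resTransD (f ⁻¹ᵁ V₀).ι k (W.ι ≫ (f ⁻¹ᵁ V).ι) hk).app _).symm))

theorem qcoh_RHom_of_perfect {E : CochainComplex Y.Modules ℤ} [DCoh.HasLTensorCx E] [DCoh.HasRSheafHom E]
    (hE : DCoh.IsPerfect (DCoh.toD Y E)) {Q : DCoh.D Y} (hQ : DCoh.IsQCohD Q) :
    DCoh.IsQCohD ((DCoh.RSheafHom E).obj Q) :=
  (RHom.rPres_of_isPerfect hE).pres Q hQ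

/-- direct images of perfect objects along proper morphisms to Noetherian schemes are pseudo-coherent -/
theorem pc_Rpush_perfect [IsNoetherian Y] (f : X ⟶ Y) [IsProper f] [DCoh.HasRpush f] {P : DCoh.D X}
    (hP : DCoh.IsPerfect P) (m : ℤ) : DCoh.IsPseudoCoherentD m ((DCoh.Rpush f).obj P) := by
  haveI : IsLocallyNoetherian X := LocallyOfFiniteType.isLocallyNoetherian f
  haveI : CompactSpace X := QuasiCompact.compactSpace_of_compactSpace f
  obtain ⟨a, b, ha, hb⟩ := Groth.L29.CohSupp.exists_bounds_of_perfect hP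
  have hc := Groth.L29.CohSupp.isCohD_of_perfect hP
  have hs : ∀ i : ℤ, ClSub.IsProperOver f (CohB1.support (DCoh.HD P i)) := fun i =>
    ⟨Groth.L16.CohSupport.isClosed_support _ (hc i).2, inferInstance⟩
  haveI := ha
  obtain ⟨b', hb'⟩ := RpushCoh.exists_isLE f b (b + 1 - a).toNat P
    (DerivedCategory.TStructure.t.isGE_of_ge P _ a (by omega)) hb hc hs
  haveI := hb'
  have hcR := RpushCoh.isCohD_Rpush f P a hc hs
  exact PCNoeth.pc_of_coh (fun i => (hcR i).1) m b' fun i _ => hcR i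

theorem qcoh_RHom_of_pc {E : CochainComplex Y.Modules ℤ} [DCoh.HasLTensorCx E] [DCoh.HasRSheafHom E]
    (hE : ∀ m, DCoh.IsPseudoCoherentD m (DCoh.toD Y E)) {Q : DCoh.D Y} (hQ : DCoh.IsQCohD Q) (c : ℤ) (hc : Q.IsGE c) :
    DCoh.IsQCohD ((DCoh.RSheafHom E).obj Q) := fun j =>
  RHom.isQCoh_HD_of_pseudoCoherent E (c - j - 1) (hE _) Q hQ c hc j (by omega)

end Groth.L29.BC.SupportAdj
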