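import Groth.Agent.L29.DCoh.Gen.Main
import Groth.Agent.L29.DCoh.Gen.QAdj
import Groth.Agent.L29.DCoh.Gen.PerfBuilt
import Groth.Agent.L29.DCoh.Gen.RpushTri
import Groth.Agent.L29.DCoh.PCQCoh
import Groth.Agent.L29.DCoh.Gen.QCohTri

/-!
The right adjoint of `Rf_*` commutes with sums when `Rf_*` preserves perfect objects.
-/

set_option autoImplicit false
set_option backward.defeqAttrib.useBackward true
set_option backward.isDefEq.respectTransparency false
set_option backward.isDefEq.respectTransparency.types false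

universe u

open CategoryTheory CategoryTheory.Limits CategoryTheory.Pretriangulated AlgebraicGeometry

attribute [local instance] HasDerivedCategory.standard

namespace Groth.L29.BC.AdjCoprod

open Groth.L29.DC Groth.L29.Thick

variable {X Y : Scheme.{u}}

/-- isomorphisms are detected by maps from a generator -/
theorem isIso_of_bijective {G A B : DCoh.D X} (hgen : ∀ E : DCoh.D X, DCoh.IsQCohD E → Gen.Ortho G E → IsZero E)
    (hA : DCoh.IsQCohD A) (hB : DCoh.IsQCohD B) (θ : A ⟶ B)
    (h : ∀ n : ℤ, Function.Bijective fun φ : G⟦n⟧ ⟶ A => φ ≫ θ) : IsIso θ := by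
  obtain ⟨C, q, d, hC⟩ := distinguished_cocone_triangle θ
  have hCq : DCoh.IsQCohD C := Gen.isQCohD_third _ hC hA hB
  refine (Triangle.isZero₃_iff_isIso₁ _ hC).1 (hgen C hCq fun n φ => ?_)
  have hd : φ ≫ d = 0 := by
    let adj := (shiftEquiv (DCoh.D X) (1 : ℤ)).symm.toAdjunction
    refine (adj.homEquiv (G⟦n⟧) A).symm.injective ?_
    have hz : (adj.homEquiv (G⟦n⟧) A).symm (φ ≫ d) ≫ θ = 0 := by
      rw [← adj.homEquiv_naturality_right_symm]
      have h31 : d ≫ θ⟦(1 : ℤ)⟧' = 0 := comp_distTriang_mor_zero₃₁ _ hC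
      change (adj.homEquiv (G⟦n⟧) B).symm ((φ ≫ d) ≫ (shiftFunctor (DCoh.D X) (1 : ℤ)).map θ) = 0
      rw [Category.assoc, h31, comp_zero]
      simp [Adjunction.homEquiv_counit]
    let i : G⟦n + (-1 : ℤ)⟧ ≅ (G⟦n⟧)⟦(-1 : ℤ)⟧ := (shiftFunctorAdd (DCoh.D X) n (-1)).app G
    have h1 : i.hom ≫ (adj.homEquiv (G⟦n⟧) A).symm (φ ≫ d) = 0 := (h (n + (-1))).injective
      (((Category.assoc _ _ _).trans ((congrArg (i.hom ≫ ·) hz).trans comp_zero)).trans zero_comp.symm)
    refine ((cancel_epi i.hom).1 (h1.trans comp_zero.symm)).trans ?_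
    simp [Adjunction.homEquiv_counit]
  obtain ⟨ψ, hψ⟩ := Triangle.coyoneda_exact₃ _ hC φ hd
  change φ = ψ ≫ q at hψ
  obtain ⟨χ, hχ⟩ := (h n).surjective ψ
  have h12 : θ ≫ q = 0 := comp_distTriang_mor_zero₁₂ _ hC
  rw [hψ, ← hχ, Category.assoc, h12, comp_zero]

set_option maxHeartbeats 800000 in
/-- if `Rf_*` preserves perfect objects then its right adjoint preserves coproducts -/
theorem preservesCoproducts [CompactSpace X] [QuasiSeparatedSpace X] [CompactSpace Y] [QuasiSeparatedSpace Y]
    (F : DCoh.DQCoh X ⥤ DCoh.DQCoh Y) (hF : ∀ P : DCoh.DQCoh X, DCoh.IsPerfect P.obj → DCoh.IsPerfect (F.obj P).obj)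
    [F.Additive] (a : DCoh.DQCoh Y ⥤ DCoh.DQCoh X) (adj : F ⊣ a) (J : Type u) :
    PreservesColimitsOfShape (Discrete J) a := by
  classical
  haveI : a.Additive := adj.right_adjoint_additive
  haveI := Gen.hasCoproducts_D X J
  haveI := Gen.hasCoproducts_D Y J
  haveI : HasCoproductsOfShape J (DCoh.DQCoh X) := inferInstance
  haveI : HasCoproductsOfShape J (DCoh.DQCoh Y) := inferInstance
  haveI := Gen.preservesCoproducts_ι (X := X) J
  haveI := Gen.preservesCoproducts_ι (X := Y) J
  obtain ⟨G, hG, hgen⟩ := Gen.exists_perfect_generator X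
  suffices h : ∀ K : J → DCoh.DQCoh Y, IsIso (sigmaComparison a K) from
    ⟨fun {D} => by
      haveI := h (D.obj ∘ Discrete.mk)
      haveI := PreservesCoproduct.of_iso_comparison a (D.obj ∘ Discrete.mk)
      exact preservesColimit_of_iso_diagram _ Discrete.natIsoFunctor.symm⟩
  intro K
  haveI := isIso_of_bijective hgen (∐ fun j => a.obj (K j)).property (a.obj (∐ K)).property
    (sigmaComparison a K).hom (fun n => by
      let P : DCoh.DQCoh X := ⟨G⟦n⟧, Gen.isQCohD_shift (PCQCoh.isQCohD_of_perfect hG) n⟩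
      have hP : DCoh.IsPerfect P.obj := perfect_shift hG n
      let cY := PreservesCoproduct.iso (DCoh.IsQCohD (X := Y)).ι K
      let cX := PreservesCoproduct.iso (DCoh.IsQCohD (X := X)).ι fun j => a.obj (K j)
      refine ⟨fun φ ψ hφψ => ?_, fun φ => ?_⟩
      · refine sub_eq_zero.1 ?_
        have hz : (φ - ψ) ≫ (sigmaComparison a K).hom = 0 := by
          rw [Preadditive.sub_comp]
          exact sub_eq_zero.2 hφψ
        generalize φ - ψ = χ at hz ⊢
        obtain ⟨s, g, hg⟩ := Gen.cpt_of_perfect hP (fun j => (a.obj (K j)).obj) (fun j => (a.obj (K j)).property)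
          (χ ≫ cX.hom)
        have hχ : χ = ∑ i ∈ s, g i ≫ (Sigma.ι (fun j => a.obj (K j)) i).hom := by
          rw [← cancel_mono cX.hom, hg, Preadditive.sum_comp]
          refine Finset.sum_congr rfl fun i _ => ?_
          rw [Category.assoc]
          congr 1
          rw [← Iso.comp_inv_eq]
          exact ι_comp_sigmaComparison (DCoh.IsQCohD (X := X)).ι (fun j => a.obj (K j)) i
        rw [hχ]
        refine Finset.sum_eq_zero fun i hi => ?_
        let π : (∐ K) ⟶ K i := Sigma.desc fun j => if h : j = i then eqToHom (congrArg K h) else 0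
        have h0 := congrArg (· ≫ (a.map π).hom) hz
        rw [hχ, Preadditive.sum_comp, Preadditive.sum_comp, zero_comp, Finset.sum_eq_single i] at h0
        · have h1 : (Sigma.ι (fun j => a.obj (K j)) i).hom ≫ (sigmaComparison a K).hom ≫ (a.map π).hom =
              𝟙 (a.obj (K i)).obj := by
            change (Sigma.ι (fun j => a.obj (K j)) i ≫ sigmaComparison a K ≫ a.map π).hom = _
            rw [ι_comp_sigmaComparison_assoc, ← Functor.map_comp]
            simp [π]
          simp only [Category.assoc, h1, Category.comp_id] at h0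
          rw [h0, zero_comp]
        · intro j _ hj
          simp only [Category.assoc]
          have h2 : (Sigma.ι (fun j => a.obj (K j)) j).hom ≫ (sigmaComparison a K).hom ≫ (a.map π).hom = 0 := by
            change (Sigma.ι (fun j => a.obj (K j)) j ≫ sigmaComparison a K ≫ a.map π).hom = _
            rw [ι_comp_sigmaComparison_assoc, ← Functor.map_comp]
            simp [π, hj]
          rw [h2, comp_zero]
        · exact fun h => absurd hi h
      · let φ' : P ⟶ a.obj (∐ K) := ObjectProperty.homMk φ
        let ψ := (adj.homEquiv P (∐ K)).symm φ'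
        obtain ⟨s, g, hg⟩ := Gen.cpt_of_perfect (hF P hP) (fun j => (K j).obj) (fun j => (K j).property)
          (ψ.hom ≫ cY.hom)
        have hψ : ψ = ∑ i ∈ s, (ObjectProperty.homMk (g i) : F.obj P ⟶ K i) ≫ Sigma.ι K i := by
          refine (DCoh.IsQCohD (X := Y)).ι.map_injective ?_
          rw [Functor.map_sum, ← cancel_mono cY.hom]
          refine hg.trans ?_
          rw [Preadditive.sum_comp]
          refine Finset.sum_congr rfl fun i _ => ?_
          rw [Functor.map_comp, Category.assoc]
          congr 1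
          rw [← Iso.comp_inv_eq]
          exact ι_comp_sigmaComparison (DCoh.IsQCohD (X := Y)).ι K i
        refine ⟨∑ i ∈ s, (adj.homEquiv P (K i) (ObjectProperty.homMk (g i)) ≫ Sigma.ι (fun j => a.obj (K j)) i).hom, ?_⟩
        have key : adj.homEquiv P (∐ K) ψ =
            (∑ i ∈ s, adj.homEquiv P (K i) (ObjectProperty.homMk (g i)) ≫ Sigma.ι (fun j => a.obj (K j)) i) ≫
              sigmaComparison a K := by
          rw [hψ, Adjunction.homEquiv_unit, Functor.map_sum, Preadditive.comp_sum, Preadditive.sum_comp]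
          refine Finset.sum_congr rfl fun i _ => ?_
          rw [Category.assoc, ι_comp_sigmaComparison, Adjunction.homEquiv_unit, Category.assoc, Functor.map_comp]
        have h3 := congrArg (DCoh.IsQCohD (X := X)).ι.map key
        simp only [ψ, Equiv.apply_symm_apply, Functor.map_comp, Functor.map_sum] at h3
        exact h3.symm)
  haveI : IsIso ((DCoh.IsQCohD (X := X)).ι.map (sigmaComparison a K)) := this
  exact isIso_of_reflects_iso (sigmaComparison a K) (DCoh.IsQCohD (X := X)).ι

end Groth.L29.BC.AdjCoprod
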