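import Groth.Agent.L29.BC.Map
import Groth.Agent.L29.DCoh.Gen.QAdj
import Groth.Agent.L29.DCoh.Gen.RpushTri
import Groth.Agent.S1054

/-!
The objects where the base change morphism is an isomorphism form a localizing class.
-/

set_option autoImplicit false
set_option backward.defeqAttrib.useBackward true
set_option backward.isDefEq.respectTransparency false
set_option backward.isDefEq.respectTransparency.types false

universe u

open CategoryTheory CategoryTheory.Limits CategoryTheory.Pretriangulated AlgebraicGeometry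

attribute [local instance] HasDerivedCategory.standard

namespace Groth.L29.BC

open Groth.L29.DC

variable {X X' S S' : Scheme.{u}} {f : X ⟶ S} {g : S' ⟶ S} {g' : X' ⟶ X} {f' : X' ⟶ S'}
  [DCoh.HasRpush f] [DCoh.HasRpush g] [DCoh.HasRpush f'] [DCoh.HasRpush g'] [DCoh.HasLpull g] [DCoh.HasLpull g']

/-- the base change morphism -/
noncomputable abbrev β (w : g' ≫ f = f' ≫ g) (E : DCoh.D X) :
    (DCoh.Lpull g).obj ((DCoh.Rpush f).obj E) ⟶ (DCoh.Rpush f').obj ((DCoh.Lpull g').obj E) :=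
  DCoh.baseChangeApp (adj g) (adj g') (e w) E

theorem β_natural (w : g' ≫ f = f' ≫ g) {E E' : DCoh.D X} (u : E ⟶ E') :
    (DCoh.Lpull g).map ((DCoh.Rpush f).map u) ≫ β w E' = β w E ≫ (DCoh.Rpush f').map ((DCoh.Lpull g').map u) := by
  apply ((adj g).homEquiv _ _).injective
  refine ((adj g).homEquiv_naturality_left _ _).trans ?_
  refine Eq.trans ?_ ((adj g).homEquiv_naturality_right _ _).symm
  simp only [β, DCoh.baseChangeApp, Equiv.apply_symm_apply]
  have h1 := (e w).hom.naturality ((DCoh.Lpull g').map u)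
  dsimp at h1
  have h2 := (adj g').unit.naturality u
  dsimp at h2
  rw [Category.assoc]
  erw [← h1]
  simp only [← Functor.map_comp_assoc]
  erw [h2]

/-- invertibility at all shifts -/
def P (w : g' ≫ f = f' ≫ g) (E : DCoh.D X) : Prop := ∀ n : ℤ, IsIso (β w (E⟦n⟧))

theorem isIso_β_of_iso (w : g' ≫ f = f' ≫ g) {E E' : DCoh.D X} (u : E ≅ E') (h : IsIso (β w E)) : IsIso (β w E') := by
  haveI : IsIso ((DCoh.Lpull g).map ((DCoh.Rpush f).map u.hom) ≫ β w E') := by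
    rw [β_natural]; infer_instance
  exact IsIso.of_isIso_comp_left ((DCoh.Lpull g).map ((DCoh.Rpush f).map u.hom)) _

theorem P.of_iso (w : g' ≫ f = f' ≫ g) {E E' : DCoh.D X} (u : E ≅ E') (h : P w E) : P w E' :=
  fun n => isIso_β_of_iso w ((shiftFunctor (DCoh.D X) n).mapIso u) (h n)

theorem P.isIso (w : g' ≫ f = f' ≫ g) {E : DCoh.D X} (h : P w E) : IsIso (β w E) :=
  isIso_β_of_iso w ((shiftFunctorZero (DCoh.D X) ℤ).app E) (h 0)

theorem P.shift (w : g' ≫ f = f' ≫ g) {E : DCoh.D X} (h : P w E) (k : ℤ) : P w (E⟦k⟧) :=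
  fun n => isIso_β_of_iso w ((shiftFunctorAdd (DCoh.D X) k n).app E) (h (k + n))

section Five

variable {A B : Type*} [Category A] [Category B] [Preadditive A] [HasZeroObject A] [HasShift A ℤ]
  [∀ n : ℤ, (shiftFunctor A n).Additive] [Pretriangulated A] [Preadditive B] [HasZeroObject B] [HasShift B ℤ]
  [∀ n : ℤ, (shiftFunctor B n).Additive] [Pretriangulated B]
  (F G : A ⥤ B) [F.CommShift ℤ] [F.IsTriangulated] [G.CommShift ℤ] [G.IsTriangulated] (τ : F ⟶ G)

/-- five lemma without compatibility with shifts -/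
theorem isIso_app₃ (T : Triangle A) (hT : T ∈ distTriang A) (h₁ : IsIso (τ.app T.obj₁)) (h₂ : IsIso (τ.app T.obj₂))
    (h₁' : IsIso (τ.app (T.obj₁⟦(1 : ℤ)⟧))) (h₂' : IsIso (τ.app (T.obj₂⟦(1 : ℤ)⟧))) : IsIso (τ.app T.obj₃) := by
  have hr := rot_of_distTriang _ hT
  have hrr := rot_of_distTriang _ hr
  have h12 : T.mor₁ ≫ T.mor₂ = 0 := comp_distTriang_mor_zero₁₂ _ hT
  have h23 : T.mor₂ ≫ T.mor₃ = 0 := comp_distTriang_mor_zero₂₃ _ hT
  have h34 : T.mor₃ ≫ T.mor₁⟦(1 : ℤ)⟧' = 0 := comp_distTriang_mor_zero₃₁ _ hT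
  -- exactness
  have exF₂ : ∀ {Z : B} (a : Z ⟶ F.obj T.obj₂), a ≫ F.map T.mor₂ = 0 → ∃ b, a = b ≫ F.map T.mor₁ := fun a ha =>
    Triangle.coyoneda_exact₂ _ (F.map_distinguished T hT) a ha
  have exG₂ : ∀ {Z : B} (a : Z ⟶ G.obj T.obj₂), a ≫ G.map T.mor₂ = 0 → ∃ b, a = b ≫ G.map T.mor₁ := fun a ha =>
    Triangle.coyoneda_exact₂ _ (G.map_distinguished T hT) a ha
  have exF₃ : ∀ {Z : B} (a : Z ⟶ F.obj T.obj₃), a ≫ F.map T.mor₃ = 0 → ∃ b, a = b ≫ F.map T.mor₂ := fun a ha =>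
    Triangle.coyoneda_exact₂ _ (F.map_distinguished T.rotate hr) a ha
  have exG₃ : ∀ {Z : B} (a : Z ⟶ G.obj T.obj₃), a ≫ G.map T.mor₃ = 0 → ∃ b, a = b ≫ G.map T.mor₂ := fun a ha =>
    Triangle.coyoneda_exact₂ _ (G.map_distinguished T.rotate hr) a ha
  have exF₁ : ∀ {Z : B} (a : Z ⟶ F.obj (T.obj₁⟦(1 : ℤ)⟧)), a ≫ F.map (T.mor₁⟦(1 : ℤ)⟧') = 0 →
      ∃ b, a = b ≫ F.map T.mor₃ := fun a ha =>
    Triangle.coyoneda_exact₂ _ (F.map_distinguished T.rotate.rotate hrr) a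
      (show a ≫ F.map (-T.mor₁⟦(1 : ℤ)⟧') = 0 by rw [Functor.map_neg, Preadditive.comp_neg, ha, neg_zero])
  have inj : ∀ {Z : B} (a : Z ⟶ F.obj T.obj₃), a ≫ τ.app T.obj₃ = 0 → a = 0 := fun {Z} a ha => by
    have h0 : a ≫ F.map T.mor₃ = 0 := by
      rw [← cancel_mono (τ.app (T.obj₁⟦(1 : ℤ)⟧)), Category.assoc, τ.naturality, reassoc_of% ha, zero_comp, zero_comp]
    obtain ⟨b, rfl⟩ := exF₃ a h0
    have h1 : (b ≫ τ.app T.obj₂) ≫ G.map T.mor₂ = 0 := by
      rw [Category.assoc, ← τ.naturality]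
      exact (Category.assoc _ _ _).symm.trans ha
    obtain ⟨c, hc⟩ := exG₂ _ h1
    have h2 : b = (c ≫ inv (τ.app T.obj₁)) ≫ F.map T.mor₁ := by
      rw [← cancel_mono (τ.app T.obj₂), hc, Category.assoc, Category.assoc, τ.naturality, IsIso.inv_hom_id_assoc]
    rw [h2, Category.assoc, ← Functor.map_comp, h12, Functor.map_zero, comp_zero]
  have surj : ∀ {Z : B} (y : Z ⟶ G.obj T.obj₃), ∃ x, x ≫ τ.app T.obj₃ = y := fun {Z} y => by
    let z := (y ≫ G.map T.mor₃) ≫ inv (τ.app (T.obj₁⟦(1 : ℤ)⟧))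
    have h0 : z ≫ F.map (T.mor₁⟦(1 : ℤ)⟧') = 0 := by
      rw [← cancel_mono (τ.app (T.obj₂⟦(1 : ℤ)⟧)), Category.assoc, τ.naturality]
      simp only [z, Category.assoc, IsIso.inv_hom_id_assoc]
      rw [← Functor.map_comp, h34, Functor.map_zero, comp_zero, zero_comp]
    obtain ⟨x, hx⟩ := exF₁ z h0
    have h1 : (y - x ≫ τ.app T.obj₃) ≫ G.map T.mor₃ = 0 := by
      rw [Preadditive.sub_comp, Category.assoc, ← τ.naturality, ← Category.assoc x, ← hx]
      simp [z]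
    obtain ⟨b, hb⟩ := exG₃ _ h1
    refine ⟨x + (b ≫ inv (τ.app T.obj₂)) ≫ F.map T.mor₂, ?_⟩
    rw [Preadditive.add_comp, Category.assoc, Category.assoc, τ.naturality, IsIso.inv_hom_id_assoc, ← hb]
    abel
  obtain ⟨x, hx⟩ := surj (𝟙 (G.obj T.obj₃))
  refine ⟨x, ?_, hx⟩
  refine sub_eq_zero.1 (inj _ ?_)
  rw [Preadditive.sub_comp, Category.assoc, hx, Category.comp_id, Category.id_comp, sub_self]

end Five

/-- the base change morphism as a natural transformation -/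
noncomputable def βNat (w : g' ≫ f = f' ≫ g) :
    DCoh.Rpush f ⋙ DCoh.Lpull g ⟶ DCoh.Lpull g' ⋙ DCoh.Rpush f' where
  app E := β w E
  naturality _ _ u := β_natural w u

variable (g) in
/-- `Lg^*` commutes with shifts -/
@[instance_reducible]
noncomputable def commShiftLpull : (DCoh.Lpull g).CommShift ℤ :=
  letI := Gen.commShiftRpush g
  (adj g).leftAdjointCommShift ℤ

variable (g) in
theorem isTriangulated_Lpull : letI := commShiftLpull g; (DCoh.Lpull g).IsTriangulated := by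
  letI := Gen.commShiftRpush g
  haveI := Gen.isTriangulated_Rpush g
  letI := commShiftLpull g
  haveI : (adj g).CommShift ℤ := (adj g).commShift_of_rightAdjoint ℤ
  exact (adj g).isTriangulated_leftAdjoint

theorem P.third (w : g' ≫ f = f' ≫ g) (T : Triangle (DCoh.D X)) (hT : T ∈ distTriang _)
    (h₁ : P w T.obj₁) (h₂ : P w T.obj₂) : P w T.obj₃ := fun n => by
  letI := Gen.commShiftRpush f
  letI := Gen.commShiftRpush f'
  haveI := Gen.isTriangulated_Rpush f
  haveI := Gen.isTriangulated_Rpush f'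
  letI := commShiftLpull g
  letI := commShiftLpull g'
  haveI := isTriangulated_Lpull g
  haveI := isTriangulated_Lpull g'
  exact isIso_app₃ (DCoh.Rpush f ⋙ DCoh.Lpull g) (DCoh.Lpull g' ⋙ DCoh.Rpush f') (βNat w)
    ((Triangle.shiftFunctor _ n).obj T) (T.shift_distinguished hT n) (h₁ n) (h₂ n)
    ((h₁.shift w n).shift w 1).isIso ((h₂.shift w n).shift w 1).isIso

/-- derived pullback preserves coproducts -/
theorem isIso_sigmaComparison_Lpull {ι : Type u} (K : ι → DCoh.D S) [HasCoproduct K]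
    [HasCoproduct fun i => (DCoh.Lpull g).obj (K i)] : IsIso (sigmaComparison (DCoh.Lpull g) K) :=
  haveI : (DCoh.Lpull g).IsLeftAdjoint := ⟨_, ⟨adj g⟩⟩
  inferInstance

theorem isIso_β_coproduct [QuasiCompact f] [QuasiSeparated f] [QuasiCompact f'] [QuasiSeparated f']
    (w : g' ≫ f = f' ≫ g) {ι : Type u} (K : ι → DCoh.D X) (hK : ∀ i, DCoh.IsQCohD (K i))
    [HasCoproduct K] (h : ∀ i, IsIso (β w (K i))) : IsIso (β w (∐ K)) := by
  haveI := Gen.hasCoproducts_D X ι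
  haveI := Gen.hasCoproducts_D X' ι
  haveI := Gen.hasCoproducts_D S ι
  haveI := Gen.hasCoproducts_D S' ι
  haveI := isIso_sigmaComparison_Lpull (g := g) fun i => (DCoh.Rpush f).obj (K i)
  haveI := isIso_sigmaComparison_Lpull (g := g') K
  haveI := QCohColim.isIso_sigma_desc f K hK
  haveI := QCohColim.isIso_sigma_desc f' (fun i => (DCoh.Lpull g').obj (K i))
    fun i => Groth.Agent.S1054.result g' (K i) (hK i)
  let sΦ : (∐ fun i => (DCoh.Lpull g).obj ((DCoh.Rpush f).obj (K i))) ⟶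
      (DCoh.Lpull g).obj ((DCoh.Rpush f).obj (∐ K)) :=
    sigmaComparison (DCoh.Lpull g) (fun i => (DCoh.Rpush f).obj (K i)) ≫
      (DCoh.Lpull g).map (Sigma.desc fun i => (DCoh.Rpush f).map (Sigma.ι K i))
  let sΨ : (∐ fun i => (DCoh.Rpush f').obj ((DCoh.Lpull g').obj (K i))) ⟶
      (DCoh.Rpush f').obj ((DCoh.Lpull g').obj (∐ K)) :=
    Sigma.desc (fun i => (DCoh.Rpush f').map (Sigma.ι (fun i => (DCoh.Lpull g').obj (K i)) i)) ≫
      (DCoh.Rpush f').map (sigmaComparison (DCoh.Lpull g') K)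
  let m : (∐ fun i => (DCoh.Lpull g).obj ((DCoh.Rpush f).obj (K i))) ≅
      ∐ fun i => (DCoh.Rpush f').obj ((DCoh.Lpull g').obj (K i)) := Sigma.mapIso fun i => @asIso _ _ _ _ _ (h i)
  have hsq : sΦ ≫ β w (∐ K) = m.hom ≫ sΨ := Sigma.hom_ext _ _ fun i => by
    simp only [sΦ, sΨ, m, asIso_hom, Category.assoc, ι_comp_sigmaComparison_assoc, Sigma.ι_mapIso_hom_assoc,
      Sigma.ι_desc_assoc]
    rw [← Functor.map_comp_assoc, Sigma.ι_desc, ← Functor.map_comp, ι_comp_sigmaComparison]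
    exact β_natural w _
  haveI : IsIso (sΦ ≫ β w (∐ K)) := by rw [hsq]; infer_instance
  exact IsIso.of_isIso_comp_left sΦ _

theorem P.coproduct [QuasiCompact f] [QuasiSeparated f] [QuasiCompact f'] [QuasiSeparated f']
    (w : g' ≫ f = f' ≫ g) {ι : Type u} (K : ι → DCoh.D X) (hK : ∀ i, DCoh.IsQCohD (K i))
    [HasCoproduct K] (h : ∀ i, P w (K i)) : P w (∐ K) := fun n => by
  haveI := Gen.hasCoproducts_D X ι
  refine isIso_β_of_iso w ?_ (isIso_β_coproduct w (fun i => (K i)⟦n⟧) (fun i => Gen.isQCohD_shift (hK i) n) fun i => h i n)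
  exact asIso (sigmaComparison (shiftFunctor (DCoh.D X) n) K)

end Groth.L29.BC
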