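import Groth.Agent.L29.BC.AdjTensor
import Groth.Agent.L29.BC.SupportPush
import Groth.Agent.L29.BC.Closure
import Groth.Agent.L29.BC.Affine
import Groth.Agent.L29.BC.Localizing
import Groth.Agent.L29.BC.AdjCoprod
import Groth.Agent.L29.DCoh.Restrict

/-!
`a ≅ Lf^*(-) ⊗ a(O)` when `Rf_*` preserves perfect objects.
-/

set_option autoImplicit false
set_option backward.defeqAttrib.useBackward true
set_option backward.isDefEq.respectTransparency false
set_option backward.isDefEq.respectTransparency.types false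

universe u

open CategoryTheory CategoryTheory.Limits CategoryTheory.Pretriangulated AlgebraicGeometry CochainComplex

attribute [local instance] HasDerivedCategory.standard

namespace Groth.L29.BC.AdjTensor

open Groth.L00 Groth.L29.DC

variable {X Y : Scheme.{u}}

/-- tensor products vanish where a factor does -/
theorem isZero_res_LTensorCx (I : CochainComplex X.Modules ℤ) [DCoh.HasLTensorCx I] (W : X.Opens) {M : DCoh.D X}
    (h : IsZero ((resD W).obj M)) : IsZero ((resD W).obj ((DCoh.LTensorCx I).obj M)) := by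
  obtain ⟨P, q, hP, -, hq, -⟩ := KFlat.exists_resolution (DerivedCategory.Q.objPreimage M)
  haveI := (DerivedCategory.isIso_Q_map_iff_quasiIso _ q).2 hq
  let e := asIso (DerivedCategory.Q.map q) ≪≫ DerivedCategory.Q.objObjPreimageIso M
  haveI := ExtZero.preservesFiniteLimits W.ι
  haveI := LTExact.isIso_cnt I hP
  let fac := (Scheme.Modules.restrictFunctor W.ι).mapDerivedCategoryFactors
  have hp : ((ExtZero.rCx W.ι).obj P).Acyclic := fun i =>
    (HomologicalComplex.exactAt_iff_isZero_homology _ _).2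
      (((DerivedCategory.homologyFunctor _ i).map_isZero
        (h.of_iso ((fac.app P).symm ≪≫ (resD W).mapIso e))).of_iso
          ((DerivedCategory.homologyFunctorFactors _ i).app _).symm)
  have hT := (Eval.setting W.ι).tensor I hP hp
  have hz : IsZero (DerivedCategory.Q.obj ((ExtZero.rCx W.ι).obj ((KFlat.T I).obj P))) :=
    Gen.isZero_of_hd fun i => ((HomologicalComplex.exactAt_iff_isZero_homology _ _).1 (hT i)).of_iso
      ((DerivedCategory.homologyFunctorFactors _ i).app _)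
  exact hz.of_iso ((resD W).mapIso ((DCoh.LTensorCx I).mapIso e.symm ≪≫ asIso (LTExact.cnt I P)) ≪≫ fac.app _)

variable (f : X ⟶ Y) [DCoh.HasLpull f]

/-- `L` vanishes over opens where its argument does -/
theorem isZero_res_L (I : CochainComplex X.Modules ℤ) [DCoh.HasLTensorCx I]
    (hI : DCoh.IsQCohD (DerivedCategory.Q.obj I)) (V : Y.Opens) {K : DCoh.DQCoh Y}
    (h : IsZero ((resD V).obj K.obj)) : IsZero ((resD (f ⁻¹ᵁ V)).obj ((L f I hI).obj K).obj) := by
  refine isZero_res_LTensorCx I _ ?_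
  haveI := KFlat.hasLpull (f ∣_ V)
  haveI := RpushQC.hasRpush (f ∣_ V)
  haveI := RpushColim.additive_Rpush (f ∣_ V)
  haveI : (DCoh.Lpull (f ∣_ V)).Additive := (BC.adj (f ∣_ V)).left_adjoint_additive
  obtain ⟨e⟩ := nonempty_restrict_Lpull f V K.obj
  exact ((DCoh.Lpull (f ∣_ V)).map_isZero h).of_iso e

theorem preservesCoproducts_of_comparison {C D : Type*} [Category C] [Category D] {J : Type*} (F G : C ⥤ D)
    (τ : F ⟶ G) (K : J → C) [HasCoproduct K] [HasCoproductsOfShape J D]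
    [IsIso (sigmaComparison F K)] [IsIso (sigmaComparison G K)] (h : ∀ j, IsIso (τ.app (K j))) :
    IsIso (τ.app (∐ K)) := by
  let m : (∐ fun j => F.obj (K j)) ≅ ∐ fun j => G.obj (K j) := Sigma.mapIso fun j => @asIso _ _ _ _ _ (h j)
  have hsq : sigmaComparison F K ≫ τ.app (∐ K) = m.hom ≫ sigmaComparison G K := Sigma.hom_ext _ _ fun j => by
    simp only [m, asIso_hom, ι_comp_sigmaComparison_assoc, Sigma.ι_mapIso_hom_assoc, ι_comp_sigmaComparison]
    exact τ.naturality _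
  haveI : IsIso (sigmaComparison F K ≫ τ.app (∐ K)) := by rw [hsq]; infer_instance
  exact IsIso.of_isIso_comp_left (sigmaComparison F K) _

variable [CompactSpace X] [QuasiSeparatedSpace X] [CompactSpace Y] [QuasiSeparatedSpace Y]
  [QuasiCompact f] [QuasiSeparated f] [DCoh.HasRpush f] {hf : DCoh.RpushPreservesQCoh f}
  {a : DCoh.DQCoh Y ⥤ DCoh.DQCoh X} (adj : DCoh.RpushQ f hf ⊣ a)
  (hperf : ∀ P : DCoh.DQCoh X, DCoh.IsPerfect P.obj → DCoh.IsPerfect ((DCoh.RpushQ f hf).obj P).obj)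

include adj hperf in
set_option maxHeartbeats 1600000 in
/-- a natural map invertible at shifts of `O` is invertible -/
theorem isIso_comparison (I : CochainComplex X.Modules ℤ) [DCoh.HasLTensorCx I]
    (hI : DCoh.IsQCohD (DerivedCategory.Q.obj I)) (Ψ : L f I hI ⟶ a)
    (h0 : ∀ (n : ℤ) (K : DCoh.DQCoh Y), Nonempty (K.obj ≅ DerivedCategory.Q.obj ((RHom.O0 Y)⟦n⟧)) → IsIso (Ψ.app K))
    (K : DCoh.DQCoh Y) : IsIso (Ψ.app K) := by
  suffices h : IsIso ((DCoh.IsQCohD (X := X)).ι.map (Ψ.app K)) from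
    isIso_of_reflects_iso _ (DCoh.IsQCohD (X := X)).ι
  refine Gen.isIso_of_cover _ fun x => ?_
  obtain ⟨_, ⟨(V : Y.Opens), hV, rfl⟩, hxV, -⟩ := Y.isBasis_affineOpens.exists_subset_of_mem_open (Set.mem_univ (f x)) isOpen_univ
  haveI : IsAffine (V : Scheme.{u}) := hV
  let W := f ⁻¹ᵁ V
  refine ⟨W, hxV, ?_⟩
  let q := (DCoh.IsQCohD (X := X)).ι ⋙ resD W
  let F := L f I hI ⋙ q
  let G := a ⋙ q
  let τ : F ⟶ G := Functor.whiskerRight Ψ q
  change IsIso (τ.app K)
  -- exactness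
  letI := Gen.commShiftRpush f
  haveI := Gen.isTriangulated_Rpush f
  haveI := RpushColim.additive_Rpush f
  letI := adj.rightAdjointCommShift ℤ
  haveI : adj.CommShift ℤ := adj.commShift_of_leftAdjoint ℤ
  haveI : a.IsTriangulated := adj.isTriangulated_rightAdjoint
  letI := commShiftLpull f
  haveI := isTriangulated_Lpull f
  haveI := RHom.hasRSheafHom I
  haveI : (DCoh.LTensorCx I).Additive := by
    haveI : (DCoh.LTensorCx I).IsLeftAdjoint := ⟨_, ⟨DCoh.RSheafHomAdj I⟩⟩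
    haveI := preservesBinaryBiproducts_of_preservesBinaryCoproducts (DCoh.LTensorCx I)
    exact Functor.additive_of_preservesBinaryBiproducts _
  haveI : (L f I hI).Additive := ⟨fun {A B k k'} => by
    apply ObjectProperty.hom_ext
    exact (DCoh.Lpull f ⋙ DCoh.LTensorCx I).map_add (f := k.hom) (g := k'.hom)⟩
  haveI : F.Additive := inferInstance
  haveI : G.Additive := inferInstance
  have exG : ∀ T : Triangle (DCoh.DQCoh Y), T ∈ distTriang _ → ∀ {Z : DCoh.D (W : Scheme.{u})}, True →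
      ∀ z : Z ⟶ G.obj T.obj₂, z ≫ G.map T.mor₂ = 0 → ∃ b, z = b ≫ G.map T.mor₁ := fun T hT {Z} _ z hz =>
    Triangle.coyoneda_exact₂ _ (G.map_distinguished T hT) z hz
  have exF : ∀ T : Triangle (DCoh.DQCoh Y), T ∈ distTriang _ → ∀ {Z : DCoh.D (W : Scheme.{u})}, True →
      ∀ z : Z ⟶ F.obj T.obj₂, z ≫ F.map T.mor₂ = 0 → ∃ b, z = b ≫ F.map T.mor₁ := fun T hT {Z} _ z hz => by
    have hT' := ((DCoh.IsQCohD (X := Y)).ι ⋙ DCoh.Lpull f).map_distinguished T hT
    let T' := ((DCoh.IsQCohD (X := Y)).ι ⋙ DCoh.Lpull f).mapTriangle.obj T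
    obtain ⟨h, hd⟩ := LTExact.exists_distinguished I T'.invRotate (inv_rot_of_distTriang _ hT')
    have hd' := (resD W).map_distinguished _ hd
    obtain ⟨b, hb⟩ := Triangle.coyoneda_exact₂ _ hd' z (by
      have h3 : T'.invRotate.mor₃ = T'.mor₂ ≫ ((shiftEquiv (DCoh.D X) (1 : ℤ)).counitIso.inv.app T'.obj₃) := rfl
      change z ≫ (resD W).map ((DCoh.LTensorCx I).map T'.invRotate.mor₃) = 0
      rw [h3, Functor.map_comp, Functor.map_comp]
      exact (Category.assoc _ _ _).symm.trans ((congrArg (· ≫ _) hz).trans zero_comp))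
    exact ⟨b, hb⟩
  -- the class where `τ` is invertible at all shifts
  let P : DCoh.DQCoh Y → Prop := fun K => ∀ n : ℤ, IsIso (τ.app (K⟦n⟧))
  have hPiso : ∀ {A B : DCoh.DQCoh Y}, (A ≅ B) → P A → P B := fun e h n =>
    (NatTrans.isIso_app_iff_of_iso τ ((CategoryTheory.shiftFunctor _ n).mapIso e)).1 (h n)
  have hP0 : ∀ {A : DCoh.DQCoh Y}, P A → IsIso (τ.app A) := fun {A} h =>
    (NatTrans.isIso_app_iff_of_iso τ ((shiftFunctorZero (DCoh.DQCoh Y) ℤ).app A)).1 (h 0)
  have hPsh : ∀ {A : DCoh.DQCoh Y}, P A → ∀ k : ℤ, P (A⟦k⟧) := fun {A} h k n =>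
    (NatTrans.isIso_app_iff_of_iso τ ((shiftFunctorAdd (DCoh.DQCoh Y) k n).app A)).1 (h (k + n))
  have hP3 : ∀ T : Triangle (DCoh.DQCoh Y), T ∈ distTriang _ → P T.obj₁ → P T.obj₂ → P T.obj₃ :=
    fun T hT h₁ h₂ n => BC.isIso_app₃' F G τ (fun _ => True) (fun _ => trivial) (fun _ => trivial) exF exG
      ((Triangle.shiftFunctor _ n).obj T) (T.shift_distinguished hT n) (h₁ n) (h₂ n)
      (hP0 (hPsh (hPsh h₁ n) 1)) (hP0 (hPsh (hPsh h₂ n) 1))
  -- objects vanishing on `V`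
  have hH : ∀ (Q : DCoh.DQCoh Y) (R : DCoh.D X), DCoh.IsPerfect R → ∀ (E : CochainComplex Y.Modules ℤ)
      [DCoh.HasLTensorCx E] [DCoh.HasRSheafHom E], Nonempty (DCoh.toD Y E ≅ (DCoh.Rpush f).obj R) →
        DCoh.IsQCohD ((DCoh.RSheafHom E).obj Q.obj) := fun Q R hR E _ _ ⟨e⟩ =>
    SupportAdj.qcoh_RHom_of_perfect (isPerfect_of_iso e.symm (hperf ⟨R, PCQCoh.isQCohD_of_perfect hR⟩ hR)) Q.property
  have hPz : ∀ C : DCoh.DQCoh Y, IsZero ((resD V).obj C.obj) → P C := fun C hC n => by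
    have hCn : IsZero ((resD V).obj (C⟦n⟧).obj) :=
      ((CategoryTheory.shiftFunctor _ n).map_isZero hC).of_iso
        ((resD V).mapIso (((DCoh.IsQCohD (X := Y)).ι.commShiftIso n).app C) ≪≫ ((resD V).commShiftIso n).app C.obj)
    exact isIso_of_source_target_iso_zero _ (isZero_res_L f I hI V hCn).isoZero
      (SupportAdj.isZero_res_adjoint f V hV.isCompact hf a adj (C⟦n⟧) (hH _) hCn).isoZero
  -- pushing forward from `V`
  haveI : QuasiCompact V.ι := by
    haveI : CompactSpace (V : Scheme.{u}) := isCompact_iff_compactSpace.1 hV.isCompact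
    infer_instance
  let pu : ∀ M : DCoh.D (V : Scheme.{u}), DCoh.IsQCohD M → DCoh.DQCoh Y := fun M hM =>
    ⟨(Gen.push V).obj M, Gen.isQCohD_push hV.isCompact hM⟩
  have hη : ∀ A : DCoh.DQCoh Y, (P A → P (pu _ (isQCohD_restrictD V.ι A.property))) ∧
      (P (pu _ (isQCohD_restrictD V.ι A.property)) → P A) := fun A => by
    let η : A ⟶ pu _ (isQCohD_restrictD V.ι A.property) := ObjectProperty.homMk ((Gen.adj V).unit.app A.obj)
    obtain ⟨C, c, d, hT⟩ := distinguished_cocone_triangle η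
    have hC : P C := hPz C (by
      have h := ((DCoh.IsQCohD (X := Y)).ι ⋙ resD V).map_distinguished _ hT
      exact (Triangle.isZero₃_iff_isIso₁ _ h).2
        (show IsIso ((resD V).map ((Gen.adj V).unit.app A.obj)) from inferInstance))
    refine ⟨fun hA => ?_, fun hA => ?_⟩
    · exact hP3 _ (inv_rot_of_distTriang _ hT) (hPsh hC (-1)) hA
    · have h := hP3 _ (rot_of_distTriang _ hT) hA hC
      exact hPiso ((shiftFunctorCompIsoId (DCoh.DQCoh Y) (1 : ℤ) (-1) (by omega)).app A) (hPsh h (-1))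
  -- coproducts
  haveI : ∀ J : Type u, PreservesColimitsOfShape (Discrete J) G := fun J => by
    haveI : (DCoh.RpushQ f hf).Additive := inferInstance
    haveI := AdjCoprod.preservesCoproducts (DCoh.RpushQ f hf) hperf a adj J
    haveI := Gen.preservesCoproducts_ι (X := X) J
    haveI : (resD W).IsLeftAdjoint := ⟨_, ⟨Gen.adj W⟩⟩
    haveI : PreservesColimitsOfShape (Discrete J) q := comp_preservesColimitsOfShape _ _
    exact comp_preservesColimitsOfShape _ _
  haveI : ∀ J : Type u, PreservesColimitsOfShape (Discrete J) F := fun J => by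
    haveI := Gen.preservesCoproducts_ι (X := Y) J
    haveI : (DCoh.Lpull f).IsLeftAdjoint := ⟨_, ⟨BC.adj f⟩⟩
    haveI : (DCoh.LTensorCx I).IsLeftAdjoint := ⟨_, ⟨DCoh.RSheafHomAdj I⟩⟩
    haveI : (resD W).IsLeftAdjoint := ⟨_, ⟨Gen.adj W⟩⟩
    let F' := (DCoh.IsQCohD (X := Y)).ι ⋙ DCoh.Lpull f ⋙ DCoh.LTensorCx I ⋙ resD W
    haveI : PreservesColimitsOfShape (Discrete J) F' := inferInstance
    exact preservesColimitsOfShape_of_natIso (Iso.refl F' : F' ≅ F)
  have hPsum : ∀ {J : Type u} (C : J → DCoh.DQCoh Y) [HasCoproduct C], (∀ j, P (C j)) → P (∐ C) :=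
    fun {J} C _ h n => by
      haveI := Gen.hasCoproducts_DQ Y J
      haveI := Gen.hasCoproducts_D (W : Scheme.{u}) J
      refine (NatTrans.isIso_app_iff_of_iso τ
        (asIso (sigmaComparison (CategoryTheory.shiftFunctor (DCoh.DQCoh Y) n) C))).1 ?_
      exact preservesCoproducts_of_comparison F G τ _ fun j => h j n
  -- the localizing argument on `V`
  suffices hloc : ∀ (M : DCoh.D (V : Scheme.{u})) (hM : DCoh.IsQCohD M), P (pu M hM) from
    hP0 ((hη K).2 (hloc _ (isQCohD_restrictD V.ι K.property)))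
  intro M hM
  obtain ⟨Gn, hG, hgen, ⟨eG⟩⟩ := exists_unit_generator (V : Scheme.{u})
  haveI := Gen.locallySmall_D (V : Scheme.{u})
  haveI : HasCoproducts.{u} (DCoh.D (V : Scheme.{u})) := Gen.hasCoproducts_D _
  haveI : HasColimitsOfShape (Discrete ℕ) (DCoh.D (V : Scheme.{u})) :=
    hasColimitsOfShape_of_equivalence (Discrete.equivalence (Equiv.ulift.{u} : ULift.{u} ℕ ≃ ℕ))
  haveI : ∀ (Z : DCoh.D (V : Scheme.{u})) (n : ℤ), Small.{u} (Gn⟦n⟧ ⟶ Z) := fun Z n => inferInstance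
  have hGq := PCQCoh.isQCohD_of_perfect hG
  letI := Gen.commShiftRpush V.ι
  haveI := Gen.isTriangulated_Rpush V.ι
  refine localizing_top (fun M => ∀ hM : DCoh.IsQCohD M, P (pu M hM)) (DCoh.IsQCohD (X := (V : Scheme.{u})))
    (fun e h hB => hPiso (ObjectProperty.isoMk _ ((Gen.push V).mapIso e)) (h (isQCohD_of_iso e.symm hB)))
    (fun n hn => ?_) (fun {ι} C hC h hS => ?_)
    (fun T hT s₁ s₂ h₁ h₂ hS => ?_)
    (fun n => Gen.isQCohD_shift hGq n) (fun {ι} C hC => QCohColim.isQCohD_coproduct C hC) (fun C hC => ?_)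
    (fun T hT h₁ h₂ => Gen.isQCohD_third T hT h₁ h₂) (fun n => Gen.cpt_of_perfect (perfect_shift hG n))
    hgen hM hM
  · have hOn : P (On Y n) := fun k => by
      have := h0 (n + k) ((On Y n)⟦k⟧) ⟨((DCoh.IsQCohD (X := Y)).ι.commShiftIso k).app _ ≪≫
        ((DerivedCategory.Q.commShiftIso k).app _).symm ≪≫
          DerivedCategory.Q.mapIso ((shiftFunctorAdd (CochainComplex Y.Modules ℤ) n k).app _).symm⟩
      exact inferInstanceAs (IsIso (q.map (Ψ.app ((On Y n)⟦k⟧))))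
    refine hPiso (ObjectProperty.isoMk _ ((Gen.push V).mapIso ?_)) ((hη (On Y n)).1 hOn)
    let e0 : DerivedCategory.Q.obj (RHom.O0 Y) ≅ (DerivedCategory.singleFunctor Y.Modules 0).obj (Coh.structureModule Y) :=
      (((SingleFunctors.evaluation _ _ 0).mapIso (DerivedCategory.singleFunctorsPostcompQIso Y.Modules)).app _).symm
    exact (resD V).mapIso ((DerivedCategory.Q.commShiftIso n).app _) ≪≫ ((resD V).commShiftIso n).app _ ≪≫
      (CategoryTheory.shiftFunctor _ n).mapIso ((resD V).mapIso e0 ≪≫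
        ((Scheme.Modules.restrictFunctor V.ι).mapDerivedCategorySingleFunctor 0).app _ ≪≫
        (DerivedCategory.singleFunctor _ 0).mapIso (Scheme.Modules.restrictUnitIso V.ι) ≪≫ eG.symm)
  · haveI := Gen.hasCoproducts_D Y ι
    haveI := Gen.hasCoproducts_DQ Y ι
    haveI := Gen.preservesCoproducts_ι (X := Y) ι
    haveI := QCohColim.isIso_sigma_desc V.ι C hC
    let eS : (∐ fun i => pu (C i) (hC i)).obj ≅ (pu (∐ C) hS).obj :=
      PreservesCoproduct.iso (DCoh.IsQCohD (X := Y)).ι (fun i => pu (C i) (hC i)) ≪≫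
        (asIso (Sigma.desc fun i => (DCoh.Rpush V.ι).map (Sigma.ι C i)) :
          (∐ fun i => (DCoh.Rpush V.ι).obj (C i)) ≅ (DCoh.Rpush V.ι).obj (∐ C))
    exact hPiso (ObjectProperty.isoMk _ eS) (hPsum _ fun i => h i (hC i))
  · let a₁ : pu _ s₁ ⟶ pu _ s₂ := ObjectProperty.homMk ((Gen.push V).map T.mor₁)
    obtain ⟨C, c, d, hC⟩ := distinguished_cocone_triangle a₁
    let θ := isoTriangleOfIso₁₂ _ _ ((DCoh.IsQCohD (X := Y)).ι.map_distinguished _ hC)
      ((Gen.push V).map_distinguished T hT) (Iso.refl _) (Iso.refl _)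
      ((Category.comp_id _).trans (Category.id_comp _).symm)
    exact hPiso (ObjectProperty.isoMk _ (Triangle.π₃.mapIso θ)) (hP3 _ hC (h₁ s₁) (h₂ s₂))
  · refine isQCohD_of_iso ?_ (QCohColim.isQCohD_coproduct (fun n : ULift.{u} ℕ => C n.down) fun n => hC n.down)
    exact Sigma.whiskerEquiv (f := fun n : ULift.{u} ℕ => C n.down) (g := C) Equiv.ulift.{u} fun n => Iso.refl _

include adj hperf in
/-- `a ≅ Lf^*(-) ⊗ a(O)` -/
theorem nonempty_iso (O : DCoh.DQCoh Y) (hO : Nonempty (O.obj ≅ DCoh.inD Y (Coh.structureModule Y)))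
    (E : CochainComplex X.Modules ℤ) (hE : Nonempty (DCoh.toD X E ≅ (a.obj O).obj)) [DCoh.HasLTensorCx E] :
    Nonempty (a ⋙ ObjectProperty.ι _ ≅ ObjectProperty.ι _ ⋙ DCoh.Lpull f ⋙ DCoh.LTensorCx E) := by
  obtain ⟨I, _, hI, Ψ, ⟨eI⟩, h0⟩ := exists_comparison f adj
  haveI := fun K => isIso_comparison f adj hperf I hI Ψ h0 K
  haveI : IsIso Ψ := NatIso.isIso_of_isIso_app Ψ
  obtain ⟨eO⟩ := hO
  obtain ⟨eE⟩ := hE
  let e0 : O.obj ≅ (O₀ Y).obj := eO ≪≫
    ((SingleFunctors.evaluation _ _ 0).mapIso (DerivedCategory.singleFunctorsPostcompQIso Y.Modules)).app _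
  let eIE : DerivedCategory.Q.obj I ≅ DerivedCategory.Q.obj E :=
    eI ≪≫ (DCoh.IsQCohD (X := X)).ι.mapIso (a.mapIso (ObjectProperty.isoMk _ e0).symm) ≪≫ eE.symm
  obtain ⟨c⟩ := ProjQC.nonempty_LTensorCx_congr eIE
  exact ⟨Functor.isoWhiskerRight (asIso Ψ).symm _ ≪≫
    Functor.isoWhiskerLeft ((DCoh.IsQCohD (X := Y)).ι ⋙ DCoh.Lpull f) c⟩

end Groth.L29.BC.AdjTensor
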