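import Groth.Agent.L29.BC.TorBC
import Groth.Agent.L29.BC.Instances
import Groth.Agent.L29.DCoh.Gen.Loc

/-!
Tor-independent base change for derived direct images.
-/

set_option autoImplicit false
set_option backward.defeqAttrib.useBackward true
set_option backward.isDefEq.respectTransparency false
set_option backward.isDefEq.respectTransparency.types false

universe u

open CategoryTheory CategoryTheory.Limits CategoryTheory.Pretriangulated AlgebraicGeometry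

attribute [local instance] HasDerivedCategory.standard

namespace Groth.L29.BC

open Groth.L00 Groth.L29.DC

variable {X X' S S' : Scheme.{u}} {f : X ⟶ S} {g : S' ⟶ S} {g' : X' ⟶ X} {f' : X' ⟶ S'}

/-- `BC_spec` for a morphism given up to equality -/
theorem BC_spec' {R T B : CommRingCat.{u}} (φ : R ⟶ T) (ψ : R ⟶ B) {a : Spec B ⟶ Spec R} (ha : a = Spec.map ψ)
    {Z : Scheme.{u}} {a' : Z ⟶ Spec B} {b' : Z ⟶ Spec T} (hc : IsPullback a' b' a (Spec.map φ))
    [DCoh.HasRpush a] [DCoh.HasRpush (Spec.map φ)] [DCoh.HasRpush b'] [DCoh.HasRpush a']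
    [DCoh.HasLpull (Spec.map φ)] [DCoh.HasLpull a']
    (hTor : ∀ k : ℕ, IsZero (((CategoryTheory.Tor (ModuleCat.{u} R) (k + 1)).obj
      ((ModuleCat.restrictScalars φ.hom).obj (ModuleCat.of T T))).obj
        ((ModuleCat.restrictScalars ψ.hom).obj (ModuleCat.of B B)))) : BC hc.w := by
  subst ha
  exact BC_spec φ ψ hc hTor

variable [DCoh.HasRpush f] [DCoh.HasRpush g] [DCoh.HasRpush f'] [DCoh.HasRpush g'] [DCoh.HasLpull g] [DCoh.HasLpull g']

/-- base change for flat morphisms from separated schemes, along any morphism -/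
theorem BC_flat_source (hc : IsPullback g' f' f g) [Flat f] [QuasiCompact f] [QuasiSeparated f] [X.IsSeparated] :
    BC hc.w :=
  BC_of_local hc fun W W' hW hW' h h' hc₀ => by
    intros
    haveI : IsAffine (W : Scheme.{u}) := hW
    haveI : QuasiCompact (f ∣_ W) := IsZariskiLocalAtTarget.restrict ‹QuasiCompact f› W
    haveI : QuasiSeparated (f ∣_ W) := IsZariskiLocalAtTarget.restrict ‹QuasiSeparated f› W
    haveI : Flat (f ∣_ W) := IsZariskiLocalAtTarget.restrict ‹Flat f› W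
    haveI : QuasiCompact (f' ∣_ W') := MorphismProperty.of_isPullback hc₀ inferInstance
    haveI : QuasiSeparated (f' ∣_ W') := MorphismProperty.of_isPullback hc₀ inferInstance
    haveI : (f ⁻¹ᵁ W : Scheme.{u}).IsSeparated := ⟨by
      rw [← terminal.comp_from (f ⁻¹ᵁ W).ι]; infer_instance⟩
    intro E hE
    exact (P_of_flat hc₀ hE).isIso

/-- the restriction of a morphism over an affine chart -/
theorem isPullback_chart {X S : Scheme.{u}} (f : X ⟶ S) {W : S.Opens} (hW : IsAffineOpen W) :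
    IsPullback (f ⁻¹ᵁ W).ι (f ∣_ W ≫ hW.isoSpec.hom) f hW.fromSpec :=
  IsPullback.of_iso (isPullback_morphismRestrict f W).flip (Iso.refl _) (Iso.refl _) hW.isoSpec (Iso.refl _)
    (by simp) (by simp) (by simp) (by simp)

/-- base change is local on both bases, spectrum charts -/
theorem BC_of_local_spec (hc : IsPullback g' f' f g)
    (hloc : ∀ (W : S.Opens) (W' : S'.Opens) (hW : IsAffineOpen W) (hW' : IsAffineOpen W') (h : W' ≤ g ⁻¹ᵁ W)
      (h' : f' ⁻¹ᵁ W' ≤ g' ⁻¹ᵁ (f ⁻¹ᵁ W))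
      (hc₀ : IsPullback (g'.resLE (f ⁻¹ᵁ W) (f' ⁻¹ᵁ W') h') (f' ∣_ W' ≫ hW'.isoSpec.hom)
        (f ∣_ W ≫ hW.isoSpec.hom) (Spec.map (g.appLE W W' h)))
      [DCoh.HasRpush (f ∣_ W ≫ hW.isoSpec.hom)] [DCoh.HasRpush (Spec.map (g.appLE W W' h))]
      [DCoh.HasRpush (f' ∣_ W' ≫ hW'.isoSpec.hom)]
      [DCoh.HasRpush (g'.resLE (f ⁻¹ᵁ W) (f' ⁻¹ᵁ W') h')] [DCoh.HasLpull (Spec.map (g.appLE W W' h))]
      [DCoh.HasLpull (g'.resLE (f ⁻¹ᵁ W) (f' ⁻¹ᵁ W') h')], BC hc₀.w) :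
    BC hc.w := fun E hE => by
  refine isIso_of_Lpull_cover _ fun s => ?_
  obtain ⟨_, ⟨(W : S.Opens), hW, rfl⟩, hsW, -⟩ := S.isBasis_affineOpens.exists_subset_of_mem_open (Set.mem_univ (g s)) isOpen_univ
  obtain ⟨_, ⟨(W' : S'.Opens), hW', rfl⟩, hsW', hle⟩ :=
    S'.isBasis_affineOpens.exists_subset_of_mem_open (show s ∈ g ⁻¹ᵁ W from hsW) (g ⁻¹ᵁ W).2
  have hk := isPullback_chart f' hW'
  have hi := isPullback_chart f hW
  have h' : f' ⁻¹ᵁ W' ≤ g' ⁻¹ᵁ (f ⁻¹ᵁ W) := fun x hx => by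
    show f (g' x) ∈ W
    rw [← Scheme.Hom.comp_apply, hc.w, Scheme.Hom.comp_apply]
    exact hle hx
  let g₀ := Spec.map (g.appLE W W' hle)
  let g₀' := g'.resLE (f ⁻¹ᵁ W) (f' ⁻¹ᵁ W') h'
  have eg : g₀ ≫ hW.fromSpec = hW'.fromSpec ≫ g := IsAffineOpen.SpecMap_appLE_fromSpec g hW hW' hle
  have eg' : g₀' ≫ (f ⁻¹ᵁ W).ι = (f' ⁻¹ᵁ W').ι ≫ g' := Scheme.Hom.resLE_comp_ι _ _
  have htot : IsPullback (g₀' ≫ (f ⁻¹ᵁ W).ι) (f' ∣_ W' ≫ hW'.isoSpec.hom) f (g₀ ≫ hW.fromSpec) := by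
    rw [eg, eg']
    exact hk.paste_horiz hc
  have hc₀ : IsPullback g₀' (f' ∣_ W' ≫ hW'.isoSpec.hom) (f ∣_ W ≫ hW.isoSpec.hom) g₀ :=
    IsPullback.of_right htot (by
      rw [← cancel_mono hW.fromSpec]
      simp only [Category.assoc, IsAffineOpen.isoSpec_hom_fromSpec, morphismRestrict_ι, eg,
        IsAffineOpen.isoSpec_hom_fromSpec_assoc]
      rw [reassoc_of% eg', hc.w, morphismRestrict_ι_assoc]) hi
  haveI := fun {A B : Scheme.{u}} (h : A ⟶ B) => RpushQC.hasRpush h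
  haveI := fun {A B : Scheme.{u}} (h : A ⟶ B) => KFlat.hasLpull h
  have h₀ : IsIso ((DCoh.Lpull g₀).map (β hi.w E) ≫ β hc₀.w ((DCoh.Lpull (f ⁻¹ᵁ W).ι).obj E)) := by
    haveI : IsIso (β hi.w E) := isIso_β_open hi E
    haveI := hloc W W' hW hW' hle h' hc₀ _ (Groth.Agent.S1054.result (f ⁻¹ᵁ W).ι E hE)
    infer_instance
  have ht : IsIso (β (hk.paste_horiz hc).w E) :=
    isIso_β_congr eg eg' htot.w _ E ((isIso_β_vert hi.w hc₀.w htot.w E).2 h₀)
  haveI := (isIso_β_vert hc.w hk.w (hk.paste_horiz hc).w E).1 ht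
  haveI : IsIso (β hk.w ((DCoh.Lpull g').obj E)) := isIso_β_open hk _
  have hik : IsIso ((DCoh.Lpull hW'.fromSpec).map (β hc.w E)) :=
    IsIso.of_isIso_comp_right _ (β hk.w ((DCoh.Lpull g').obj E))
  -- from the chart to the open
  refine ⟨W', inferInstance, hsW', ?_⟩
  obtain ⟨C, a, d, hT⟩ := distinguished_cocone_triangle (β hc.w E)
  letI := commShiftLpull hW'.fromSpec
  haveI := isTriangulated_Lpull hW'.fromSpec
  have hz : IsZero ((DCoh.Lpull hW'.fromSpec).obj C) :=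
    (Triangle.isZero₃_iff_isIso₁ _ ((DCoh.Lpull hW'.fromSpec).map_distinguished _ hT)).2 hik
  obtain ⟨e₁⟩ := nonempty_Lpull_iso_restrictD hW'.fromSpec C
  obtain ⟨e₂⟩ := nonempty_Lpull_iso_restrictD W'.ι C
  letI := commShiftLpull W'.ι
  haveI := isTriangulated_Lpull W'.ι
  refine (Triangle.isZero₃_iff_isIso₁ _ ((DCoh.Lpull W'.ι).map_distinguished _ hT)).1 ?_
  exact (((DCoh.restrictD hW'.isoSpec.hom).map_isZero (hz.of_iso e₁.symm)).of_iso
    ((resTransD hW'.fromSpec hW'.isoSpec.hom W'.ι hW'.isoSpec_hom_fromSpec).app C).symm).of_iso e₂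

set_option maxHeartbeats 800000 in
/-- Tor-independent base change -/
theorem BC_of_torIndependent (hc : IsPullback g' f' f g) [QuasiCompact f] [QuasiSeparated f]
    (htor : ∀ (U : S.Opens), IsAffineOpen U → ∀ (U' : S'.Opens), IsAffineOpen U' → ∀ (hU' : U' ≤ g ⁻¹ᵁ U)
      (V : X.Opens), IsAffineOpen V → ∀ (hV : V ≤ f ⁻¹ᵁ U) (i : ℕ), 0 < i →
      Subsingleton (@DRing.Tor Γ(S, U) _ i Γ(S', U') Γ(X, V) _ (g.appLE U U' hU').hom.toModule _
        (f.appLE U V hV).hom.toModule)) : BC hc.w :=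
  BC_of_local_spec hc fun W W' hW hW' h h' hc₀ => by
    intros
    haveI : QuasiCompact (f ∣_ W) := IsZariskiLocalAtTarget.restrict ‹QuasiCompact f› W
    haveI : QuasiSeparated (f ∣_ W) := IsZariskiLocalAtTarget.restrict ‹QuasiSeparated f› W
    haveI : QuasiCompact (f' ∣_ W' ≫ hW'.isoSpec.hom) := MorphismProperty.of_isPullback hc₀ inferInstance
    haveI : QuasiSeparated (f' ∣_ W' ≫ hW'.isoSpec.hom) := MorphismProperty.of_isPullback hc₀ inferInstance
    haveI := quasiSeparatedSpace_of_quasiSeparated (f ∣_ W ≫ hW.isoSpec.hom)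
    refine BC_of_push hc₀ fun V hV K hK n => ?_
    haveI : IsAffine (V : Scheme.{u}) := hV
    haveI := fun {A B : Scheme.{u}} (h : A ⟶ B) => RpushQC.hasRpush h
    haveI := fun {A B : Scheme.{u}} (h : A ⟶ B) => KFlat.hasLpull h
    let V' : X.Opens := (f ⁻¹ᵁ W).ι ''ᵁ V
    have hV' : IsAffineOpen V' := hV.image_of_isOpenImmersion _
    have hV'W : V' ≤ f ⁻¹ᵁ W := by
      rintro x ⟨y, -, rfl⟩
      exact y.2
    let j : Spec Γ(X, V') ⟶ (f ⁻¹ᵁ W : Scheme.{u}) := IsOpenImmersion.lift (f ⁻¹ᵁ W).ι hV'.fromSpec (by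
      rw [hV'.range_fromSpec, Scheme.Opens.range_ι]; exact hV'W)
    have hj : j ≫ (f ⁻¹ᵁ W).ι = hV'.fromSpec := IsOpenImmersion.lift_fac _ _ _
    haveI : IsOpenImmersion j :=
      haveI : IsOpenImmersion (j ≫ (f ⁻¹ᵁ W).ι) := by rw [hj]; infer_instance
      IsOpenImmersion.of_comp j (f ⁻¹ᵁ W).ι
    have hjr : Set.range j = (V : Set (f ⁻¹ᵁ W : Scheme.{u})) := by
      refine ((f ⁻¹ᵁ W).ι.isOpenEmbedding.injective.image_injective) ?_
      rw [← Set.range_comp, ← TopCat.coe_comp, ← Scheme.Hom.comp_base, hj, hV'.range_fromSpec]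
      rfl
    let σ : Spec Γ(X, V') ⟶ (V : Scheme.{u}) := IsOpenImmersion.lift V.ι j (by
      rw [hjr, Scheme.Opens.range_ι])
    have hσ : σ ≫ V.ι = j := IsOpenImmersion.lift_fac _ _ _
    haveI : IsOpenImmersion σ :=
      haveI : IsOpenImmersion (σ ≫ V.ι) := by rw [hσ]; infer_instance
      IsOpenImmersion.of_comp σ V.ι
    haveI : Surjective σ := ⟨fun v => by
      obtain ⟨z, hz⟩ : V.ι v ∈ Set.range j := by rw [hjr]; exact v.2
      refine ⟨z, V.ι.isOpenEmbedding.injective ?_⟩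
      rw [← hz, ← hσ]; rfl⟩
    haveI : IsIso σ := by
      haveI : Epi σ.base := (TopCat.epi_iff_surjective _).2 σ.surjective
      exact IsOpenImmersion.isIso σ
    haveI : QuasiCompact j := QuasiCompact.of_comp j (f ∣_ W ≫ hW.isoSpec.hom)
    have hψ : j ≫ f ∣_ W ≫ hW.isoSpec.hom = Spec.map (f.appLE W V' hV'W) := by
      rw [← cancel_mono hW.fromSpec, IsAffineOpen.SpecMap_appLE_fromSpec f hW hV' hV'W, ← hj]
      simp [morphismRestrict_ι]
    let K' := (DCoh.restrictD σ).obj (K⟦n⟧)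
    have hK' : DCoh.IsQCohD K' := isQCohD_restrictD σ (Gen.isQCohD_shift hK n)
    let hp := (IsPullback.of_hasPullback j (g'.resLE (f ⁻¹ᵁ W) (f' ⁻¹ᵁ W') h')).flip.flip
    have h₂ : IsIso (β hp.w K') := BC_flat_source hp _ hK'
    have ht : IsIso (β (hp.paste_vert hc₀).w K') := by
      refine BC_spec' (g.appLE W W' h) (f.appLE W V' hV'W) hψ (hp.paste_vert hc₀) (fun k => ?_) _ hK'
      exact @ModuleCat.isZero_of_subsingleton _ _ _ (htor W hW W' hW' h V' hV' hV'W (k + 1) k.succ_pos)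
    haveI := (isIso_β_horiz hc₀.w hp.w (hp.paste_vert hc₀).w K').1 ht
    haveI := h₂
    have h₁ : IsIso (β hc₀.w ((DCoh.Rpush j).obj K')) :=
      IsIso.of_isIso_comp_right _ ((DCoh.Rpush (f' ∣_ W' ≫ hW'.isoSpec.hom)).map (β hp.w K'))
    refine isIso_β_of_iso hc₀.w ?_ h₁
    haveI := Gen.isIso_unit_of_surjective σ σ.surjective
    letI := Gen.commShiftRpush V.ι
    exact ((cR hσ).app K').symm ≪≫
      (DCoh.Rpush V.ι).mapIso (asIso ((Cpt.restrictRpushAdj σ).unit.app (K⟦n⟧))).symm ≪≫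
      ((DCoh.Rpush V.ι).commShiftIso n).app K

end Groth.L29.BC
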