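import Groth.Agent.L29.BC.AdjCoprod
import Groth.Agent.L29.DCoh.Cpt.Compact

/-!
If the right adjoint of `Rf_*` preserves coproducts then `Rf_*` preserves perfect objects.
-/

set_option autoImplicit false
set_option backward.defeqAttrib.useBackward true
set_option backward.isDefEq.respectTransparency false
set_option backward.isDefEq.respectTransparency.types false

universe u

open CategoryTheory CategoryTheory.Limits AlgebraicGeometry

attribute [local instance] HasDerivedCategory.standard

namespace Groth.L29.BC.AdjCoprod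

open Groth.L29.DC Groth.L29.Thick

variable {X Y : Scheme.{u}}

set_option maxHeartbeats 800000 in
/-- the converse of `preservesCoproducts` -/
theorem perfect_of_preservesCoproducts [CompactSpace X] [QuasiSeparatedSpace X] [QuasiSeparatedSpace Y]
    (F : DCoh.DQCoh X ⥤ DCoh.DQCoh Y) (a : DCoh.DQCoh Y ⥤ DCoh.DQCoh X) (adj : F ⊣ a) [F.Additive]
    (hcop : ∀ J : Type u, PreservesColimitsOfShape (Discrete J) a)
    (P : DCoh.DQCoh X) (hP : DCoh.IsPerfect P.obj) : DCoh.IsPerfect (F.obj P).obj := by
  classical
  refine Cpt.isPerfect_of_compact (F.obj P).property fun J M _ hM => ?_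
  refine ⟨(injective_iff_map_eq_zero _).2 fun x hx => DFinsupp.ext fun i => ?_, fun φ => ?_⟩
  · let π : (∐ M) ⟶ M i := Sigma.desc fun j => if h : j = i then eqToHom (congrArg M h) else 0
    have h2 : ∀ y : DirectSum J (fun j => (F.obj P).obj ⟶ M j),
        PerfAux.homSumToHomCoprod (F.obj P).obj M y ≫ π = y i := fun y => by
      induction y using DirectSum.induction_on with
      | zero => simp
      | of j g =>
        simp only [PerfAux.homSumToHomCoprod, DirectSum.toAddMonoid_of, Preadditive.rightComp,
          AddMonoidHom.mk'_apply, Category.assoc, π, Sigma.ι_desc]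
        by_cases h : j = i
        · subst h; simp [DirectSum.of_eq_same]
        · simp [h, DirectSum.of_eq_of_ne _ _ _ (fun e => h e.symm)]
      | add y z hy hz => simp [Preadditive.add_comp, hy, hz]
    have := h2 x
    rw [hx, zero_comp] at this
    exact this.symm
  · haveI := Gen.hasCoproducts_DQ Y J
    haveI := Gen.hasCoproducts_DQ X J
    haveI := Gen.hasCoproducts_D Y J
    haveI := Gen.hasCoproducts_D X J
    haveI := Gen.preservesCoproducts_ι (X := Y) J
    haveI := Gen.preservesCoproducts_ι (X := X) J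
    haveI := hcop J
    let M' : J → DCoh.DQCoh Y := fun j => ⟨M j, hM j⟩
    let cY := PreservesCoproduct.iso (DCoh.IsQCohD (X := Y)).ι M'
    let ψ : F.obj P ⟶ ∐ M' := ObjectProperty.homMk (φ ≫ cY.inv)
    let ca := PreservesCoproduct.iso a M'
    let cX := PreservesCoproduct.iso (DCoh.IsQCohD (X := X)).ι fun j => a.obj (M' j)
    obtain ⟨s, g, hg⟩ := Gen.cpt_of_perfect hP (fun j => (a.obj (M' j)).obj) (fun j => (a.obj (M' j)).property)
      ((adj.homEquiv _ _ ψ ≫ ca.hom).hom ≫ cX.hom)
    let g' : ∀ j, F.obj P ⟶ M' j := fun j => (adj.homEquiv P (M' j)).symm (ObjectProperty.homMk (g j))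
    have h1 : adj.homEquiv _ _ ψ ≫ ca.hom =
        ∑ j ∈ s, (ObjectProperty.homMk (g j) : P ⟶ a.obj (M' j)) ≫ Sigma.ι (fun j => a.obj (M' j)) j := by
      refine (DCoh.IsQCohD (X := X)).ι.map_injective ?_
      rw [Functor.map_sum, ← cancel_mono cX.hom]
      refine hg.trans ?_
      rw [Preadditive.sum_comp]
      refine Finset.sum_congr rfl fun j _ => ?_
      rw [Functor.map_comp, Category.assoc]
      congr 1
      rw [← Iso.comp_inv_eq]
      exact ι_comp_sigmaComparison (DCoh.IsQCohD (X := X)).ι (fun j => a.obj (M' j)) j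
    have h2 : ψ = ∑ j ∈ s, g' j ≫ Sigma.ι M' j := by
      haveI : a.Additive := adj.right_adjoint_additive
      apply (adj.homEquiv _ _).injective
      rw [← cancel_mono ca.hom, h1, Adjunction.homEquiv_unit, Functor.map_sum, Preadditive.comp_sum,
        Preadditive.sum_comp]
      refine Finset.sum_congr rfl fun j _ => ?_
      rw [← Iso.comp_inv_eq, Category.assoc]
      refine Eq.trans (congrArg (_ ≫ ·) (ι_comp_sigmaComparison a M' j)) ?_
      rw [← Adjunction.homEquiv_unit, Adjunction.homEquiv_naturality_right]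
      simp [g']
    refine ⟨∑ j ∈ s, DirectSum.of (fun j => (F.obj P).obj ⟶ M j) j (g' j).hom, ?_⟩
    rw [map_sum]
    have h3 : φ = (DCoh.IsQCohD (X := Y)).ι.map ψ ≫ cY.hom := by
      change φ = (φ ≫ cY.inv) ≫ cY.hom
      exact (((Category.assoc _ _ _).trans (congrArg (φ ≫ ·) cY.inv_hom_id)).trans (Category.comp_id φ)).symm
    rw [h3, h2, Functor.map_sum, Preadditive.sum_comp]
    refine Finset.sum_congr rfl fun j _ => ?_
    rw [Functor.map_comp, Category.assoc]
    simp only [PerfAux.homSumToHomCoprod, DirectSum.toAddMonoid_of, Preadditive.rightComp, AddMonoidHom.mk'_apply]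
    refine congrArg ((g' j).hom ≫ ·) ?_
    rw [← Iso.comp_inv_eq]
    exact ι_comp_sigmaComparison (DCoh.IsQCohD (X := Y)).ι M' j

end Groth.L29.BC.AdjCoprod
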