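import Groth.Agent.L29.BC.PFNat
import Groth.Agent.L29.BC.PFShift
import Groth.Agent.L29.BC.UnivShift
import Groth.Agent.L29.DCoh.QCohTensor
import Groth.Agent.S1054

/-!
The natural map `Lf^*(-) ⊗ a(O) ⟶ a` and its values at shifts of `O`.
-/

set_option autoImplicit false
set_option backward.defeqAttrib.useBackward true
set_option backward.isDefEq.respectTransparency false
set_option backward.isDefEq.respectTransparency.types false

universe u

open CategoryTheory CategoryTheory.Limits CategoryTheory.Pretriangulated AlgebraicGeometry CochainComplex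

attribute [local instance] HasDerivedCategory.standard

namespace Groth.L29.BC.AdjTensor

open Groth.L00 Groth.L29.DC LTExact

variable {X Y : Scheme.{u}}

theorem isPerfect_O0 : DCoh.IsPerfect (DerivedCategory.Q.obj (RHom.O0 Y)) :=
  (isPerfect_iff_wit _).2 fun x => ⟨⊤, trivial,
    (show PWit (DerivedCategory.Q.obj (RHom.O0 Y)) from ⟨_, RHom.isStrictlyPerfect_O0, ⟨Iso.refl _⟩⟩).restrict _⟩

theorem isQCohD_O0 : DCoh.IsQCohD (DerivedCategory.Q.obj (RHom.O0 Y)) := PCQCoh.isQCohD_of_perfect isPerfect_O0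

/-- `O` in degree `-n` -/
noncomputable def On (Y : Scheme.{u}) (n : ℤ) : DCoh.DQCoh Y :=
  ⟨DerivedCategory.Q.obj ((RHom.O0 Y)⟦n⟧),
    isQCohD_of_iso ((DerivedCategory.Q.commShiftIso n).app (RHom.O0 Y)).symm (Gen.isQCohD_shift isQCohD_O0 n)⟩

/-- `O` -/
noncomputable def O₀ (Y : Scheme.{u}) : DCoh.DQCoh Y := ⟨DerivedCategory.Q.obj (RHom.O0 Y), isQCohD_O0⟩

variable (f : X ⟶ Y) [DCoh.HasLpull f]

/-- `Lf^*(-) ⊗ I` on `D_QCoh` -/
noncomputable abbrev L (I : CochainComplex X.Modules ℤ) [DCoh.HasLTensorCx I]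
    (hI : DCoh.IsQCohD (DerivedCategory.Q.obj I)) : DCoh.DQCoh Y ⥤ DCoh.DQCoh X :=
  ObjectProperty.lift _ (ObjectProperty.ι _ ⋙ DCoh.Lpull f ⋙ DCoh.LTensorCx I) fun K =>
    isQCohD_LTensorCx I hI (Groth.Agent.S1054.result f K.obj K.property)

variable [QuasiCompact f] [QuasiSeparated f] [DCoh.HasRpush f] {hf : DCoh.RpushPreservesQCoh f}
  {a : DCoh.DQCoh Y ⥤ DCoh.DQCoh X} (adj : DCoh.RpushQ f hf ⊣ a)

include adj in
set_option maxHeartbeats 1600000 in
/-- the comparison, invertible at shifts of `O` -/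
theorem exists_comparison :
    ∃ (I : CochainComplex X.Modules ℤ) (_ : DCoh.HasLTensorCx I) (hI : DCoh.IsQCohD (DerivedCategory.Q.obj I))
      (Ψ : L f I hI ⟶ a), Nonempty (DerivedCategory.Q.obj I ≅ (a.obj (O₀ Y)).obj) ∧
      ∀ (n : ℤ) (K : DCoh.DQCoh Y), Nonempty (K.obj ≅ DerivedCategory.Q.obj ((RHom.O0 Y)⟦n⟧)) → IsIso (Ψ.app K) := by
  haveI := Groth.L17.PushQCoh.additive_push f
  haveI : (Scheme.Modules.pullback f).Additive :=
    (Scheme.Modules.pullbackPushforwardAdjunction f).left_adjoint_additive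
  obtain ⟨I, hIinj, ⟨eI⟩⟩ := UnivShift.exists_kinj_rep (a.obj (O₀ Y)).obj
  haveI := hIinj
  haveI := KFlat.hasLTensorCx I
  have hI : DCoh.IsQCohD (DerivedCategory.Q.obj I) := isQCohD_of_iso eI.symm (a.obj (O₀ Y)).property
  let O := RHom.O0 Y
  have hO : DCoh.IsKFlat O := KFlat.single _ (isFlat_structureModule Y) 0
  let A := (Proj.pushCx f).obj I
  let A' := (KFlat.RF Y).obj A
  let rA : A' ⟶ A := (KFlat.rF Y).app A
  haveI : QuasiIso rA := KFlat.quasiIso_rF A
  haveI := KFlat.hasLTensorCx A'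
  let r₀ : ProjQis.T f I O ≅ I :=
    (DCoh.tensorCx.obj I).mapIso
      ((HomologicalComplex.singleMapHomologicalComplex (Scheme.Modules.pullback f) (ComplexShape.up ℤ) 0).app _ ≪≫
        (HomologicalComplex.single X.Modules (ComplexShape.up ℤ) 0).mapIso (Groth.L29.LocFree.pullbackUnitIso f)) ≪≫
      RHom.unitCxIso.app I
  let ε : (DCoh.RpushQ f hf).obj (a.obj (O₀ Y)) ⟶ O₀ Y := adj.counit.app (O₀ Y)
  let φ₀ : DerivedCategory.Q.obj A ⟶ DerivedCategory.Q.obj O :=
    SupportAdj.pushComp f I ≫ (DCoh.Rpush f).map eI.hom ≫ ε.hom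
  have hU : UnivShift.U f I φ₀ := by
    haveI : IsIso (adj.homEquiv (a.obj (O₀ Y)) (O₀ Y) ε) := by
      have h1 : adj.homEquiv (a.obj (O₀ Y)) (O₀ Y) ε = 𝟙 _ := by
        rw [Adjunction.homEquiv_unit]
        exact adj.right_triangle_components _
      rw [h1]; infer_instance
    have h := UnivShift.univ_of_isIso f adj ε eI (Iso.refl (O₀ Y).obj)
    simpa [φ₀] using h
  let δ := cnt A' O ≫ DerivedCategory.Q.map ((DCoh.tensorCx.map rA).app O) ≫
    DerivedCategory.Q.map (ProjQis.cmp f I O r₀.hom) ≫ φ₀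
  obtain ⟨τ, hτ, hτi⟩ := PFNat.exists_pf f I rA hI
  obtain ⟨t, J, i, m, hi, htO, ht⟩ := PFNat.exists_toId A' δ
  haveI := hi
  haveI : ∀ K : DCoh.DQCoh Y, IsIso (τ.app K.obj) := fun K => hτi K.obj K.property
  let θ : ∀ K : DCoh.DQCoh Y, (DCoh.RpushQ f hf).obj ((L f I hI).obj K) ⟶ K := fun K =>
    ObjectProperty.homMk (inv (τ.app K.obj) ≫ t.app K.obj)
  have hθ : ∀ {K K' : DCoh.DQCoh Y} (k : K ⟶ K'),
      (DCoh.RpushQ f hf).map ((L f I hI).map k) ≫ θ K' = θ K ≫ k := fun {K K'} k => by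
    apply ObjectProperty.hom_ext
    change (DCoh.Lpull f ⋙ DCoh.LTensorCx I ⋙ DCoh.Rpush f).map k.hom ≫ inv (τ.app K'.obj) ≫ t.app K'.obj =
      (inv (τ.app K.obj) ≫ t.app K.obj) ≫ k.hom
    rw [Category.assoc, IsIso.eq_inv_comp, ← Category.assoc, ← τ.naturality, Category.assoc,
      IsIso.hom_inv_id_assoc]
    exact t.naturality k.hom
  let Ψ : L f I hI ⟶ a :=
    { app := fun K => adj.homEquiv _ _ (θ K)
      naturality := fun K K' k => by
        rw [← Adjunction.homEquiv_naturality_left, hθ k, Adjunction.homEquiv_naturality_right] }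
  refine ⟨I, inferInstance, hI, Ψ, ⟨eI⟩, fun n K ⟨eK⟩ => ?_⟩
  let P := O⟦n⟧
  let eK' : K ≅ On Y n := ObjectProperty.isoMk _ eK
  refine (NatTrans.isIso_app_iff_of_iso Ψ eK').2 ?_
  change IsIso (adj.homEquiv _ _ (θ (On Y n)))
  have hP : DCoh.IsKFlat P := KFlat.shift _ n hO
  have hPq : DCoh.IsQCohD (DerivedCategory.Q.obj P) := (On Y n).property
  let rn : ProjQis.T f I P ≅ I⟦n⟧ :=
    PFShift.pullShift f I O n ≪≫ (CategoryTheory.shiftFunctor (CochainComplex X.Modules ℤ) n).mapIso r₀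
  haveI : (I⟦n⟧).IsKInjective := inferInstance
  haveI := isIso_cnt I (KFlat.pullback_kflat f P hP)
  haveI := isIso_cnt A' hP
  let o := DerivedApi.objIso (DerivedApi.acyclicKFlat_pullback f) P hP
  let e : DerivedCategory.Q.obj (I⟦n⟧) ≅ ((L f I hI).obj (On Y n)).obj :=
    DerivedCategory.Q.mapIso rn.symm ≪≫ (asIso (cnt I ((Proj.pullCx f).obj P))).symm ≪≫
      (DCoh.LTensorCx I).mapIso o.symm
  -- the shifted target
  have hiT : ∀ {P : CochainComplex Y.Modules ℤ}, DCoh.IsKFlat P →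
      IsIso (DerivedCategory.Q.map (PFNat.unitL P).inv ≫ DerivedCategory.Q.map ((DCoh.tensorCx.map i).app P)) :=
    fun {P} hP => by
      haveI := KFlat.quasiIso_tensor_of_kflat P hP i
      haveI : IsIso (DerivedCategory.Q.map ((DCoh.tensorCx.map i).app P)) :=
        (DerivedCategory.isIso_Q_map_iff_quasiIso _ _).2 inferInstance
      infer_instance
  let g₀ := @asIso _ _ _ _ _ (hiT hO)
  let gn := @asIso _ _ _ _ _ (hiT hP)
  let γ : (DerivedCategory.Q.obj O)⟦n⟧ ≅ (On Y n).obj :=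
    (CategoryTheory.shiftFunctor _ n).mapIso g₀ ≪≫
      ((DerivedCategory.Q.commShiftIso n).app ((DCoh.tensorCx.obj J).obj O)).symm ≪≫
      DerivedCategory.Q.mapIso (PFShift.σ J O n).symm ≪≫ gn.symm
  refine UnivShift.isIso_of_univ f adj (θ (On Y n)) e ?_
  have key : SupportAdj.pushComp f (I⟦n⟧) ≫ (DCoh.Rpush f).map e.hom ≫ (θ (On Y n)).hom =
      (UnivShift.ν f n I).hom ≫ φ₀⟦n⟧' ≫ γ.hom := by
    haveI : IsIso (DerivedCategory.Q.map ((DCoh.tensorCx.map rA).app P)) :=
      haveI := KFlat.quasiIso_tensor_of_kflat P hP rA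
      (DerivedCategory.isIso_Q_map_iff_quasiIso _ _).2 inferInstance
    let rp := DerivedCategory.Q.mapIso ((Proj.pushCx f).mapIso rn)
    haveI : IsIso (DerivedCategory.Q.map (Proj.proj f I P)) := by
      haveI : QuasiIso rn.hom := inferInstance
      haveI : IsIso (DerivedCategory.Q.map (Proj.proj f I P) ≫ rp.hom) := by
        have h := ProjQC.isIso_cmp f I hI hP hPq rn.hom
        simp only [ProjQis.cmp, Functor.map_comp] at h
        exact h
      exact IsIso.of_isIso_comp_right _ rp.hom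
    let α := cnt A' P ≫ DerivedCategory.Q.map ((DCoh.tensorCx.map rA).app P) ≫
      DerivedCategory.Q.map (Proj.proj f I P) ≫ rp.hom
    haveI : IsIso rp.hom := rp.isIso_hom
    haveI : IsIso α := IsIso.comp_isIso' inferInstance
      (IsIso.comp_isIso' inferInstance (IsIso.comp_isIso' inferInstance inferInstance))
    haveI : Epi α := @IsIso.epi_of_iso _ _ _ _ α ‹IsIso α›
    refine (cancel_epi α).1 ?_
    refine Eq.trans (b := t.app (DerivedCategory.Q.obj P)) ?_ ?_
    · have h1 : rp.hom ≫ SupportAdj.pushComp f (I⟦n⟧) ≫ (DCoh.Rpush f).map (DerivedCategory.Q.map rn.inv) =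
          SupportAdj.pushComp f (ProjQis.T f I P) := by
        rw [← SupportAdj.pushComp_natural f rn.inv, ← Category.assoc]
        simp only [rp, Functor.mapIso_hom]
        rw [← Functor.map_comp, ← Functor.map_comp, rn.hom_inv_id, CategoryTheory.Functor.map_id,
          CategoryTheory.Functor.map_id, Category.id_comp]
      have h2 : τ.app (DerivedCategory.Q.obj P) = PFNat.pf f I rA P hP := hτ P hP
      simp only [α, e, θ, Iso.trans_hom, Functor.mapIso_hom, Iso.symm_hom, asIso_inv, Functor.map_comp,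
        Category.assoc]
      rw [reassoc_of% h1]
      have h3 : τ.app (DerivedCategory.Q.obj P) ≫ inv (τ.app (On Y n).obj) ≫ t.app (On Y n).obj =
          t.app (DerivedCategory.Q.obj P) := IsIso.hom_inv_id_assoc (τ.app (On Y n).obj) _
      rw [h2] at h3
      simp only [PFNat.pf, Functor.map_comp, Category.assoc] at h3
      exact h3
    · have hσ : (DCoh.tensorCx.map rA).app P ≫ (PFShift.σ A O n).hom =
          (PFShift.σ A' O n).hom ≫ ((DCoh.tensorCx.map rA).app O)⟦n⟧' := PFShift.σ_natural rA O n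
      let ms := ((Scheme.Modules.pushforward f).mapCochainComplexShiftIso n)
      have hm : (Proj.pushCx f).map ((r₀.hom)⟦n⟧') ≫ (ms.app I).hom =
          (ms.app _).hom ≫ ((Proj.pushCx f).map r₀.hom)⟦n⟧' := ms.hom.naturality r₀.hom
      have hA : (DCoh.tensorCx.map rA).app P ≫ Proj.proj f I P ≫ (Proj.pushCx f).map rn.hom ≫ (ms.app I).hom =
          (PFShift.σ A' O n).hom ≫ ((DCoh.tensorCx.map rA).app O ≫ ProjQis.cmp f I O r₀.hom)⟦n⟧' := by
        simp only [rn, Iso.trans_hom, Functor.mapIso_hom, Functor.map_comp, Category.assoc, ProjQis.cmp]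
        rw [hm, reassoc_of% (PFShift.proj_shift f I O n), reassoc_of% hσ]
      have hc : ∀ {U V : CochainComplex Y.Modules ℤ} (b : U ⟶ V),
          DerivedCategory.Q.map (b⟦n⟧') ≫ ((DerivedCategory.Q.commShiftIso n).app V).hom =
            ((DerivedCategory.Q.commShiftIso n).app U).hom ≫ (DerivedCategory.Q.map b)⟦n⟧' := fun b =>
        (DerivedCategory.Q.commShiftIso n).hom.naturality b
      let c := fun U : CochainComplex Y.Modules ℤ => ((DerivedCategory.Q.commShiftIso n).app U).hom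
      have h5 : DerivedCategory.Q.map ((DCoh.tensorCx.map rA).app P) ≫ DerivedCategory.Q.map (Proj.proj f I P) ≫
          rp.hom ≫ (UnivShift.ν f n I).hom =
          DerivedCategory.Q.map (PFShift.σ A' O n).hom ≫ c ((DCoh.tensorCx.obj A').obj O) ≫
            (DerivedCategory.Q.map ((DCoh.tensorCx.map rA).app O ≫ ProjQis.cmp f I O r₀.hom))⟦n⟧' := by
        simp only [rp, Functor.mapIso_hom, UnivShift.ν, Iso.trans_hom, c]
        simp only [← Functor.map_comp_assoc, Category.assoc]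
        rw [hA, Functor.map_comp, Category.assoc]
        exact congrArg (_ ≫ ·) (hc _)
      -- the map to the identity at shifts of `O`
      have e₀ : δ ≫ g₀.hom = cnt A' O ≫ DerivedCategory.Q.map ((DCoh.tensorCx.map m).app O) :=
        (congrArg (· ≫ g₀.hom) htO.symm).trans (ht O hO)
      have en : t.app (DerivedCategory.Q.obj P) ≫ gn.hom =
          cnt A' P ≫ DerivedCategory.Q.map ((DCoh.tensorCx.map m).app P) := ht P hP
      have e₀' : DerivedCategory.Q.map ((DCoh.tensorCx.map rA).app O ≫ ProjQis.cmp f I O r₀.hom) ≫ φ₀ ≫ g₀.hom =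
          DerivedCategory.Q.map ((DCoh.tensorCx.map m).app O) := by
        haveI := isIso_cnt A' hO
        rw [← cancel_epi (cnt A' O), ← e₀]
        simp only [δ, Functor.map_comp, Category.assoc]
      have hσm : DerivedCategory.Q.map ((DCoh.tensorCx.map m).app P) ≫ DerivedCategory.Q.map (PFShift.σ J O n).hom =
          DerivedCategory.Q.map (PFShift.σ A' O n).hom ≫ DerivedCategory.Q.map (((DCoh.tensorCx.map m).app O)⟦n⟧') := by
        rw [← Functor.map_comp, ← Functor.map_comp]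
        exact congrArg DerivedCategory.Q.map (PFShift.σ_natural m O n)
      rw [← cancel_mono gn.hom, en]
      simp only [α, γ, Iso.trans_hom, Functor.mapIso_hom, Iso.symm_hom, Category.assoc, Iso.inv_hom_id,
        Category.comp_id]
      rw [reassoc_of% h5, ← Functor.map_comp_assoc (CategoryTheory.shiftFunctor _ n),
        ← Functor.map_comp_assoc (CategoryTheory.shiftFunctor _ n), Category.assoc, e₀']
      refine congrArg (cnt A' P ≫ ·) ?_
      rw [← reassoc_of% (hc ((DCoh.tensorCx.map m).app O)), ← reassoc_of% hσm]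
      simp [c]
  rw [key]
  exact UnivShift.univ_shift f hU n γ

end Groth.L29.BC.AdjTensor
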