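import Groth.Agent.L29.DCoh.PerfectTensor
import Groth.Agent.L29.RelPC.PerfectMor
import Groth.Agent.L29.BC.PerfectPush
import Groth.Agent.L29.K.CohSupp
import Groth.Agent.L10.DRing.TorRestrict
import Groth.Agent.L10.DRing.TorDim

/-!
Perfect complexes have finite tor amplitude over the base along perfect morphisms; proper perfect direct images.
-/

set_option autoImplicit false
set_option backward.defeqAttrib.useBackward true
set_option backward.isDefEq.respectTransparency false
set_option backward.isDefEq.respectTransparency.types false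

universe u

open CategoryTheory CategoryTheory.Limits AlgebraicGeometry

attribute [local instance] HasDerivedCategory.standard

namespace Groth.L29.BC.PerfMorTor

open Groth.L00 Groth.L29.DC

variable {X S : Scheme.{u}} (f : X ⟶ S)

theorem exists_uniform_td [CompactSpace X] (hf : MoreMor.IsPerfectMor f) : ∃ d : ℕ, ∀ x, RelPC.TD f d x := by
  have h := (RelPC.perfect_iff_locTD.1 hf).2
  choose W d hxW hTD using h
  obtain ⟨t, ht⟩ := (isCompact_univ (X := X)).elim_finite_subcover (fun x => (W x : Set X)) (fun x => (W x).2)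
    (fun x _ => Set.mem_iUnion.2 ⟨x, hxW x⟩)
  refine ⟨t.sup d, fun y => ?_⟩
  obtain ⟨x, hx, hyx⟩ := Set.mem_iUnion₂.1 (ht (Set.mem_univ y))
  exact (hTD x y hyx).mono (Finset.le_sup hx)

/-- a bounded complex with flat stalks has bounded amplitude over the base -/
theorem torAmplitudeAt {d : ℕ} {x : X} (hd : RelPC.TD f d x) (C : CochainComplex X.Modules ℤ) (a b : ℤ)
    (hv : ∀ i, (i < a ∨ b < i) → IsZero (C.X i))
    (hflat : ∀ i, Module.Flat (X.presheaf.stalk x) ((Stk.F X x).obj (C.X i))) :
    DerSch.HasTorAmplitudeAt f (a - d) b C x := by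
  let B := X.presheaf.stalk x
  let A := S.presheaf.stalk (f x)
  letI : Algebra A B := (f.stalkMap x).hom.toAlgebra
  let C' : DRing.Cx B := ((Stk.F X x).mapHomologicalComplex (ComplexShape.up ℤ)).obj C
  have hC : DRing.HasTorAmplitudeIn B a b (DRing.toD C') :=
    ⟨C', fun i hi => (Stk.F X x).map_isZero (hv i hi), hflat, ⟨Iso.refl _⟩⟩
  have h := Groth.L10.TorRestrict.amp_restrict d
    ((Groth.L10.DR.hasTorDimLE_iff_amp d).1 hd) (DRing.toD C') a b hC
  exact Groth.L10.DR.amp_of_iso
    ((ModuleCat.restrictScalars (algebraMap A B)).mapDerivedCategoryFactors.app C') h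

theorem exists_local_amplitude {d : ℕ} (hd : ∀ x, RelPC.TD f d x) (P : CochainComplex X.Modules ℤ)
    {U : Scheme.{u}} (j : U ⟶ X) [IsOpenImmersion j] (hm : PerfectTensor.Model P j) :
    ∃ a b : ℤ, ∀ y : U, DerSch.HasTorAmplitudeAt f a b P (j y) := by
  obtain ⟨E, a, b, hE, hv, hfree, Z, g, s, hZ, hg, hs⟩ := hm
  haveI := hg
  haveI := hs
  haveI : (CxOX.extZero j).Additive := (CxOX.extZeroAdj j).left_adjoint_additive
  refine ⟨a - d, b, fun y => ?_⟩
  haveI := PerfectTensor.isIso_Q_stalkCxOver f j g y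
  haveI := PerfectTensor.isIso_Q_stalkCxOver f j s y
  refine Groth.L10.DR.amp_of_iso
    ((asIso (DerivedCategory.Q.map ((DerSch.stalkCxOver f (j y)).map s))).symm ≪≫
      asIso (DerivedCategory.Q.map ((DerSch.stalkCxOver f (j y)).map g)))
    (torAmplitudeAt f (hd _) ((ExtZero.eCx j).obj E) a b
      (fun i hi => (CxOX.extZero j).map_isZero (hv i hi)) fun i => ?_)
  obtain ⟨n, ⟨e⟩⟩ := hfree i
  exact PerfectTensor.flat_stalk_extZero j e y

/-- perfect complexes have finite tor amplitude over the base along perfect morphisms -/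
theorem exists_amplitude [CompactSpace X] (hf : MoreMor.IsPerfectMor f) (P : CochainComplex X.Modules ℤ)
    (hPf : DCoh.IsKFlat P) (hP : DCoh.IsPerfect (DCoh.toD X P)) : ∃ a b : ℤ, DerSch.HasTorAmplitude f a b P := by
  obtain ⟨d, hd⟩ := exists_uniform_td f hf
  choose U j hj hx hm using PerfectTensor.exists_model P hPf hP
  have hl := fun x => haveI := hj x; exists_local_amplitude f hd P (j x) (hm x)
  choose a b htor using hl
  obtain ⟨t, ht⟩ := (isCompact_univ (X := X)).elim_finite_subcover
    (fun x => haveI := hj x; ((j x).opensRange : Set X))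
    (fun x => haveI := hj x; (j x).opensRange.isOpen) (fun x _ => Set.mem_iUnion.2 ⟨x, hx x⟩)
  obtain ⟨A, hA⟩ := (t.image a).finite_toSet.bddBelow
  obtain ⟨B, hB⟩ := (t.image b).finite_toSet.bddAbove
  refine ⟨A, B, fun x => ?_⟩
  obtain ⟨x₀, hx₀, hxx₀⟩ := Set.mem_iUnion₂.1 (ht (Set.mem_univ x))
  haveI := hj x₀
  obtain ⟨y, rfl⟩ := hxx₀
  exact Groth.L10.DR.amp_mono (htor x₀ y) (hA (Finset.mem_coe.2 (Finset.mem_image_of_mem a hx₀)))
    (hB (Finset.mem_coe.2 (Finset.mem_image_of_mem b hx₀)))

/-- direct images of perfect objects along proper perfect morphisms to Noetherian schemes -/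
theorem isPerfect_Rpush_noetherian [IsNoetherian S] [IsProper f] (hf : MoreMor.IsPerfectMor f) [DCoh.HasRpush f]
    {E : DCoh.D X} (hE : DCoh.IsPerfect E) : DCoh.IsPerfect ((DCoh.Rpush f).obj E) := by
  haveI : IsLocallyNoetherian X := LocallyOfFiniteType.isLocallyNoetherian f
  haveI : CompactSpace X := QuasiCompact.compactSpace_of_compactSpace f
  obtain ⟨P, q, hPf, -, hq, -⟩ := KFlat.exists_resolution (DerivedCategory.Q.objPreimage E)
  haveI := (DerivedCategory.isIso_Q_map_iff_quasiIso _ q).2 hq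
  let eE : DCoh.toD X P ≅ E := asIso (DerivedCategory.Q.map q) ≪≫ DerivedCategory.Q.objObjPreimageIso E
  have hP := isPerfect_of_iso eE.symm hE
  obtain ⟨a₀, b₀, ha, hb⟩ := Groth.L29.CohSupp.exists_bounds_of_perfect hP
  haveI := ha
  haveI := hb
  have hc := Groth.L29.CohSupp.isCohD_of_perfect hP
  have hs : ∀ i : ℤ, ClSub.IsProperOver f (CohB1.support (DCoh.HD (DCoh.toD X P) i)) := fun i =>
    ⟨Groth.L16.CohSupport.isClosed_support _ (hc i).2, inferInstance⟩
  obtain ⟨a, b, htor⟩ := exists_amplitude f hf P hPf hP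
  exact isPerfect_of_iso ((DCoh.Rpush f).mapIso eE) (PushPerfect.isPerfect_Rpush f P hc a₀ b₀ hs a b htor)

/-- direct images of perfect objects along proper perfect morphisms, locally Noetherian base -/
theorem isPerfect_Rpush [IsLocallyNoetherian S] [IsProper f] (hf : MoreMor.IsPerfectMor f) [DCoh.HasRpush f]
    {E : DCoh.D X} (hE : DCoh.IsPerfect E) : DCoh.IsPerfect ((DCoh.Rpush f).obj E) := by
  refine EvalMain.isPerfect_of_local fun s => ?_
  obtain ⟨_, ⟨(V : S.Opens), hV, rfl⟩, hsV, -⟩ :=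
    S.isBasis_affineOpens.exists_subset_of_mem_open (Set.mem_univ s) isOpen_univ
  let g := f ∣_ V
  let ι := (f ⁻¹ᵁ V).ι
  haveI := RpushQC.hasRpush g
  haveI : IsProper g := IsZariskiLocalAtTarget.restrict ‹IsProper f› V
  haveI : IsAffine (V : Scheme.{u}) := hV
  haveI : IsLocallyNoetherian (V : Scheme.{u}) := isLocallyNoetherian_of_isOpenImmersion V.ι
  haveI : CompactSpace (V : Scheme.{u}) := isCompact_iff_compactSpace.1 hV.isCompact
  haveI : IsNoetherian (V : Scheme.{u}) := {}
  have hgp : MoreMor.IsPerfectMor g := RelPC.perfect_baseChange (isPullback_morphismRestrict f V).flip hf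
  obtain ⟨eV⟩ := RpushRes.nonempty_iso f V.ι ι g
    (by rw [Scheme.Opens.opensRange_ι, Scheme.Opens.opensRange_ι]) (morphismRestrict_ι f V)
  exact ⟨V, hsV, isPerfect_of_iso (eV.app E).symm (isPerfect_Rpush_noetherian g hgp (Gen.isPerfect_restrictD ι hE))⟩

end Groth.L29.BC.PerfMorTor
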