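import Mathlib.CategoryTheory.Adjunction.Basic
import Mathlib.CategoryTheory.Adjunction.Unique
import Mathlib.CategoryTheory.Whiskering

/-!
Pasting of base change transformations attached to adjunctions.
-/

set_option autoImplicit false

open CategoryTheory

namespace Groth.L29.BC.Paste

universe v₁ v₂ v₃ v₄ v₅ v₆ u₁ u₂ u₃ u₄ u₅ u₆

variable {C : Type u₁} [Category.{v₁} C] {C₁ : Type u₂} [Category.{v₂} C₁] {B : Type u₃} [Category.{v₃} B]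
  {B₁ : Type u₄} [Category.{v₄} B₁]
  {F : C ⥤ B} {F' : C₁ ⥤ B₁} {L : B ⥤ B₁} {G : B₁ ⥤ B} {L' : C ⥤ C₁} {G' : C₁ ⥤ C}

/-- the base change transformation of a square of right adjoints -/
def bc (A : L ⊣ G) (A' : L' ⊣ G') (e : G' ⋙ F ≅ F' ⋙ G) (E : C) :
    L.obj (F.obj E) ⟶ F'.obj (L'.obj E) :=
  (A.homEquiv _ _).symm (F.map (A'.unit.app E) ≫ e.hom.app (L'.obj E))

theorem homEquiv_bc (A : L ⊣ G) (A' : L' ⊣ G') (e : G' ⋙ F ≅ F' ⋙ G) (E : C) :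
    A.homEquiv _ _ (bc A A' e E) = F.map (A'.unit.app E) ≫ e.hom.app (L'.obj E) :=
  Equiv.apply_symm_apply _ _

/-- changing the adjunctions -/
theorem bc_congr {L₂ : B ⥤ B₁} {L₂' : C ⥤ C₁} (A : L ⊣ G) (A' : L' ⊣ G') (A₂ : L₂ ⊣ G) (A₂' : L₂' ⊣ G')
    (e : G' ⋙ F ≅ F' ⋙ G) (E : C) :
    (A.leftAdjointUniq A₂).hom.app (F.obj E) ≫ bc A₂ A₂' e E =
      bc A A' e E ≫ F'.map ((A'.leftAdjointUniq A₂').hom.app E) := by
  apply (A.homEquiv _ _).injective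
  refine Eq.trans ?_ (A.homEquiv_naturality_right _ _).symm
  refine (A.homEquiv_naturality_right _ _).trans ?_
  rw [Adjunction.homEquiv_leftAdjointUniq_hom_app, homEquiv_bc]
  rw [← Adjunction.homEquiv_unit, homEquiv_bc, ← Adjunction.unit_leftAdjointUniq_hom_app A' A₂' E,
    Functor.map_comp, Category.assoc, Category.assoc]
  congr 1
  exact e.hom.naturality ((A'.leftAdjointUniq A₂').hom.app E)

theorem isIso_bc_iff {L₂ : B ⥤ B₁} {L₂' : C ⥤ C₁} (A : L ⊣ G) (A' : L' ⊣ G') (A₂ : L₂ ⊣ G) (A₂' : L₂' ⊣ G')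
    (e : G' ⋙ F ≅ F' ⋙ G) (E : C) : IsIso (bc A₂ A₂' e E) ↔ IsIso (bc A A' e E) := by
  have h := bc_congr A A' A₂ A₂' e E
  constructor <;> intro _
  · haveI : IsIso (bc A A' e E ≫ F'.map ((A'.leftAdjointUniq A₂').hom.app E)) := by rw [← h]; infer_instance
    exact IsIso.of_isIso_comp_right _ (F'.map ((A'.leftAdjointUniq A₂').hom.app E))
  · haveI : IsIso ((A.leftAdjointUniq A₂).hom.app (F.obj E) ≫ bc A₂ A₂' e E) := by rw [h]; infer_instance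
    exact IsIso.of_isIso_comp_left ((A.leftAdjointUniq A₂).hom.app (F.obj E)) _

section Vertical

variable {C₂ : Type u₅} [Category.{v₅} C₂] {B₂ : Type u₆} [Category.{v₆} B₂]
  {K : B₁ ⥤ B₂} {H : B₂ ⥤ B₁} {K' : C₁ ⥤ C₂} {H' : C₂ ⥤ C₁} {F'' : C₂ ⥤ B₂} {G₂ : B₂ ⥤ B} {G₂' : C₂ ⥤ C}

/-- the adjunction of a composite right adjoint -/
def adjComp (A : L ⊣ G) (Ak : K ⊣ H) (c : H ⋙ G ≅ G₂) : L ⋙ K ⊣ G₂ := (A.comp Ak).ofNatIsoRight c

theorem homEquiv_adjComp (A : L ⊣ G) (Ak : K ⊣ H) (c : H ⋙ G ≅ G₂) (b : B) (z : B₂)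
    (x : K.obj (L.obj b) ⟶ z) :
    (adjComp A Ak c).homEquiv b z x = A.homEquiv _ _ (Ak.homEquiv _ _ x) ≫ c.hom.app z := by
  simp [adjComp, Adjunction.homEquiv_unit, Adjunction.ofNatIsoRight, Adjunction.comp_unit_app, Adjunction.homEquiv]
  have hn := c.hom.naturality x
  dsimp at hn
  rw [hn]

/-- vertical pasting -/
theorem bc_vert (A : L ⊣ G) (A' : L' ⊣ G') (Ak : K ⊣ H) (Ak' : K' ⊣ H') (e₁ : G' ⋙ F ≅ F' ⋙ G)
    (e₂ : H' ⋙ F' ≅ F'' ⋙ H) (c : H ⋙ G ≅ G₂) (c' : H' ⋙ G' ≅ G₂') (e : G₂' ⋙ F ≅ F'' ⋙ G₂)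
    (hcomp : ∀ Z : C₂, e₁.hom.app (H'.obj Z) ≫ G.map (e₂.hom.app Z) ≫ c.hom.app (F''.obj Z) =
      F.map (c'.hom.app Z) ≫ e.hom.app Z) (E : C) :
    bc (adjComp A Ak c) (adjComp A' Ak' c') e E = K.map (bc A A' e₁ E) ≫ bc Ak Ak' e₂ (L'.obj E) := by
  apply ((adjComp A Ak c).homEquiv _ _).injective
  rw [homEquiv_bc, homEquiv_adjComp]
  have hu : (adjComp A' Ak' c').unit.app E =
      A'.unit.app E ≫ G'.map (Ak'.unit.app (L'.obj E)) ≫ c'.hom.app (K'.obj (L'.obj E)) := by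
    have h := (homEquiv_adjComp A' Ak' c' E _ (𝟙 _))
    refine ((adjComp A' Ak' c').homEquiv_id E).symm.trans (h.trans ?_)
    rw [Adjunction.homEquiv_id, Adjunction.homEquiv_unit, Category.assoc]
  rw [Ak.homEquiv_naturality_left, A.homEquiv_naturality_right]
  erw [homEquiv_bc, homEquiv_bc]
  rw [hu]
  dsimp
  simp only [Functor.map_comp, Category.assoc]
  congr 1
  have hn := e₁.hom.naturality (Ak'.unit.app (L'.obj E))
  dsimp at hn ⊢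
  rw [← reassoc_of% hn]
  congr 1
  exact (hcomp _).symm

end Vertical

section Horizontal

variable {W : Type u₅} [Category.{v₅} W] {W₁ : Type u₆} [Category.{v₆} W₁]
  {H : W ⥤ C} {H₁ : W₁ ⥤ C₁} {L'' : W ⥤ W₁} {G'' : W₁ ⥤ W} {Fc : W ⥤ B} {Fc' : W₁ ⥤ B₁}

/-- horizontal pasting -/
theorem bc_horiz (A : L ⊣ G) (A' : L' ⊣ G') (A'' : L'' ⊣ G'') (ef : G' ⋙ F ≅ F' ⋙ G)
    (eh : G'' ⋙ H ≅ H₁ ⋙ G') (d : H ⋙ F ≅ Fc) (d' : H₁ ⋙ F' ≅ Fc') (et : G'' ⋙ Fc ≅ Fc' ⋙ G)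
    (hcomp : ∀ Z : W₁, F.map (eh.hom.app Z) ≫ ef.hom.app (H₁.obj Z) ≫ G.map (d'.hom.app Z) =
      d.hom.app (G''.obj Z) ≫ et.hom.app Z) (E : W) :
    L.map (d.hom.app E) ≫ bc A A'' et E =
      bc A A' ef (H.obj E) ≫ F'.map (bc A' A'' eh E) ≫ d'.hom.app (L''.obj E) := by
  apply (A.homEquiv _ _).injective
  rw [A.homEquiv_naturality_left, homEquiv_bc, A.homEquiv_naturality_right]
  dsimp
  erw [homEquiv_bc]
  rw [Category.assoc, Functor.map_comp]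
  have hn := ef.hom.naturality (bc A' A'' eh E)
  dsimp at hn
  rw [← reassoc_of% hn, ← Functor.map_comp_assoc]
  have hu : A'.unit.app (H.obj E) ≫ G'.map (bc A' A'' eh E) = H.map (A''.unit.app E) ≫ eh.hom.app (L''.obj E) :=
    (A'.homEquiv_unit _ _ _).symm.trans (homEquiv_bc A' A'' eh E)
  rw [hu, Functor.map_comp, Category.assoc, hcomp]
  have hd := d.hom.naturality (A''.unit.app E)
  dsimp at hd
  rw [reassoc_of% hd]

end Horizontal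

end Groth.L29.BC.Paste
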