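import Groth.Agent.L29.BC.Comp
import Groth.Agent.L29.BC.Paste
import Groth.Agent.L29.BC.Closure
import Groth.Agent.L29.DCoh.RpushQC

/-!
Pasting of derived base change squares.
-/

set_option autoImplicit false
set_option backward.defeqAttrib.useBackward true
set_option backward.isDefEq.respectTransparency false
set_option backward.isDefEq.respectTransparency.types false

universe u

open CategoryTheory CategoryTheory.Limits AlgebraicGeometry

attribute [local instance] HasDerivedCategory.standard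

namespace Groth.L29.BC

open Groth.L29.DC

variable {X X' X'' S S' S'' : Scheme.{u}} {f : X ⟶ S} {g : S' ⟶ S} {g' : X' ⟶ X} {f' : X' ⟶ S'}
  [DCoh.HasRpush f] [DCoh.HasRpush g] [DCoh.HasRpush f'] [DCoh.HasRpush g'] [DCoh.HasLpull g] [DCoh.HasLpull g']

theorem e_hom_comp {d : X' ⟶ S} [DCoh.HasRpush d] (w : g' ≫ f = f' ≫ g) (hd : g' ≫ f = d) (Z : DCoh.D X') :
    (e w).hom.app Z ≫ (cR (w.symm.trans hd)).hom.app Z = (cR hd).hom.app Z := by
  rw [e_eq w hd]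
  simp

section Vertical

variable {k : S'' ⟶ S'} {k' : X'' ⟶ X'} {f'' : X'' ⟶ S''}
  [DCoh.HasRpush k] [DCoh.HasRpush k'] [DCoh.HasRpush f''] [DCoh.HasLpull k] [DCoh.HasLpull k']
  [DCoh.HasRpush (k ≫ g)] [DCoh.HasLpull (k ≫ g)] [DCoh.HasRpush (k' ≫ g')] [DCoh.HasLpull (k' ≫ g')]

/-- base change for a composite square on the base -/
theorem isIso_β_vert (w₁ : g' ≫ f = f' ≫ g) (w₂ : k' ≫ f' = f'' ≫ k)
    (w : (k' ≫ g') ≫ f = f'' ≫ (k ≫ g)) (E : DCoh.D X) :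
    IsIso (β w E) ↔ IsIso ((DCoh.Lpull k).map (β w₁ E) ≫ β w₂ ((DCoh.Lpull g').obj E)) := by
  let p := g' ≫ f
  let p₂ := k' ≫ f'
  let D := k' ≫ p
  haveI := RpushQC.hasRpush p
  haveI := RpushQC.hasRpush p₂
  haveI := RpushQC.hasRpush D
  have hD : (k' ≫ g') ≫ f = D := Category.assoc _ _ _
  have hp₂ : p₂ ≫ g = D := by simp [p₂, D, p, w₁]
  let c := cR (g := k) (f := g) (h := k ≫ g) rfl
  let c' := cR (g := k') (f := g') (h := k' ≫ g') rfl
  have hcomp : ∀ Z : DCoh.D X'', (e w₁).hom.app ((DCoh.Rpush k').obj Z) ≫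
      (DCoh.Rpush g).map ((e w₂).hom.app Z) ≫ c.hom.app ((DCoh.Rpush f'').obj Z) =
      (DCoh.Rpush f).map (c'.hom.app Z) ≫ (e w).hom.app Z := fun Z => by
    rw [← cancel_mono ((cR (w.symm.trans hD)).hom.app Z)]
    simp only [Category.assoc]
    rw [e_hom_comp w hD]
    have a₁ := cR_assoc (a := f'') (b := k) (c := g) (w₂.symm.trans rfl : f'' ≫ k = p₂) (rfl : k ≫ g = k ≫ g)
      hp₂ (w.symm.trans hD) Z
    have a₂ := cR_assoc (a := k') (b := f') (c := g) (rfl : k' ≫ f' = p₂) (w₁.symm.trans rfl : f' ≫ g = p)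
      hp₂ (rfl : k' ≫ p = D) Z
    have a₃ := cR_assoc (a := k') (b := g') (c := f) (rfl : k' ≫ g' = k' ≫ g') (rfl : g' ≫ f = p)
      hD (rfl : k' ≫ p = D) Z
    erw [← a₁]
    rw [← Functor.map_comp_assoc, e_hom_comp w₂ (rfl : k' ≫ f' = p₂)]
    erw [a₂]
    refine (reassoc_of% (e_hom_comp w₁ (rfl : g' ≫ f = p) ((DCoh.Rpush k').obj Z))) _ |>.trans ?_
    exact a₃.symm
  have key := Paste.bc_vert (adj g) (adj g') (adj k) (adj k') (e w₁) (e w₂) c c' (e w) hcomp E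
  exact (Paste.isIso_bc_iff (Paste.adjComp (adj g) (adj k) c) (Paste.adjComp (adj g') (adj k') c')
    (adj (k ≫ g)) (adj (k' ≫ g')) (e w) E).trans (iff_of_eq (congrArg IsIso key))

end Vertical

section Horizontal

variable {W W' : Scheme.{u}} {h : W ⟶ X} {h' : W' ⟶ X'} {g'' : W' ⟶ W}
  [DCoh.HasRpush h] [DCoh.HasRpush h'] [DCoh.HasRpush g''] [DCoh.HasLpull g'']
  [DCoh.HasRpush (h ≫ f)] [DCoh.HasRpush (h' ≫ f')]

/-- base change for a composite square on the source -/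
theorem isIso_β_horiz (w₁ : g' ≫ f = f' ≫ g) (w₂ : g'' ≫ h = h' ≫ g')
    (w : g'' ≫ (h ≫ f) = (h' ≫ f') ≫ g) (E : DCoh.D W) :
    IsIso (β w E) ↔ IsIso (β w₁ ((DCoh.Rpush h).obj E) ≫ (DCoh.Rpush f').map (β w₂ E)) := by
  let p := g' ≫ f
  let q := g'' ≫ h
  let D := g'' ≫ (h ≫ f)
  haveI := RpushQC.hasRpush p
  haveI := RpushQC.hasRpush q
  haveI := RpushQC.hasRpush D
  have hD : h' ≫ p = D := by simp [D, p, reassoc_of% w₂]
  have hq : q ≫ f = D := Category.assoc _ _ _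
  let d := cR (g := h) (f := f) (h := h ≫ f) rfl
  let d' := cR (g := h') (f := f') (h := h' ≫ f') rfl
  have hcomp : ∀ Z : DCoh.D W', (DCoh.Rpush f).map ((e w₂).hom.app Z) ≫
      (e w₁).hom.app ((DCoh.Rpush h').obj Z) ≫ (DCoh.Rpush g).map (d'.hom.app Z) =
      d.hom.app ((DCoh.Rpush g'').obj Z) ≫ (e w).hom.app Z := fun Z => by
    rw [← cancel_mono ((cR (w.symm.trans (rfl : g'' ≫ (h ≫ f) = D))).hom.app Z)]
    simp only [Category.assoc]
    rw [e_hom_comp w (rfl : g'' ≫ (h ≫ f) = D)]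
    have a₁ := cR_assoc (a := h') (b := f') (c := g) (rfl : h' ≫ f' = h' ≫ f') (w₁.symm.trans rfl : f' ≫ g = p)
      (w.symm.trans (rfl : g'' ≫ (h ≫ f) = D)) hD Z
    have a₂ := cR_assoc (a := h') (b := g') (c := f) (w₂.symm.trans rfl : h' ≫ g' = q) (rfl : g' ≫ f = p) hq hD Z
    have a₃ := cR_assoc (a := g'') (b := h) (c := f) (rfl : g'' ≫ h = q) (rfl : h ≫ f = h ≫ f) hq
      (rfl : g'' ≫ (h ≫ f) = D) Z
    erw [a₁]
    rw [reassoc_of% (e_hom_comp w₁ (rfl : g' ≫ f = p) ((DCoh.Rpush h').obj Z))]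
    erw [← a₂]
    rw [← Functor.map_comp_assoc, e_hom_comp w₂ (rfl : g'' ≫ h = q)]
    exact a₃
  have key := Paste.bc_horiz (adj g) (adj g') (adj g'') (e w₁) (e w₂) d d' (e w) hcomp E
  haveI : IsIso ((DCoh.Lpull g).map (d.hom.app E)) := inferInstance
  haveI : IsIso (d'.hom.app ((DCoh.Lpull g'').obj E)) := inferInstance
  let m₁ := Paste.bc (adj g) (adj g') (e w₁) ((DCoh.Rpush h).obj E)
  let m₂ := (DCoh.Rpush f').map (Paste.bc (adj g') (adj g'') (e w₂) E)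
  have key' : (DCoh.Lpull g).map (d.hom.app E) ≫ β w E = (m₁ ≫ m₂) ≫ d'.hom.app ((DCoh.Lpull g'').obj E) :=
    key.trans (Category.assoc _ _ _).symm
  constructor <;> intro hi
  · have : IsIso ((m₁ ≫ m₂) ≫ d'.hom.app ((DCoh.Lpull g'').obj E)) := key' ▸ IsIso.comp_isIso' inferInstance hi
    exact IsIso.of_isIso_comp_right (m₁ ≫ m₂) (d'.hom.app ((DCoh.Lpull g'').obj E))
  · have : IsIso ((DCoh.Lpull g).map (d.hom.app E) ≫ β w E) := key'.symm ▸ IsIso.comp_isIso' hi inferInstance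
    exact IsIso.of_isIso_comp_left ((DCoh.Lpull g).map (d.hom.app E)) _

end Horizontal

end Groth.L29.BC
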