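import Groth.Agent.L29.DCoh.ProjQis
import Groth.Agent.L29.DCoh.ProjFormulaD
import Groth.Agent.L29.DCoh.QCohColim
import Groth.Agent.L29.DCoh.QCohTensor
import Groth.Agent.L29.DCoh.Gen.QAdj
import Groth.Agent.S1054

/-!
The class of complexes on which the projection map is invertible is closed under coproducts.
-/

set_option autoImplicit false
set_option backward.defeqAttrib.useBackward true
set_option backward.isDefEq.respectTransparency false
set_option backward.isDefEq.respectTransparency.types false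

universe u

open CategoryTheory CategoryTheory.Limits AlgebraicGeometry

attribute [local instance] HasDerivedCategory.standard

namespace Groth.L29.BC.ProjQC

open Groth.L00 Groth.L29.DC

/-- extending a functor to complexes preserves colimits -/
theorem preservesColimits_mapCx {C D : Type*} [Category C] [Category D] [Preadditive C] [Preadditive D]
    (G : C ⥤ D) [G.Additive] {ι : Type u} [HasColimitsOfShape (Discrete ι) C] [PreservesColimitsOfShape (Discrete ι) G] :
    PreservesColimitsOfShape (Discrete ι) (G.mapHomologicalComplex (ComplexShape.up ℤ)) :=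
  HomologicalComplex.preservesColimitsOfShape_of_eval _ fun i => by
    change PreservesColimitsOfShape (Discrete ι) (HomologicalComplex.eval C (ComplexShape.up ℤ) i ⋙ G)
    infer_instance

/-- the derived direct image preserves colimit cofans of objects with quasi-coherent cohomology -/
theorem isColimit_Rpush_cofan {X Y : Scheme.{u}} (g : X ⟶ Y) [QuasiCompact g] [QuasiSeparated g] [DCoh.HasRpush g]
    {ι : Type u} {K : ι → DCoh.D X} (c : Cofan K) (hc : IsColimit c) (hK : ∀ i, DCoh.IsQCohD (K i)) :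
    Nonempty (IsColimit (Cofan.mk ((DCoh.Rpush g).obj c.pt) fun i => (DCoh.Rpush g).map (c.inj i))) := by
  haveI := Gen.hasCoproducts_D X ι
  haveI := Gen.hasCoproducts_D Y ι
  haveI := QCohColim.isIso_sigma_desc g K hK
  let e : ∐ K ≅ c.pt := (colimit.isColimit (Discrete.functor K)).coconePointUniqueUpToIso hc
  have he : ∀ i, Sigma.ι K i ≫ e.hom = c.inj i := fun i =>
    IsColimit.comp_coconePointUniqueUpToIso_hom _ _ _
  haveI : IsIso (Sigma.desc fun i => (DCoh.Rpush g).map (c.inj i)) := by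
    rw [show (Sigma.desc fun i => (DCoh.Rpush g).map (c.inj i)) =
      Sigma.desc (fun i => (DCoh.Rpush g).map (Sigma.ι K i)) ≫ (DCoh.Rpush g).map e.hom from
      Sigma.hom_ext _ _ fun i => by rw [Sigma.ι_desc, Sigma.ι_desc_assoc, ← Functor.map_comp, he]]
    infer_instance
  haveI : IsIso (Sigma.desc (Cofan.mk ((DCoh.Rpush g).obj c.pt) fun i => (DCoh.Rpush g).map (c.inj i)).inj) := ‹_›
  exact ⟨Cofan.isColimitOfIsIsoSigmaDesc _⟩

/-- comparison of two colimit cofans along isomorphisms -/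
theorem isIso_of_cofans {C : Type*} [Category C] {ι : Type*} {K L : ι → C} {S T : C} {p : ∀ i, K i ⟶ S}
    {q : ∀ i, L i ⟶ T} (hS : IsColimit (Cofan.mk S p)) (hT : IsColimit (Cofan.mk T q)) (τ : ∀ i, K i ⟶ L i)
    [∀ i, IsIso (τ i)] (φ : S ⟶ T) (sq : ∀ i, τ i ≫ q i = p i ≫ φ) : IsIso φ := by
  let α : Discrete.functor K ≅ Discrete.functor L := Discrete.natIso fun i => asIso (τ i.as)
  let e := hS.coconePointUniqueUpToIso ((IsColimit.precomposeHomEquiv α _).symm hT)
  have he : φ = e.hom := hS.hom_ext fun ⟨i⟩ => by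
    rw [IsColimit.comp_coconePointUniqueUpToIso_hom]
    exact (sq i).symm
  rw [he]
  infer_instance

/-- transport of a colimit cofan along isomorphisms -/
theorem isColimit_of_isos {C : Type*} [Category C] {ι : Type*} {K L : ι → C} {S T : C} {p : ∀ i, K i ⟶ S}
    {q : ∀ i, L i ⟶ T} (hS : IsColimit (Cofan.mk S p)) (τ : ∀ i, K i ⟶ L i)
    [∀ i, IsIso (τ i)] (φ : S ⟶ T) [IsIso φ] (sq : ∀ i, τ i ≫ q i = p i ≫ φ) :
    Nonempty (IsColimit (Cofan.mk T q)) := by
  let α : Discrete.functor K ≅ Discrete.functor L := Discrete.natIso fun i => asIso (τ i.as)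
  refine ⟨IsColimit.ofIsoColimit ((IsColimit.precomposeInvEquiv α _).symm hS) (Cofan.ext (asIso φ) fun i => ?_)⟩
  change (inv (τ i) ≫ p i) ≫ φ = q i
  rw [Category.assoc, ← sq i, IsIso.inv_hom_id_assoc]

/-- coproducts of complexes give colimit cofans in the derived category -/
theorem isColimit_QL {A B : Scheme.{u}} (L : CochainComplex A.Modules ℤ ⥤ CochainComplex B.Modules ℤ) {ι : Type u}
    [PreservesColimitsOfShape (Discrete ι) L] (F : ι → CochainComplex A.Modules ℤ) :
    Nonempty (IsColimit (Cofan.mk (DerivedCategory.Q.obj (L.obj (∐ F))) fun i =>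
      DerivedCategory.Q.map (L.map (Sigma.ι F i)))) := by
  obtain ⟨h2⟩ := RpushColim.isColimit_Q_cofan fun i => L.obj (F i)
  exact ⟨IsColimit.ofIsoColimit h2 (Cofan.ext (DerivedCategory.Q.mapIso
    ((PreservesCoproduct.iso L F).symm)) fun i => by
      change DerivedCategory.Q.map _ ≫ DerivedCategory.Q.map _ = DerivedCategory.Q.map _
      rw [← Functor.map_comp]
      exact congrArg _ (ι_comp_sigmaComparison L F i))⟩

section

variable {X Y : Scheme.{u}} (f : X ⟶ Y) [QuasiCompact f] [QuasiSeparated f]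
  (I : CochainComplex X.Modules ℤ) [I.IsKInjective]

variable (V : Y.Opens)

/-- direct images of restrictions preserve colimit cofans -/
theorem isColimit_push_cofan [DCoh.HasRpush (f ∣_ V)] {ι : Type u} {J' : ι → CochainComplex X.Modules ℤ}
    {J : CochainComplex X.Modules ℤ} [∀ i, (J' i).IsKInjective] [J.IsKInjective] (a : ∀ i, J' i ⟶ J)
    (h2 : IsColimit (Cofan.mk (DerivedCategory.Q.obj ((ExtZero.rCx (f ⁻¹ᵁ V).ι).obj J))
      fun i => DerivedCategory.Q.map ((ExtZero.rCx (f ⁻¹ᵁ V).ι).map (a i))))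
    (hq' : ∀ i, DCoh.IsQCohD (DerivedCategory.Q.obj ((ExtZero.rCx (f ⁻¹ᵁ V).ι).obj (J' i)))) :
    Nonempty (IsColimit (Cofan.mk (DerivedCategory.Q.obj ((ExtZero.rCx V.ι).obj ((Proj.pushCx f).obj J))) fun i =>
      DerivedCategory.Q.map ((ExtZero.rCx V.ι).map ((Proj.pushCx f).map (a i))))) := by
  let g := f ∣_ V
  let ι' := (f ⁻¹ᵁ V).ι
  have w : g ≫ V.ι = ι' ≫ f := morphismRestrict_ι f V
  haveI : QuasiCompact g := IsZariskiLocalAtTarget.restrict ‹QuasiCompact f› V
  haveI : QuasiSeparated g := IsZariskiLocalAtTarget.restrict ‹QuasiSeparated f› V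
  haveI := Groth.L17.PushQCoh.additive_push f
  haveI := Groth.L17.PushQCoh.additive_push g
  haveI := QRlim.enoughKInj (f ⁻¹ᵁ V : Scheme.{u})
  haveI := ExtZero.preservesFiniteLimits V.ι
  haveI := ExtZero.preservesFiniteLimits ι'
  let Φ := ExtZero.rCx V.ι ⋙ DerivedCategory.Q
  let Ψ := ExtZero.rCx ι' ⋙ DerivedCategory.Q
  obtain ⟨h4⟩ := isColimit_Rpush_cofan g _ h2 hq'
  let η := (DCoh.pushKh g).totalRightDerivedUnit DerivedCategory.Qh
    (HomotopyCategory.quasiIso (f ⁻¹ᵁ V : Scheme.{u}).Modules (ComplexShape.up ℤ))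
  let qI := DerivedCategory.quotientCompQhIso (f ⁻¹ᵁ V : Scheme.{u}).Modules
  let qV := DerivedCategory.quotientCompQhIso (V : Scheme.{u}).Modules
  let E : Proj.pushCx f ⋙ ExtZero.rCx V.ι ≅ ExtZero.rCx ι' ⋙ Proj.pushCx g :=
    DerivedApi.mapCxCompIso (Scheme.Modules.pushforward f) (Scheme.Modules.restrictFunctor V.ι) ≪≫
      NatIso.mapHomologicalComplex (Groth.L17.PushQCoh.pushRestrictIso f V.ι ι' g
        (by rw [Scheme.Opens.opensRange_ι, Scheme.Opens.opensRange_ι]) w) (ComplexShape.up ℤ) ≪≫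
      (DerivedApi.mapCxCompIso (Scheme.Modules.restrictFunctor ι') (Scheme.Modules.pushforward g)).symm
  -- the natural comparison
  let N : Proj.pushCx f ⋙ Φ ⟶ ExtZero.rCx ι' ⋙ DerivedCategory.Q ⋙ DCoh.Rpush g :=
    { app := fun M => DerivedCategory.Q.map (E.hom.app M) ≫
        qV.inv.app ((Proj.pushCx g).obj ((ExtZero.rCx ι').obj M)) ≫
        η.app ((HomotopyCategory.quotient _ _).obj ((ExtZero.rCx ι').obj M)) ≫
        (DCoh.Rpush g).map (qI.hom.app ((ExtZero.rCx ι').obj M))
      naturality := fun M M' m => by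
        have h1 := E.hom.naturality m
        have h2 := qV.inv.naturality ((Proj.pushCx g).map ((ExtZero.rCx ι').map m))
        have h3 := η.naturality ((HomotopyCategory.quotient _ _).map ((ExtZero.rCx ι').map m))
        have h4 := qI.hom.naturality ((ExtZero.rCx ι').map m)
        dsimp at h1 h2 h3 h4 ⊢
        change DerivedCategory.Q.map _ ≫ _ = _
        rw [← Category.assoc, ← Functor.map_comp]
        erw [h1]
        rw [Functor.map_comp]
        simp only [Category.assoc]
        erw [reassoc_of% h2, reassoc_of% h3]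
        rw [← Functor.map_comp]
        erw [h4]
        rw [Functor.map_comp]
        }
  have hN : ∀ (M : CochainComplex X.Modules ℤ) [M.IsKInjective], IsIso (N.app M) := fun M _ => by
    haveI := RpushRes.isKInjective_res ι' M
    haveI : IsIso (η.app ((HomotopyCategory.quotient _ _).obj ((ExtZero.rCx ι').obj M))) :=
      Groth.L10.KInjDerived.isIso_app_quotient (RF := DCoh.Rpush g) η _
    dsimp [N]
    infer_instance
  let α : Discrete.functor (fun i => (Proj.pushCx f ⋙ Φ).obj (J' i)) ≅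
      Discrete.functor fun i => (DCoh.Rpush g).obj (Ψ.obj (J' i)) :=
    Discrete.natIso fun i => @asIso _ _ _ _ (N.app (J' i.as)) (hN (J' i.as))
  haveI := hN J
  exact ⟨IsColimit.ofIsoColimit ((IsColimit.precomposeHomEquiv α _).symm h4)
    (Cofan.ext (asIso (N.app J)).symm fun i => by
      have hn := N.naturality (a i)
      change (N.app (J' i) ≫ (DCoh.Rpush g).map (Ψ.map (a i))) ≫ inv (N.app J) = _
      rw [IsIso.comp_inv_eq]
      exact hn.symm)⟩

/-- the tensor product with a pullback keeps quasi-coherent cohomology over the open -/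
theorem isQCohD_res_T (hI : DCoh.IsQCohD (DerivedCategory.Q.obj I)) {G : CochainComplex Y.Modules ℤ}
    (hK : DCoh.IsKFlat G) (hq : DCoh.IsQCohD (DerivedCategory.Q.obj ((ExtZero.rCx V.ι).obj G))) :
    DCoh.IsQCohD (DerivedCategory.Q.obj ((ExtZero.rCx (f ⁻¹ᵁ V).ι).obj (ProjQis.T f I G))) := by
  let g := f ∣_ V
  let ι' := (f ⁻¹ᵁ V).ι
  have w : g ≫ V.ι = ι' ≫ f := morphismRestrict_ι f V
  haveI := ExtZero.preservesFiniteLimits ι'
  haveI := KFlat.hasLpull g
  haveI : (Scheme.Modules.pullback f).Additive :=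
    (Scheme.Modules.pullbackPushforwardAdjunction f).left_adjoint_additive
  haveI : (Scheme.Modules.pullback g).Additive :=
    (Scheme.Modules.pullbackPushforwardAdjunction g).left_adjoint_additive
  let A := (ExtZero.rCx ι').obj I
  let B := (ExtZero.rCx ι').obj ((Proj.pullCx f).obj G)
  haveI : DCoh.HasLTensorCx A := KFlat.hasLTensorCx A
  obtain ⟨eT⟩ := nonempty_LTensorCx_iso A B (isKFlat_restrict ι' (KFlat.pullback_kflat f G hK))
  refine isQCohD_of_iso (eT ≪≫ DerivedCategory.Q.mapIso (KFlat.commIso A B ≪≫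
    restrictTensorCxIso ι' I ((Proj.pullCx f).obj G))) ?_
  refine isQCohD_LTensorCx A (isQCohD_of_iso ((ExtZero.res ι').mapDerivedCategoryFactors.app I)
    (isQCohD_restrictD ι' hI)) ?_
  let e : (Proj.pullCx g).obj ((ExtZero.rCx V.ι).obj G) ≅ B :=
    (DerivedApi.mapCxCompIso (Scheme.Modules.restrictFunctor V.ι) (Scheme.Modules.pullback g)).app G ≪≫
      (NatIso.mapHomologicalComplex (ProjQis.pullResIso f V.ι ι' g w).symm (ComplexShape.up ℤ)).app G ≪≫
      ((DerivedApi.mapCxCompIso (Scheme.Modules.pullback f) (Scheme.Modules.restrictFunctor ι')).app G).symm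
  exact isQCohD_of_iso (Groth.L00.DerivedApi.objIso (Groth.L00.DerivedApi.acyclicKFlat_pullback g) _
    (isKFlat_restrict V.ι hK) ≪≫ DerivedCategory.Q.mapIso e) (Groth.Agent.S1054.result g _ hq)

omit [QuasiCompact f] [QuasiSeparated f] [I.IsKInjective] in
theorem preservesColimits_resT (ι : Type u) : PreservesColimitsOfShape (Discrete ι)
    (Proj.pullCx f ⋙ DCoh.tensorCx.obj I ⋙ ExtZero.rCx (f ⁻¹ᵁ V).ι) := by
  haveI : (Scheme.Modules.pullback f).Additive :=
    (Scheme.Modules.pullbackPushforwardAdjunction f).left_adjoint_additive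
  haveI : PreservesColimitsOfShape (Discrete ι) (Proj.pullCx f) := preservesColimits_mapCx (Scheme.Modules.pullback f)
  haveI : PreservesColimitsOfShape (Discrete ι) (ExtZero.rCx (f ⁻¹ᵁ V).ι) :=
    preservesColimits_mapCx (ExtZero.res (f ⁻¹ᵁ V).ι)
  infer_instance

omit [QuasiCompact f] [QuasiSeparated f] [I.IsKInjective] in
theorem preservesColimits_resTensor (pI : CochainComplex Y.Modules ℤ) (ι : Type u) :
    PreservesColimitsOfShape (Discrete ι) (DCoh.tensorCx.obj pI ⋙ ExtZero.rCx V.ι) := by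
  haveI : PreservesColimitsOfShape (Discrete ι) (ExtZero.rCx V.ι) := preservesColimits_mapCx (ExtZero.res V.ι)
  infer_instance

omit [QuasiCompact f] [QuasiSeparated f] in
/-- maps between injective resolutions lifting a given map -/
theorem exists_lift {G G' : CochainComplex Y.Modules ℤ} (m : G ⟶ G') {J J' : CochainComplex X.Modules ℤ}
    [J'.IsKInjective] (r : ProjQis.T f I G ⟶ J) [QuasiIso r] (r' : ProjQis.T f I G' ⟶ J') :
    ∃ a : J ⟶ J',
      DerivedCategory.Q.map ((ExtZero.rCx (f ⁻¹ᵁ V).ι).map r) ≫ DerivedCategory.Q.map ((ExtZero.rCx (f ⁻¹ᵁ V).ι).map a) =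
        DerivedCategory.Q.map ((ExtZero.rCx (f ⁻¹ᵁ V).ι).map ((DCoh.tensorCx.obj I).map ((Proj.pullCx f).map m))) ≫
          DerivedCategory.Q.map ((ExtZero.rCx (f ⁻¹ᵁ V).ι).map r') ∧
      DerivedCategory.Q.map ((ExtZero.rCx V.ι).map (ProjQis.cmp f I G r)) ≫
          DerivedCategory.Q.map ((ExtZero.rCx V.ι).map ((Proj.pushCx f).map a)) =
        DerivedCategory.Q.map ((ExtZero.rCx V.ι).map ((DCoh.tensorCx.obj ((Proj.pushCx f).obj I)).map m)) ≫
          DerivedCategory.Q.map ((ExtZero.rCx V.ι).map (ProjQis.cmp f I G' r')) := by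
  haveI := Groth.L17.PushQCoh.additive_push f
  haveI := ExtZero.preservesFiniteLimits V.ι
  haveI := ExtZero.preservesFiniteLimits (f ⁻¹ᵁ V).ι
  let q := HomotopyCategory.quotient X.Modules (ComplexShape.up ℤ)
  have hri : HomotopyCategory.quasiIso X.Modules _ (q.map r) :=
    (HomotopyCategory.quotient_map_mem_quasiIso_iff _).2 ((HomologicalComplex.mem_quasiIso_iff _).2 inferInstance)
  obtain ⟨φ, hφ⟩ := (Groth.L10.KInjDerived.precomp_bijective (q.map r) hri ⟨q.obj J', ‹J'.IsKInjective›⟩).surjective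
    (q.map ((DCoh.tensorCx.obj I).map ((Proj.pullCx f).map m) ≫ r'))
  obtain ⟨a, rfl⟩ := q.map_surjective φ
  let ha : Homotopy (r ≫ a) ((DCoh.tensorCx.obj I).map ((Proj.pullCx f).map m) ≫ r') :=
    HomotopyCategory.homotopyOfEq _ _ ((q.map_comp _ _).trans hφ)
  refine ⟨a, ?_, ?_⟩
  · simp only [← Functor.map_comp]
    exact DerivedCategory.Q_map_eq_of_homotopy _ ((ExtZero.res (f ⁻¹ᵁ V).ι).mapHomotopy ha)
  · simp only [← Functor.map_comp]
    refine DerivedCategory.Q_map_eq_of_homotopy _ ((ExtZero.res V.ι).mapHomotopy ?_)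
    refine (Homotopy.ofEq ?_).trans (((((Scheme.Modules.pushforward f).mapHomotopy ha)).compLeft
      (Proj.proj f I G)).trans (Homotopy.ofEq ?_))
    · exact (Category.assoc _ _ _).trans (congrArg (_ ≫ ·) ((Proj.pushCx f).map_comp _ _).symm)
    · refine (congrArg (Proj.proj f I G ≫ ·) ((Proj.pushCx f).map_comp _ _)).trans ?_
      refine (Category.assoc _ _ _).symm.trans ((congrArg (· ≫ _) (Proj.proj_natural f I G m).symm).trans ?_)
      exact Category.assoc _ _ _

/-- `Good` is closed under coproducts of complexes with quasi-coherent cohomology over the open -/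
theorem good_coproduct (hI : DCoh.IsQCohD (DerivedCategory.Q.obj I)) {ι : Type u}
    (F : ι → CochainComplex Y.Modules ℤ) (hK : ∀ i, DCoh.IsKFlat (F i))
    (hq : ∀ i, DCoh.IsQCohD (DerivedCategory.Q.obj ((ExtZero.rCx V.ι).obj (F i))))
    (h : ∀ i, ProjQis.Good f I V.ι (F i)) : ProjQis.Good f I V.ι (∐ F) := by
  intro J _ r _
  haveI := RpushQC.hasRpush (f ∣_ V)
  haveI := ExtZero.preservesFiniteLimits V.ι
  haveI := ExtZero.preservesFiniteLimits (f ⁻¹ᵁ V).ι
  choose J' r' hJ' hr' using fun i => ProjFormulaD.exists_kinj (ProjQis.T f I (F i))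
  choose a ha ha' using fun i => haveI := hJ' i; haveI := hr' i; exists_lift f I V (Sigma.ι F i) (r' i) r
  haveI := preservesColimits_resTensor V ((Proj.pushCx f).obj I) ι
  haveI := preservesColimits_resT f I V ι
  obtain ⟨hS⟩ := isColimit_QL (DCoh.tensorCx.obj ((Proj.pushCx f).obj I) ⋙ ExtZero.rCx V.ι) F
  obtain ⟨h1⟩ := isColimit_QL (Proj.pullCx f ⋙ DCoh.tensorCx.obj I ⋙ ExtZero.rCx (f ⁻¹ᵁ V).ι) F
  haveI : ∀ i, IsIso (DerivedCategory.Q.map ((ExtZero.rCx (f ⁻¹ᵁ V).ι).map (r' i))) := fun i => by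
    haveI := hr' i
    exact (DerivedCategory.isIso_Q_map_iff_quasiIso _ _).2 inferInstance
  haveI : IsIso (DerivedCategory.Q.map ((ExtZero.rCx (f ⁻¹ᵁ V).ι).map r)) :=
    (DerivedCategory.isIso_Q_map_iff_quasiIso _ _).2 inferInstance
  obtain ⟨h2⟩ := isColimit_of_isos h1 (fun i => DerivedCategory.Q.map ((ExtZero.rCx (f ⁻¹ᵁ V).ι).map (r' i)))
    (DerivedCategory.Q.map ((ExtZero.rCx (f ⁻¹ᵁ V).ι).map r)) ha
  obtain ⟨hT⟩ := isColimit_push_cofan f V a h2 fun i =>
    isQCohD_of_iso (asIso (DerivedCategory.Q.map ((ExtZero.rCx (f ⁻¹ᵁ V).ι).map (r' i))))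
      (isQCohD_res_T f I V hI (hK i) (hq i))
  exact @isIso_of_cofans _ _ _ _ _ _ _ _ _ hS hT
    (fun i => DerivedCategory.Q.map ((ExtZero.rCx V.ι).map (ProjQis.cmp f I (F i) (r' i))))
    (fun i => haveI := hr' i; haveI := hJ' i; h i (J' i) (r' i)) _ ha'

end

end Groth.L29.BC.ProjQC
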