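import Groth.Agent.L29.BC.Adj
import Groth.Prelude.Def_DCoh3

/-!
The derived base change morphism on representatives.
-/

set_option autoImplicit false
set_option backward.defeqAttrib.useBackward true
set_option backward.isDefEq.respectTransparency false
set_option backward.isDefEq.respectTransparency.types false

universe u

open CategoryTheory CategoryTheory.Limits AlgebraicGeometry

attribute [local instance] HasDerivedCategory.standard

namespace Groth.L29.BC

open Groth.L00

variable {X Y Z : Scheme.{u}}

local notation "KH" X => HomotopyCategory (Scheme.Modules X) (ComplexShape.up ℤ)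

/-- the unit of a composite of derived direct images -/
noncomputable def θ (g : X ⟶ Y) (f : Y ⟶ Z) [DCoh.HasRpush g] [DCoh.HasRpush f] :
    RpushComp.push g ⋙ DCoh.pushKh f ⟶ DerivedCategory.Qh ⋙ (DCoh.Rpush g ⋙ DCoh.Rpush f) :=
  Functor.whiskerLeft (RpushComp.push g) (ηR f) ≫ (Functor.associator _ _ _).inv ≫
    Functor.whiskerRight (ηR g) (DCoh.Rpush f) ≫ (Functor.associator _ _ _).hom

theorem θ_app (g : X ⟶ Y) (f : Y ⟶ Z) [DCoh.HasRpush g] [DCoh.HasRpush f] (J : KH X) :
    (θ g f).app J = (ηR f).app ((RpushComp.push g).obj J) ≫ (DCoh.Rpush f).map ((ηR g).app J) := by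
  simp only [θ, NatTrans.comp_app, Functor.whiskerLeft_app, Functor.associator_inv_app,
    Functor.whiskerRight_app, Functor.associator_hom_app, Category.comp_id]
  exact congrArg _ (Category.id_comp _)

theorem isRightDerived_θ (g : X ⟶ Y) (f : Y ⟶ Z) [DCoh.HasRpush g] [DCoh.HasRpush f] :
    (DCoh.Rpush g ⋙ DCoh.Rpush f).IsRightDerivedFunctor (θ g f)
      (HomotopyCategory.quasiIso X.Modules (ComplexShape.up ℤ)) := by
  haveI := Groth.L00.Tensor.grothendieckAbelian_modules X
  refine Groth.L10.KInjDerived.isRightDerivedFunctor_of_isIso _ fun I hI => ?_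
  haveI := isIso_ηR g I
  haveI : IsIso ((ηR f).app ((RpushComp.push g).obj ((HomotopyCategory.quotient X.Modules (ComplexShape.up ℤ)).obj I))) :=
    RpushComp.isIso_unit f _ (RpushComp.wk_push g (RpushComp.wk_kInjective _ hI))
  rw [θ_app]
  infer_instance

variable {X' S S' : Scheme.{u}} {f : X ⟶ S} {g : S' ⟶ S} {g' : X' ⟶ X} {f' : X' ⟶ S'}

/-- the two direct images of a commutative square agree -/
noncomputable def swapMod (w : g' ≫ f = f' ≫ g) :
    Scheme.Modules.pushforward g' ⋙ Scheme.Modules.pushforward f ≅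
      Scheme.Modules.pushforward f' ⋙ Scheme.Modules.pushforward g :=
  Scheme.Modules.pushforwardComp g' f ≪≫ Scheme.Modules.pushforwardCongr w ≪≫ (Scheme.Modules.pushforwardComp f' g).symm

/-- the same on homotopy categories -/
noncomputable def swapK (w : g' ≫ f = f' ≫ g) :
    RpushComp.push g' ⋙ RpushComp.push f ≅ RpushComp.push f' ⋙ RpushComp.push g :=
  NatIso.ofComponents (fun P => (HomotopyCategory.quotient S.Modules (ComplexShape.up ℤ)).mapIso
      (HomologicalComplex.Hom.isoOfComponents (fun i => (swapMod w).app (P.as.X i))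
        (fun i j _ => ((swapMod w).hom.naturality (P.as.d i j)).symm)))
    fun {P Q} φ => by
      obtain ⟨φ, rfl⟩ := (HomotopyCategory.quotient X'.Modules (ComplexShape.up ℤ)).map_surjective (X := P.as) (Y := Q.as) φ
      refine ((HomotopyCategory.quotient S.Modules (ComplexShape.up ℤ)).map_comp _ _).symm.trans
        (Eq.trans (congrArg _ ?_) ((HomotopyCategory.quotient S.Modules (ComplexShape.up ℤ)).map_comp _ _))
      ext i : 1
      exact (swapMod w).hom.naturality (φ.f i)

variable [DCoh.HasRpush f] [DCoh.HasRpush g] [DCoh.HasRpush f'] [DCoh.HasRpush g']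

/-- the unit of the composite transported along the square -/
noncomputable def θ' (w : g' ≫ f = f' ≫ g) :
    RpushComp.push g' ⋙ DCoh.pushKh f ⟶ DerivedCategory.Qh ⋙ (DCoh.Rpush f' ⋙ DCoh.Rpush g) :=
  (Functor.associator _ _ _).inv ≫ Functor.whiskerRight (swapK w).hom DerivedCategory.Qh ≫
    (Functor.associator _ _ _).hom ≫ θ f' g

theorem θ'_app (w : g' ≫ f = f' ≫ g) (J : KH X') :
    (θ' w).app J = DerivedCategory.Qh.map ((swapK w).hom.app J) ≫ (θ f' g).app J := by
  simp only [θ', NatTrans.comp_app, Functor.associator_inv_app, Functor.whiskerRight_app, Functor.associator_hom_app]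
  exact (Category.id_comp _).trans (congrArg _ (Category.id_comp _))

theorem isRightDerived_θ' (w : g' ≫ f = f' ≫ g) :
    (DCoh.Rpush f' ⋙ DCoh.Rpush g).IsRightDerivedFunctor (θ' w)
      (HomotopyCategory.quasiIso X'.Modules (ComplexShape.up ℤ)) := by
  haveI := Groth.L00.Tensor.grothendieckAbelian_modules X'
  haveI := isRightDerived_θ f' g
  refine Groth.L10.KInjDerived.isRightDerivedFunctor_of_isIso _ fun I hI => ?_
  haveI := Groth.L10.KInjDerived.isIso_app_quotient (RF := DCoh.Rpush f' ⋙ DCoh.Rpush g) (θ f' g) I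
  rw [θ'_app]
  infer_instance

/-- the identification of the two composites of derived direct images -/
noncomputable def e (w : g' ≫ f = f' ≫ g) :
    DCoh.Rpush g' ⋙ DCoh.Rpush f ≅ DCoh.Rpush f' ⋙ DCoh.Rpush g :=
  haveI := isRightDerived_θ g' f
  haveI := isRightDerived_θ' w
  Functor.rightDerivedUnique _ _ (θ g' f) (θ' w) (HomotopyCategory.quasiIso X'.Modules (ComplexShape.up ℤ))

theorem e_fac (w : g' ≫ f = f' ≫ g) (J : KH X') :
    (θ g' f).app J ≫ (e w).hom.app (DerivedCategory.Qh.obj J) = (θ' w).app J := by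
  haveI := isRightDerived_θ g' f
  haveI := isRightDerived_θ' w
  refine (Functor.rightDerivedNatTrans_app (DCoh.Rpush g' ⋙ DCoh.Rpush f) (DCoh.Rpush f' ⋙ DCoh.Rpush g) (θ g' f) (θ' w)
    (HomotopyCategory.quasiIso X'.Modules (ComplexShape.up ℤ)) (𝟙 _) J).trans ?_
  simp

/-- the underived base change morphism on homotopy categories -/
noncomputable def bK (w : g' ≫ f = f' ≫ g) (F : KH X) :
    ((Scheme.Modules.pullback g).mapHomotopyCategory (ComplexShape.up ℤ)).obj ((RpushComp.push f).obj F) ⟶
      (RpushComp.push f').obj (((Scheme.Modules.pullback g').mapHomotopyCategory (ComplexShape.up ℤ)).obj F) :=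
  ((adjK g).homEquiv _ _).symm ((RpushComp.push f).map ((adjK g').unit.app F) ≫ (swapK w).hom.app _)

variable [DCoh.HasLpull g] [DCoh.HasLpull g']

/-- the base change morphism on a representative -/
theorem baseChangeApp_fac (w : g' ≫ f = f' ≫ g) (F : KH X) :
    (DCoh.Lpull g).map ((ηR f).app F) ≫ DCoh.baseChangeApp (adj g) (adj g') (e w) (DerivedCategory.Qh.obj F) ≫
        (DCoh.Rpush f').map ((αL g').app F) =
      (αL g).app ((RpushComp.push f).obj F) ≫ DerivedCategory.Qh.map (bK w F) ≫
        (ηR f').app (((Scheme.Modules.pullback g').mapHomotopyCategory (ComplexShape.up ℤ)).obj F) := by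
  let G := ((Scheme.Modules.pullback g').mapHomotopyCategory (ComplexShape.up ℤ)).obj F
  refine ((adj g).homEquiv _ _).injective ?_
  have hl : ((adj g).homEquiv _ _) ((DCoh.Lpull g).map ((ηR f).app F) ≫
        DCoh.baseChangeApp (adj g) (adj g') (e w) (DerivedCategory.Qh.obj F) ≫ (DCoh.Rpush f').map ((αL g').app F)) =
      (ηR f).app F ≫ ((DCoh.Rpush f).map ((adj g').unit.app (DerivedCategory.Qh.obj F)) ≫
        (e w).hom.app _) ≫ (DCoh.Rpush g).map ((DCoh.Rpush f').map ((αL g').app F)) := by
    refine ((adj g).homEquiv_naturality_left _ _).trans (congrArg _ ?_)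
    refine ((adj g).homEquiv_naturality_right _ _).trans ?_
    exact congrArg (· ≫ _) (Equiv.apply_symm_apply _ _)
  have hr : ((adj g).homEquiv _ _) ((αL g).app ((RpushComp.push f).obj F) ≫ DerivedCategory.Qh.map (bK w F) ≫
        (ηR f').app G) =
      DerivedCategory.Qh.map ((RpushComp.push f).map ((adjK g').unit.app F) ≫ (swapK w).hom.app G) ≫
        (θ f' g).app G := by
    rw [θ_app]
    have h1 : (ηR g).app (((Scheme.Modules.pullback g).mapHomotopyCategory (ComplexShape.up ℤ)).obj ((RpushComp.push f).obj F)) ≫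
          (DCoh.Rpush g).map (DerivedCategory.Qh.map (bK w F)) =
        DerivedCategory.Qh.map ((RpushComp.push g).map (bK w F)) ≫ (ηR g).app ((RpushComp.push f').obj G) :=
      ((ηR g).naturality (bK w F)).symm
    have h0 : (adjK g).unit.app ((RpushComp.push f).obj F) ≫ (RpushComp.push g).map (bK w F) =
        (RpushComp.push f).map ((adjK g').unit.app F) ≫ (swapK w).hom.app G :=
      ((adjK g).homEquiv_unit _ _ _).symm.trans (Equiv.apply_symm_apply _ _)
    refine ((adj g).homEquiv_naturality_right _ _).trans ?_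
    have hα : (adj g).homEquiv (DerivedCategory.Qh.obj ((RpushComp.push f).obj F)) _ ((αL g).app ((RpushComp.push f).obj F)) =
        DerivedCategory.Qh.map ((adjK g).unit.app ((RpushComp.push f).obj F)) ≫
          (ηR g).app (((Scheme.Modules.pullback g).mapHomotopyCategory (ComplexShape.up ℤ)).obj ((RpushComp.push f).obj F)) :=
      ((adj g).homEquiv_unit _ _ _).trans (adj_unit_fac g _)
    erw [hα, Functor.map_comp]
    refine (Category.assoc _ _ _).trans ?_
    erw [reassoc_of% h1]
    refine (Category.assoc _ _ _).symm.trans (congrArg (fun t => t ≫ ((ηR g).app ((RpushComp.push f').obj G) ≫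
      (DCoh.Rpush g).map ((ηR f').app G))) ?_)
    exact (DerivedCategory.Qh.map_comp _ _).symm.trans (congrArg DerivedCategory.Qh.map h0)
  refine hl.trans (Eq.trans ?_ hr.symm)
  have h2 := (e w).hom.naturality ((αL g').app F)
  dsimp at h2
  have h3 := adj_unit_fac g' F
  have h4 := (ηR f).naturality ((adjK g').unit.app F)
  dsimp at h4
  have h5 := e_fac w G
  rw [θ_app, θ'_app] at h5
  calc (ηR f).app F ≫ ((DCoh.Rpush f).map ((adj g').unit.app (DerivedCategory.Qh.obj F)) ≫ (e w).hom.app _) ≫
        (DCoh.Rpush g).map ((DCoh.Rpush f').map ((αL g').app F))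
      = (ηR f).app F ≫ (DCoh.Rpush f).map ((adj g').unit.app (DerivedCategory.Qh.obj F) ≫
          (DCoh.Rpush g').map ((αL g').app F)) ≫ (e w).hom.app (DerivedCategory.Qh.obj G) := by
        rw [Category.assoc, Functor.map_comp, Category.assoc]
        erw [← h2]
        rfl
    _ = (ηR f).app F ≫ (DCoh.Rpush f).map (DerivedCategory.Qh.map ((adjK g').unit.app F) ≫
          (ηR g').app G) ≫ (e w).hom.app (DerivedCategory.Qh.obj G) := by rw [h3]
    _ = DerivedCategory.Qh.map ((RpushComp.push f).map ((adjK g').unit.app F)) ≫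
          ((ηR f).app ((RpushComp.push g').obj G) ≫ (DCoh.Rpush f).map ((ηR g').app G)) ≫
            (e w).hom.app (DerivedCategory.Qh.obj G) := by
        rw [Functor.map_comp, Category.assoc, Category.assoc]
        erw [← reassoc_of% h4]
        rfl
    _ = DerivedCategory.Qh.map ((RpushComp.push f).map ((adjK g').unit.app F)) ≫
          (DerivedCategory.Qh.map ((swapK w).hom.app G) ≫ (θ f' g).app G) := by rw [h5]
    _ = _ := by rw [Functor.map_comp, Category.assoc]

/-- the criterion on representatives -/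
theorem isIso_of_rep (w : g' ≫ f = f' ≫ g) (F : KH X)
    (h₁ : IsIso ((ηR f).app F)) (h₂ : IsIso ((αL g').app F)) (h₃ : IsIso ((αL g).app ((RpushComp.push f).obj F)))
    (h₄ : IsIso ((ηR f').app (((Scheme.Modules.pullback g').mapHomotopyCategory (ComplexShape.up ℤ)).obj F)))
    (h₅ : IsIso (DerivedCategory.Qh.map (bK w F))) :
    IsIso (DCoh.baseChangeApp (adj g) (adj g') (e w) (DerivedCategory.Qh.obj F)) := by
  haveI : IsIso ((DCoh.Lpull g).map ((ηR f).app F) ≫
      DCoh.baseChangeApp (adj g) (adj g') (e w) (DerivedCategory.Qh.obj F) ≫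
        (DCoh.Rpush f').map ((αL g').app F)) := by
    rw [baseChangeApp_fac w F]
    infer_instance
  haveI := IsIso.of_isIso_comp_left ((DCoh.Lpull g).map ((ηR f).app F))
    (DCoh.baseChangeApp (adj g) (adj g') (e w) (DerivedCategory.Qh.obj F) ≫ (DCoh.Rpush f').map ((αL g').app F))
  exact IsIso.of_isIso_comp_right (DCoh.baseChangeApp (adj g) (adj g') (e w) (DerivedCategory.Qh.obj F))
    ((DCoh.Rpush f').map ((αL g').app F))

end Groth.L29.BC
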