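import Mathlib.CategoryTheory.Abelian.Projective.Extend
import Mathlib.Algebra.Homology.ShortComplex.Exact
import Mathlib.Algebra.Homology.QuasiIso

/-!
Right exact functors on projective resolutions.
-/

set_option autoImplicit false
set_option backward.defeqAttrib.useBackward true
set_option backward.isDefEq.respectTransparency false

open CategoryTheory CategoryTheory.Limits

namespace Groth.L29.BC.ResMap

variable {C D : Type*} [Category C] [Category D] [Abelian C] [Abelian D] {N : C} (R : ProjectiveResolution N)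
  (F : C ⥤ D) [F.Additive]

/-- if the higher left derived functors vanish at `N` then the image of a resolution is a resolution -/
theorem quasiIso_map_π' [PreservesFiniteColimits F]
    (hex : ∀ k : ℕ, ((R.complex.sc' (k + 2) (k + 1) k).map F).Exact) :
    QuasiIso ((F.mapHomologicalComplex (ComplexShape.up ℤ)).map R.π') := by
  refine ⟨fun n => ?_⟩
  rcases lt_trichotomy n 0 with hn | rfl | hn
  · obtain ⟨k, rfl⟩ : ∃ k : ℕ, n = -((k + 1 : ℕ) : ℤ) := ⟨((-n).toNat - 1), by omega⟩
    let e : R.cochainComplex.sc' (-((k + 2 : ℕ) : ℤ)) (-((k + 1 : ℕ) : ℤ)) (-(k : ℤ)) ≅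
        R.complex.sc' (k + 2) (k + 1) k :=
      ShortComplex.isoMk (R.cochainComplexXIso _ (k + 2) rfl) (R.cochainComplexXIso _ (k + 1) rfl)
        (R.cochainComplexXIso _ k rfl)
        (by
          dsimp
          rw [R.cochainComplex_d _ _ (k + 2) (k + 1) (by push_cast; omega) (by push_cast; omega)]
          simp)
        (by
          dsimp
          rw [R.cochainComplex_d _ _ (k + 1) k (by push_cast; omega) (by push_cast; omega)]
          simp)
    have hs : (((F.mapHomologicalComplex (ComplexShape.up ℤ)).obj R.cochainComplex).sc'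
        (-((k + 2 : ℕ) : ℤ)) (-((k + 1 : ℕ) : ℤ)) (-(k : ℤ))).Exact :=
      ShortComplex.exact_of_iso (F.mapShortComplex.mapIso e).symm (hex k)
    have h1 : ((F.mapHomologicalComplex (ComplexShape.up ℤ)).obj R.cochainComplex).ExactAt (-((k + 1 : ℕ) : ℤ)) :=
      (HomologicalComplex.exactAt_iff' _ (-((k + 2 : ℕ) : ℤ)) _ (-(k : ℤ)) (by simp; omega) (by simp)).2 hs
    refine (quasiIsoAt_iff_exactAt _ _ h1).2 ?_
    exact ShortComplex.exact_of_isZero_X₂ _ (F.map_isZero
      (HomologicalComplex.isZero_single_obj_X (ComplexShape.up ℤ) 0 N _ (by omega)))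
  · have h0 : QuasiIsoAt R.π' 0 := inferInstance
    rw [quasiIsoAt_iff' _ (-1) 0 1 (by simp) (by simp)] at h0 ⊢
    have hz : IsZero (R.cochainComplex.X 1) := R.cochainComplex.isZero_of_isStrictlyLE 0 1 (by omega)
    have hs : ∀ (a b : ℤ), ((CochainComplex.singleFunctor C 0).obj N).d a b = 0 := fun a b =>
      HomologicalComplex.single_obj_d _ _ _ _ _
    obtain ⟨hE, hEpi⟩ := (ShortComplex.quasiIso_iff_of_zeros' _ (hz.eq_of_tgt _ _) (hs _ _) (hs _ _)).1 h0
    refine (ShortComplex.quasiIso_iff_of_zeros' _ ((F.map_isZero hz).eq_of_tgt _ _)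
      ((congrArg F.map (hs _ _)).trans (F.map_zero _ _)) ((congrArg F.map (hs _ _)).trans (F.map_zero _ _))).2 ⟨?_, ?_⟩
    · exact hE.map_of_epi_of_preservesCokernel F hEpi inferInstance
    · haveI : Epi (R.π'.f 0) := hEpi
      exact F.map_epi (R.π'.f 0)
  · have hz : IsZero (R.cochainComplex.X n) := R.cochainComplex.isZero_of_isStrictlyLE 0 n hn
    have h1 : ((F.mapHomologicalComplex (ComplexShape.up ℤ)).obj R.cochainComplex).ExactAt n :=
      ShortComplex.exact_of_isZero_X₂ _ (F.map_isZero hz)
    refine (quasiIsoAt_iff_exactAt _ _ h1).2 ?_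
    exact ShortComplex.exact_of_isZero_X₂ _ (F.map_isZero
      (HomologicalComplex.isZero_single_obj_X (ComplexShape.up ℤ) 0 N _ (by omega)))

end Groth.L29.BC.ResMap
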