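import Groth.Agent.L29.BC.Global
import Groth.Agent.L29.BC.ResMap
import Groth.Agent.L29.DCoh.PushTilde
import Groth.Agent.L29.DCoh.LBC
import Groth.Agent.L28.TorFacts
import Groth.Prelude.Def_DRing2

/-!
Tor-independent base change for spectra of rings.
-/

set_option autoImplicit false
set_option backward.defeqAttrib.useBackward true
set_option backward.isDefEq.respectTransparency false
set_option backward.isDefEq.respectTransparency.types false

universe u

open CategoryTheory CategoryTheory.Limits CategoryTheory.Pretriangulated AlgebraicGeometry MonoidalCategory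

attribute [local instance] HasDerivedCategory.standard

namespace Groth.L29.BC

open Groth.L00 Groth.L29.DC

local notation "up" => ComplexShape.up ℤ

/-- a K-flat resolution preserved by pullback computes the derived pullback -/
theorem isIso_αL_of_res {X Y : Scheme.{u}} (g : X ⟶ Y) [DCoh.HasLpull g] {P M : CochainComplex Y.Modules ℤ}
    (r : P ⟶ M) [QuasiIso r] (hP : DCoh.IsKFlat P)
    [QuasiIso (((Scheme.Modules.pullback g).mapHomologicalComplex up).map r)] :
    IsIso ((αL g).app ((HomotopyCategory.quotient Y.Modules up).obj M)) := by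
  haveI := isIso_αL g P hP
  let qr := (HomotopyCategory.quotient Y.Modules up).map r
  haveI : IsIso ((DerivedCategory.Qh ⋙ DCoh.Lpull g).map qr) :=
    haveI := Localization.inverts DerivedCategory.Qh (HomotopyCategory.quasiIso Y.Modules up) qr
      ((HomotopyCategory.quotient_map_mem_quasiIso_iff r).2 ((HomologicalComplex.mem_quasiIso_iff _).2 inferInstance))
    inferInstanceAs (IsIso ((DCoh.Lpull g).map (DerivedCategory.Qh.map qr)))
  haveI : IsIso ((DCoh.pullKh g).map qr) :=
    Localization.inverts DerivedCategory.Qh (HomotopyCategory.quasiIso X.Modules up)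
      ((HomotopyCategory.quotient X.Modules up).map (((Scheme.Modules.pullback g).mapHomologicalComplex up).map r))
      ((HomotopyCategory.quotient_map_mem_quasiIso_iff _).2 ((HomologicalComplex.mem_quasiIso_iff _).2 inferInstance))
  haveI : IsIso ((DerivedCategory.Qh ⋙ DCoh.Lpull g).map qr ≫
      (αL g).app ((HomotopyCategory.quotient Y.Modules up).obj M)) := by
    rw [(αL g).naturality qr]; infer_instance
  exact IsIso.of_isIso_comp_left ((DerivedCategory.Qh ⋙ DCoh.Lpull g).map qr) _

/-- vanishing of higher Tor makes extension of scalars preserve a projective resolution -/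
theorem quasiIso_extend_π' {R S : CommRingCat.{u}} (φ : R ⟶ S) {N : ModuleCat.{u} R} (Pr : ProjectiveResolution N)
    (hTor : ∀ k : ℕ, IsZero (((CategoryTheory.Tor (ModuleCat.{u} R) (k + 1)).obj
      ((ModuleCat.restrictScalars φ.hom).obj (ModuleCat.of S S))).obj N)) :
    QuasiIso ((ModRes.eCx φ).map Pr.π') := by
  haveI : PreservesFiniteColimits (ModuleCat.extendScalars.{u, u, u} φ.hom) :=
    haveI : PreservesColimitsOfSize.{u, u} (ModuleCat.extendScalars.{u, u, u} φ.hom) :=
      (ModuleCat.extendRestrictScalarsAdj φ.hom).leftAdjoint_preservesColimits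
    PreservesColimitsOfSize.preservesFiniteColimits _
  refine ResMap.quasiIso_map_π' Pr _ fun k => ?_
  let M := (ModuleCat.restrictScalars φ.hom).obj (ModuleCat.of S S)
  have h0 := (hTor k).of_iso (Pr.isoLeftDerivedObj ((tensoringLeft _).obj M) (k + 1)).symm
  have h1 := (HomologicalComplex.exactAt_iff' _ (k + 2) (k + 1) k (by simp) (by simp)).1
    ((HomologicalComplex.exactAt_iff_isZero_homology _ _).2 h0)
  rw [ShortComplex.ShortExact.moduleCat_exact_iff_function_exact] at h1 ⊢
  exact h1

/-- derived pullback of the tilde of a Tor-independent module -/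
theorem isIso_αL_tilde_single {R S : CommRingCat.{u}} (φ : R ⟶ S) [DCoh.HasLpull (Spec.map φ)] (N : ModuleCat.{u} R)
    (hTor : ∀ k : ℕ, IsZero (((CategoryTheory.Tor (ModuleCat.{u} R) (k + 1)).obj
      ((ModuleCat.restrictScalars φ.hom).obj (ModuleCat.of S S))).obj N)) (m : ℤ) :
    IsIso ((αL (Spec.map φ)).app ((HomotopyCategory.quotient (Spec R).Modules up).obj
      ((HomologicalComplex.single (Spec R).Modules up m).obj ((tilde.functor R).obj N)))) := by
  haveI := Groth.L18.TildeF.tilde_preservesFiniteLimits (R := R)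
  haveI := Groth.L18.TildeF.tilde_preservesFiniteLimits (R := S)
  haveI : PreservesFiniteColimits (tilde.functor R) :=
    haveI : PreservesColimitsOfSize.{u, u} (tilde.functor R) := (tilde.adjunction (R := R)).leftAdjoint_preservesColimits
    PreservesColimitsOfSize.preservesFiniteColimits _
  haveI : PreservesFiniteColimits (tilde.functor S) :=
    haveI : PreservesColimitsOfSize.{u, u} (tilde.functor S) := (tilde.adjunction (R := S)).leftAdjoint_preservesColimits
    PreservesColimitsOfSize.preservesFiniteColimits _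
  haveI hR : (tilde.functor R).PreservesHomology := inferInstance
  haveI hS : (tilde.functor S).PreservesHomology := inferInstance
  let Pr := projectiveResolution N
  let P := Pr.cochainComplex⟦-m⟧
  let σ : ((CochainComplex.singleFunctor (ModuleCat.{u} R) 0).obj N)⟦-m⟧ ≅ (HomologicalComplex.single (ModuleCat.{u} R) up m).obj N :=
    ((CochainComplex.singleFunctors (ModuleCat.{u} R)).shiftIso (-m) m 0 (by omega)).app N
  let r : P ⟶ (HomologicalComplex.single (ModuleCat.{u} R) up m).obj N :=
    (CategoryTheory.shiftFunctor _ (-m)).map Pr.π' ≫ σ.hom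
  haveI := quasiIso_extend_π' φ Pr hTor
  haveI : QuasiIso ((CategoryTheory.shiftFunctor (CochainComplex (ModuleCat.{u} R) ℤ) (-m)).map Pr.π') := inferInstance
  haveI : QuasiIso r := inferInstance
  have hr' : QuasiIso ((ModRes.eCx φ).map r) := by
    rw [Functor.map_comp]
    haveI : QuasiIso ((ModRes.eCx φ).map ((CategoryTheory.shiftFunctor _ (-m)).map Pr.π')) :=
      (quasiIso_iff_of_arrow_mk_iso _ _ ((Functor.mapArrowFunctor _ _).mapIso ((ModRes.eCx φ).commShiftIso (-m)) |>.app
        (Arrow.mk Pr.π'))).2 (inferInstanceAs (QuasiIso ((CategoryTheory.shiftFunctor _ (-m)).map ((ModRes.eCx φ).map Pr.π'))))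
    infer_instance
  have hP : DCoh.IsKFlat ((ModRes.tCx R).obj P) := by
    refine KFlat.of_bounded _ m ?_ fun n => ?_
    · haveI : Pr.cochainComplex.IsStrictlyLE 0 := inferInstance
      rw [CochainComplex.isStrictlyLE_iff]
      intro i hi
      exact (tilde.functor R).map_isZero (Pr.cochainComplex.isZero_of_isStrictlyLE 0 (i + -m) (by omega))
    · haveI : Projective (Pr.cochainComplex.X (n + -m)) := inferInstance
      haveI : Module.Projective R (Pr.cochainComplex.X (n + -m)) :=
        (IsProjective.iff_projective (R := R) (Pr.cochainComplex.X (n + -m))).2 inferInstance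
      exact ModRes.isFlat_tilde (Pr.cochainComplex.X (n + -m))
  haveI : QuasiIso ((ModRes.tCx R).map r) := HomologicalComplex.quasiIso_map_of_preservesHomology r (tilde.functor R)
  let e := (HomologicalComplex.singleMapHomologicalComplex (tilde.functor R) up m).app N
  haveI : QuasiIso (((Scheme.Modules.pullback (Spec.map φ)).mapHomologicalComplex up).map ((ModRes.tCx R).map r)) := by
    refine (quasiIso_iff_of_arrow_mk_iso _ _ ((Functor.mapArrowFunctor _ _).mapIso (ModRes.pullTildeCx φ) |>.app (Arrow.mk r))).2 ?_
    haveI := hr'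
    exact HomologicalComplex.quasiIso_map_of_preservesHomology ((ModRes.eCx φ).map r) (tilde.functor S)
  have h := isIso_αL_of_res (Spec.map φ) ((ModRes.tCx R).map r) hP
  exact (NatTrans.isIso_app_iff_of_iso (αL (Spec.map φ)) ((HomotopyCategory.quotient (Spec R).Modules up).mapIso e)).1 h

set_option maxHeartbeats 1600000 in
/-- Tor-independent base change for spectra -/
theorem BC_spec {R S B : CommRingCat.{u}} (φ : R ⟶ S) (ψ : R ⟶ B) {X' : Scheme.{u}} {g' : X' ⟶ Spec B}
    {f' : X' ⟶ Spec S} (hc : IsPullback g' f' (Spec.map ψ) (Spec.map φ))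
    [DCoh.HasRpush (Spec.map ψ)] [DCoh.HasRpush (Spec.map φ)] [DCoh.HasRpush f'] [DCoh.HasRpush g']
    [DCoh.HasLpull (Spec.map φ)] [DCoh.HasLpull g']
    (hTor : ∀ k : ℕ, IsZero (((CategoryTheory.Tor (ModuleCat.{u} R) (k + 1)).obj
      ((ModuleCat.restrictScalars φ.hom).obj (ModuleCat.of S S))).obj
        ((ModuleCat.restrictScalars ψ.hom).obj (ModuleCat.of B B)))) : BC hc.w := by
  intro E hE
  haveI : IsAffineHom f' := MorphismProperty.of_isPullback hc inferInstance
  let V := Spec B
  let O := Coh.structureModule V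
  have hO : Coh.IsQCoh O := Groth.L19.Conormal.isQCoh_structureModule _
  have gen : ∀ k : ℤ, IsIso (β hc.w (((DerivedCategory.singleFunctor V.Modules 0).obj O)⟦k⟧)) := fun k => by
    have hp : IsPullback g' (𝟙 X') (𝟙 V) g' := IsPullback.of_vert_isIso ⟨(Category.comp_id _).trans (Category.id_comp _).symm⟩
    let N := (HomologicalComplex.single V.Modules up (-k)).obj O
    let o : (Scheme.Modules.pushforward (Spec.map ψ)).obj ((Scheme.Modules.pushforward (𝟙 V)).obj O) ≅
        (tilde.functor R).obj ((ModuleCat.restrictScalars ψ.hom).obj (ModuleCat.of B B)) :=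
      (Scheme.Modules.pushforward (Spec.map ψ)).mapIso ((Scheme.Modules.pushforwardId V).app O ≪≫ tildeSelf.symm) ≪≫
        PushTilde.pushTildeApp ψ (ModuleCat.of B B)
    let iF : ((Scheme.Modules.pushforward (Spec.map ψ)).mapHomologicalComplex up).obj
          (((Scheme.Modules.pushforward (𝟙 V)).mapHomologicalComplex up).obj N) ≅
        (HomologicalComplex.single (Spec R).Modules up (-k)).obj
          ((tilde.functor R).obj ((ModuleCat.restrictScalars ψ.hom).obj (ModuleCat.of B B))) :=
      ((Scheme.Modules.pushforward (Spec.map ψ)).mapHomologicalComplex up).mapIso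
          ((HomologicalComplex.singleMapHomologicalComplex (Scheme.Modules.pushforward (𝟙 V)) up (-k)).app O) ≪≫
        (HomologicalComplex.singleMapHomologicalComplex (Scheme.Modules.pushforward (Spec.map ψ)) up (-k)).app _ ≪≫
        (HomologicalComplex.single (Spec R).Modules up (-k)).mapIso o
    have hα := (NatTrans.isIso_app_iff_of_iso (αL (Spec.map φ))
      ((HomotopyCategory.quotient (Spec R).Modules up).mapIso iF)).2 (isIso_αL_tilde_single φ _ hTor (-k))
    have h := isIso_β_push_single hc hp hO (isFlat_structureModule _) (-k) hα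
    refine isIso_β_of_iso hc.w ?_ h
    exact (DerivedCategory.quotientCompQhIso V.Modules).app _ ≪≫
      DerivedCategory.Q.mapIso ((HomologicalComplex.singleMapHomologicalComplex (Scheme.Modules.pushforward (𝟙 V)) up (-k)).app O ≪≫
        (HomologicalComplex.single V.Modules up (-k)).mapIso ((Scheme.Modules.pushforwardId V).app O)) ≪≫
      (((SingleFunctors.evaluation _ _ (-k)).mapIso
        (DerivedCategory.singleFunctorsPostcompQIso V.Modules)).app O).symm ≪≫
      (((DerivedCategory.singleFunctors V.Modules).shiftIso k (-k) 0 (by omega)).app O).symm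
  obtain ⟨G, hG, hgen, ⟨eG⟩⟩ := exists_unit_generator V
  haveI := Gen.locallySmall_D V
  haveI : HasCoproducts.{u} (DCoh.D V) := Gen.hasCoproducts_D _
  haveI : HasColimitsOfShape (Discrete ℕ) (DCoh.D V) :=
    hasColimitsOfShape_of_equivalence (Discrete.equivalence (Equiv.ulift.{u} : ULift.{u} ℕ ≃ ℕ))
  haveI : ∀ (Y : DCoh.D V) (n : ℤ), Small.{u} (G⟦n⟧ ⟶ Y) := fun Y n => inferInstance
  have hGq := PCQCoh.isQCohD_of_perfect hG
  refine (localizing_top (P hc.w) (DCoh.IsQCohD (X := V))
    (fun e h => h.of_iso hc.w e) (fun n k => ?_) (fun {ι} C hC h => P.coproduct hc.w C hC h)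
    (fun T hT _ _ h₁ h₂ => P.third hc.w T hT h₁ h₂)
    (fun n => Gen.isQCohD_shift hGq n) (fun {ι} C hC => QCohColim.isQCohD_coproduct C hC) (fun C hC => ?_)
    (fun T hT h₁ h₂ => Gen.isQCohD_third T hT h₁ h₂) (fun n => Gen.cpt_of_perfect (perfect_shift hG n))
    hgen hE).isIso
  · exact isIso_β_of_iso hc.w ((shiftFunctor (DCoh.D V) (n + k)).mapIso eG.symm ≪≫
      (shiftFunctorAdd (DCoh.D V) n k).app G) (gen (n + k))
  · refine isQCohD_of_iso ?_ (QCohColim.isQCohD_coproduct (fun n : ULift.{u} ℕ => C n.down) fun n => hC n.down)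
    exact Sigma.whiskerEquiv (f := fun n : ULift.{u} ℕ => C n.down) (g := C) Equiv.ulift.{u} fun n => Iso.refl _

end Groth.L29.BC
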